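import Cfsg.Agent.Lib.Helper19.CoxRep

set_option autoImplicit false

namespace Cfsg.Agent.Lib.Helper19.Cox

namespace UG2

/-- Coxeter matrix table. -/
def tMM : ℕ := 0x1661
/-- indices -/
def tN : ℕ := 0x60002
/-- coset tables -/
def tT : ℕ := 0x400050005000300020004000300010000000200010000000000000000000000000000000000000000000000000001
/-- ranks -/
def tR : ℕ := 0x100020000000100010000000000010001000000000000000000000000000000000000000000000000000100000000
/-- codes -/
def tK : ℕ := 0x20400020200000202000001000000000000000000020000
/-- parents -/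
def tP : ℕ := 0x400030002000100000000000000000000000000000000
/-- tree generators -/
def tG : ℕ := 0x10001000100000000000000
/-- permutation action -/
def tPi : ℕ := 0x400050002000300000001000500030004000100020000
/-- base points -/
def tOm : ℕ := 0x1
/-- orbit points -/
def tO : ℕ := 0x500040003000200010000000000000000000000020001
/-- inverse orbit tables -/
def tI : ℕ := 0x500040003000200010000000000000000000100000000
/-- straight-line program: permutations -/
def tTT : ℕ := 0x400050002000300000001000500030004000100020000000300050001000400000002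
/-- straight-line program: left operands -/
def tSA : ℕ := 0x100000000
/-- straight-line program: right operands -/
def tSB : ℕ := 0x0
/-- straight-line program: targets -/
def tTG : ℕ := 0x20001

/-- The certificate data for type G2 (single orbit). -/
def data : Data where
  n := 2
  mm := fun i j => tget tMM 4 (i * 2 + j)
  N := fun k => tget tN 16 k
  τ := fun k c i => tget tT 16 ((k * 6 + c) * 2 + i)
  ρ := fun k c i => tget tR 16 ((k * 6 + c) * 2 + i)
  κ := fun k c i => tget tK 8 ((k * 6 + c) * 2 + i)
  par := fun k c => tget tP 16 (k * 6 + c)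
  gen := fun k c => tget tG 8 (k * 6 + c)
  d := 6
  π := fun i x => tget tPi 16 (i * 6 + x)
  ω := fun k => tget tOm 16 k
  O := fun k c => tget tO 16 (k * 6 + c)
  Inv := fun k x => tget tI 16 (k * 6 + x)

theorem data_check : data.check = true := by decide +kernel

theorem data_mat : ∀ i j : Fin 2, ((CoxeterMatrix.G₂) : CoxeterMatrix (Fin 2)) i j = data.mm i j :=
  data.of_matCheck (CoxeterMatrix.G₂) (by decide +kernel)

/-- The faithful permutation representation. -/
noncomputable def rep : (CoxeterMatrix.G₂ : CoxeterMatrix (Fin 2)).Group →* Equiv.Perm ℕ :=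
  data.hom data_check (CoxeterMatrix.G₂) data_mat

theorem rep_inj : Function.Injective rep := data.hom_injective data_check (CoxeterMatrix.G₂) data_mat

theorem rep_simple (j : Fin 2) (x : ℕ) :
    rep ((CoxeterMatrix.G₂ : CoxeterMatrix (Fin 2)).simple j) x = data.act ((fun j => j) (j : ℕ)) x :=
  (congrArg (fun p : Equiv.Perm ℕ => p x) (data.hom_simple data_check (CoxeterMatrix.G₂) data_mat j)).trans
    (data.perm_apply data_check j.2 x)

theorem zcheck : zCheck data (fun j => j) (fun i => i) 3 2 = true := by decide +kernel

theorem center : Nat.card (Subgroup.center (CoxeterMatrix.G₂ : CoxeterMatrix (Fin 2)).Group) = 2 ∧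
    Subgroup.center (CoxeterMatrix.G₂ : CoxeterMatrix (Fin 2)).Group ≤
      Subgroup.zpowers ((List.finRange 2).map (CoxeterMatrix.G₂ : CoxeterMatrix (Fin 2)).simple).prod :=
  center_of_zCheck data data_check rep rep_inj (fun j => j) (fun i => i) rep_simple 3 2 zcheck

theorem slp_check : slpCheck data.act (fun j => j) data.n data.d 1 (fun _ => 0) 3
    (fun k x => tget tTT 16 (k * 6 + x)) (fun k => tget tSA 16 k) (fun k => tget tSB 16 k)
    (fun j => tget tTG 16 j) = true := by decide +kernel

theorem gen : ∃ T : Finset (CoxeterMatrix.G₂ : CoxeterMatrix (Fin 2)).Group, T.card = 1 ∧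
      (∀ t ∈ T, ∃ (g : (CoxeterMatrix.G₂ : CoxeterMatrix (Fin 2)).Group) (i : Fin 2),
        t = g * (CoxeterMatrix.G₂ : CoxeterMatrix (Fin 2)).simple i * g⁻¹) ∧
      Subgroup.closure (({((List.finRange 2).map (CoxeterMatrix.G₂ : CoxeterMatrix (Fin 2)).simple).prod} :
        Set (CoxeterMatrix.G₂ : CoxeterMatrix (Fin 2)).Group) ∪ ↑T) = ⊤ :=
  gen_exists_one (CoxeterMatrix.G₂) rep rep_inj data.act data.d (fun j => j) rep_simple
    (fun i x h => data.act_of_ge i x h) 0 3 _ _ _ _ slp_check

end UG2

end Cfsg.Agent.Lib.Helper19.Cox
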