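import Mathlib

/-!
# Verified stabiliser chains (Schreier–Sims certificates) for permutation groups on `Fin n`

`step`: one level of a stabiliser chain (Schreier's lemma in certificate form).
`Level`/`Level.Check`: decidable certificate for one level, for a group given by a list of
generators (the groups of the chain are generated by prefixes of the list).
`exists_map_base`, `mem_of_fix`: multiple transitivity / sharpness from a chain.
-/

set_option autoImplicit false

namespace Cfsg.Agent.Lib.Helper19.BSGS

open Equiv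

section abstract

variable {α : Type*}

/-- One level of a stabiliser chain: if the Schreier generators `U (s c)⁻¹ * s * U c` all lie in
`H`, then every element of `closure S` is `U c * h` with `c` in the orbit `O` and `h ∈ H`. -/
theorem step [Finite α] (S : Set (Perm α)) (H : Subgroup (Perm α)) (b : α)
    (U : α → Perm α) (O : Set α)
    (hb : b ∈ O) (hUb : U b = 1)
    (hstep : ∀ s ∈ S, ∀ c ∈ O, s c ∈ O ∧ (U (s c))⁻¹ * s * U c ∈ H) :
    ∀ g ∈ Subgroup.closure S, g b ∈ O ∧ (U (g b))⁻¹ * g ∈ H := by
  have key : ∀ s ∈ S, ∀ y : Perm α, (y b ∈ O ∧ (U (y b))⁻¹ * y ∈ H) →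
      ((s * y) b ∈ O ∧ (U ((s * y) b))⁻¹ * (s * y) ∈ H) := by
    intro s hs y ⟨hy1, hy2⟩
    obtain ⟨h1, h2⟩ := hstep s hs _ hy1
    refine ⟨by simpa using h1, ?_⟩
    have : (U ((s * y) b))⁻¹ * (s * y) = ((U (s (y b)))⁻¹ * s * U (y b)) * ((U (y b))⁻¹ * y) := by
      simp [mul_assoc]
    rw [this]; exact H.mul_mem h2 hy2
  have keypow : ∀ s ∈ S, ∀ k : ℕ, ∀ y : Perm α, (y b ∈ O ∧ (U (y b))⁻¹ * y ∈ H) →
      ((s ^ k * y) b ∈ O ∧ (U ((s ^ k * y) b))⁻¹ * (s ^ k * y) ∈ H) := by
    intro s hs k
    induction k with
    | zero => intro y hy; simpa using hy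
    | succ k ih => intro y hy; rw [pow_succ', mul_assoc]; exact key s hs _ (ih y hy)
  intro g hg
  induction hg using Subgroup.closure_induction_left with
  | one => simp [hUb, hb]
  | mul_left x hx y hy ih => exact key x hx y ih
  | inv_mul_cancel x hx y hy ih =>
    have : x⁻¹ = x ^ (orderOf x - 1) := by
      rw [inv_eq_iff_mul_eq_one, ← pow_succ', Nat.sub_add_cancel (orderOf_pos x),
        pow_orderOf_eq_one]
    rw [this]; exact keypow x hx _ y ih

/-- The order of the group at one level of a stabiliser chain. -/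
theorem card_eq [Finite α] (S : Set (Perm α)) (H : Subgroup (Perm α)) (b : α)
    (U : α → Perm α) (O : Finset α)
    (hb : b ∈ O) (hUb : U b = 1)
    (hstep : ∀ s ∈ S, ∀ c ∈ O, s c ∈ O ∧ (U (s c))⁻¹ * s * U c ∈ H)
    (hH : H ≤ Subgroup.closure S) (hHb : ∀ h ∈ H, h b = b)
    (hU : ∀ c ∈ O, U c ∈ Subgroup.closure S ∧ U c b = c) :
    Nat.card (Subgroup.closure S) = O.card * Nat.card H := by
  have hst := step S H b U (O : Set α) hb hUb hstep
  let e : Subgroup.closure S ≃ {c // c ∈ O} × H :=
    { toFun := fun g => (⟨g.1 b, (hst g.1 g.2).1⟩, ⟨(U (g.1 b))⁻¹ * g.1, (hst g.1 g.2).2⟩)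
      invFun := fun p => ⟨U p.1.1 * p.2.1, mul_mem (hU _ p.1.2).1 (hH p.2.2)⟩
      left_inv := by
        intro g
        apply Subtype.ext
        simp
      right_inv := by
        rintro ⟨⟨c, hc⟩, ⟨h, hh⟩⟩
        have h1 : (U c * h) b = c := by
          rw [Perm.mul_apply, hHb h hh, (hU c hc).2]
        apply Prod.ext
        · apply Subtype.ext
          simpa using h1
        · apply Subtype.ext
          simp only [h1]
          simp }
  rw [Nat.card_congr e, Nat.card_prod]
  congr 1
  rw [Nat.card_eq_fintype_card, Fintype.card_coe]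

/-- Multiple transitivity from a chain of subgroups `G 0 ≥ G 1 ≥ …` with base points `b i`:
every injective sequence can be moved onto the base. -/
theorem exists_map_base (G : ℕ → Subgroup (Perm α)) (b : ℕ → α) (k : ℕ)
    (hanti : ∀ i, G (i + 1) ≤ G i)
    (hfix : ∀ i, ∀ g ∈ G (i + 1), g (b i) = b i)
    (htrans : ∀ i < k, ∀ c, (∀ j < i, c ≠ b j) → ∃ g ∈ G i, g c = b i)
    (y : ℕ → α) (hy : ∀ i < k, ∀ j < i, y i ≠ y j) :
    ∀ m ≤ k, ∃ g ∈ G 0, ∀ i < m, g (y i) = b i := by
  have hmono : Antitone G := antitone_nat_of_succ_le hanti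
  intro m
  induction m with
  | zero => intro _; exact ⟨1, one_mem _, by simp⟩
  | succ m ih =>
    intro hm
    obtain ⟨g, hg, hgy⟩ := ih (by omega)
    have hc : ∀ j < m, g (y m) ≠ b j := by
      intro j hj h
      rw [← hgy j hj] at h
      exact hy m (by omega) j hj (g.injective h)
    obtain ⟨h, hh, hhc⟩ := htrans m (by omega) (g (y m)) hc
    refine ⟨h * g, mul_mem (hmono (Nat.zero_le m) hh) hg, ?_⟩
    intro i hi
    rw [Perm.mul_apply]
    rcases Nat.lt_succ_iff_lt_or_eq.mp hi with hi' | rfl
    · rw [hgy i hi']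
      exact hfix i h (hmono (by omega : i + 1 ≤ m) hh)
    · exact hhc

/-- An element of `G 0` fixing the first `k` base points lies in `G k`. -/
theorem mem_of_fix (G : ℕ → Subgroup (Perm α)) (b : ℕ → α) (k : ℕ)
    (hstab : ∀ i < k, ∀ g ∈ G i, g (b i) = b i → g ∈ G (i + 1))
    (g : Perm α) (hg : g ∈ G 0) (hfix : ∀ i < k, g (b i) = b i) : g ∈ G k := by
  have : ∀ m ≤ k, g ∈ G m := by
    intro m
    induction m with
    | zero => intro _; exact hg
    | succ m ih => intro hm; exact hstab m (by omega) g (ih (by omega)) (hfix m (by omega))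
  exact this k le_rfl

end abstract

section concrete

variable {n : ℕ}

/-- apply the word `w` (indices into `gens`, leftmost letter applied last) to a point -/
def applyw (gens : List (Perm (Fin n))) (w : List ℕ) (x : Fin n) : Fin n :=
  w.foldr (fun i y => gens.getD i 1 y) x

/-- the permutation given by the word `w` -/
def evalw (gens : List (Perm (Fin n))) (w : List ℕ) : Perm (Fin n) :=
  (w.map (fun i => gens.getD i 1)).prod

theorem evalw_apply (gens : List (Perm (Fin n))) (w : List ℕ) (x : Fin n) :
    evalw gens w x = applyw gens w x := by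
  induction w with
  | nil => simp [evalw, applyw]
  | cons i w ih =>
    simp only [evalw, applyw, List.map_cons, List.prod_cons, Perm.mul_apply, List.foldr_cons]
      at ih ⊢
    rw [ih]

/-- the set of the first `k` generators -/
def gset (gens : List (Perm (Fin n))) (k : ℕ) : Set (Perm (Fin n)) :=
  {g | ∃ j, j < k ∧ gens.getD j 1 = g}

theorem gset_mono (gens : List (Perm (Fin n))) {k k' : ℕ} (h : k' ≤ k) :
    gset gens k' ⊆ gset gens k := by
  rintro g ⟨j, hj, rfl⟩
  exact ⟨j, by omega, rfl⟩

theorem gset_zero (gens : List (Perm (Fin n))) : gset gens 0 = ∅ := by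
  ext g; simp [gset]

theorem evalw_mem (gens : List (Perm (Fin n))) (k : ℕ) (w : List ℕ) (hw : ∀ i ∈ w, i < k) :
    evalw gens w ∈ Subgroup.closure (gset gens k) := by
  unfold evalw
  apply Subgroup.list_prod_mem
  intro x hx
  rw [List.mem_map] at hx
  obtain ⟨i, hi, rfl⟩ := hx
  exact Subgroup.subset_closure ⟨i, hw i hi, rfl⟩

/-- Data of one level of a stabiliser chain: the group is generated by the first `k` generators,
the next group by the first `k'`; `b` is the base point, `O` its orbit, `tree` gives for each point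
`c` of the orbit a word mapping `b` to `c`, and `cert` gives for each generator index `j` and point
`c` a word in the first `k'` generators equal to the Schreier generator. -/
structure Level (n : ℕ) where
  k : ℕ
  k' : ℕ
  b : Fin n
  O : List (Fin n)
  tree : List (List ℕ)
  cert : List (List (List ℕ))

/-- the word for the transversal element of `c` -/
def Level.tr (L : Level n) (c : Fin n) : List ℕ := L.tree.getD c.val []

/-- the certificate word for generator `j` and point `c` -/
def Level.ce (L : Level n) (j : ℕ) (c : Fin n) : List ℕ := (L.cert.getD j []).getD c.val []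

/-- the certificate check for one generator index and one point -/
def Level.CheckPt (gens : List (Perm (Fin n))) (L : Level n) (j : ℕ) (c : Fin n) : Prop :=
  gens.getD j 1 c ∈ L.O ∧ (∀ i ∈ L.ce j c, i < L.k') ∧
    ∀ x ∈ List.finRange n, gens.getD j 1 (applyw gens (L.tr c) x) =
      applyw gens (L.tr (gens.getD j 1 c)) (applyw gens (L.ce j c) x)

instance (gens : List (Perm (Fin n))) (L : Level n) (j : ℕ) (c : Fin n) :
    Decidable (L.CheckPt gens j c) := by
  unfold Level.CheckPt; infer_instance

/-- the certificate check for one generator index -/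
def Level.CheckGen (gens : List (Perm (Fin n))) (L : Level n) (j : ℕ) : Prop :=
  ∀ c ∈ L.O, L.CheckPt gens j c

instance (gens : List (Perm (Fin n))) (L : Level n) (j : ℕ) :
    Decidable (L.CheckGen gens j) := by
  unfold Level.CheckGen; infer_instance

/-- the certificate check for the transversal -/
def Level.CheckTree (gens : List (Perm (Fin n))) (L : Level n) : Prop :=
  ∀ c ∈ L.O, (∀ i ∈ L.tr c, i < L.k) ∧ applyw gens (L.tr c) L.b = c

instance (gens : List (Perm (Fin n))) (L : Level n) : Decidable (L.CheckTree gens) := by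
  unfold Level.CheckTree; infer_instance

/-- the decidable certificate check -/
def Level.Check (gens : List (Perm (Fin n))) (L : Level n) : Prop :=
  L.b ∈ L.O ∧ L.tr L.b = [] ∧ L.k' ≤ L.k ∧ L.CheckTree gens ∧
  (∀ j, j < L.k' → gens.getD j 1 L.b = L.b) ∧
  (∀ j, j < L.k → L.CheckGen gens j)

instance (gens : List (Perm (Fin n))) (L : Level n) : Decidable (L.Check gens) := by
  unfold Level.Check; infer_instance

variable {gens : List (Perm (Fin n))} {L : Level n}

theorem Level.le (h : L.Check gens) :
    Subgroup.closure (gset gens L.k') ≤ Subgroup.closure (gset gens L.k) :=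
  Subgroup.closure_mono (gset_mono gens h.2.2.1)

theorem Level.fix (h : L.Check gens) :
    ∀ g ∈ Subgroup.closure (gset gens L.k'), g L.b = L.b := by
  intro g hg
  have : Subgroup.closure (gset gens L.k') ≤ MulAction.stabilizer (Perm (Fin n)) L.b := by
    rw [Subgroup.closure_le]
    rintro g ⟨j, hj, rfl⟩
    exact h.2.2.2.2.1 j hj
  exact this hg

theorem Level.tr_mem (h : L.Check gens) (c : Fin n) (hc : c ∈ L.O) :
    evalw gens (L.tr c) ∈ Subgroup.closure (gset gens L.k) ∧ evalw gens (L.tr c) L.b = c :=
  ⟨evalw_mem gens L.k _ (h.2.2.2.1 c hc).1, by rw [evalw_apply]; exact (h.2.2.2.1 c hc).2⟩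

theorem Level.hstep (h : L.Check gens) :
    ∀ s ∈ gset gens L.k, ∀ c ∈ (L.O.toFinset : Set (Fin n)), s c ∈ (L.O.toFinset : Set (Fin n)) ∧
      (evalw gens (L.tr (s c)))⁻¹ * s * evalw gens (L.tr c) ∈
        Subgroup.closure (gset gens L.k') := by
  rintro s ⟨j, hj, rfl⟩ c hc
  have hc' : c ∈ L.O := by simpa using hc
  obtain ⟨h1, h2, h3⟩ := h.2.2.2.2.2 j hj c hc'
  refine ⟨by simpa using h1, ?_⟩
  have : (evalw gens (L.tr (gens.getD j 1 c)))⁻¹ * gens.getD j 1 * evalw gens (L.tr c) =
      evalw gens (L.ce j c) := by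
    rw [mul_assoc, inv_mul_eq_iff_eq_mul]
    ext x
    simp only [Perm.mul_apply, evalw_apply]
    rw [h3 x (List.mem_finRange x)]
  rw [this]
  exact evalw_mem gens L.k' _ h2

theorem Level.tr_b (h : L.Check gens) : evalw gens (L.tr L.b) = 1 := by
  rw [h.2.1]; simp [evalw]

/-- elements of the level group fixing the base point lie in the next group -/
theorem Level.stab (h : L.Check gens) :
    ∀ g ∈ Subgroup.closure (gset gens L.k), g L.b = L.b →
      g ∈ Subgroup.closure (gset gens L.k') := by
  intro g hg hgb
  have := (step (gset gens L.k) (Subgroup.closure (gset gens L.k')) L.b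
    (fun c => evalw gens (L.tr c)) (L.O.toFinset : Set (Fin n)) (by simpa using h.1)
    (Level.tr_b h) (Level.hstep h) g hg).2
  simp only [hgb] at this
  rw [Level.tr_b h] at this
  simpa using this

/-- the orbit of the base point is contained in `O` -/
theorem Level.mem_O (h : L.Check gens) :
    ∀ g ∈ Subgroup.closure (gset gens L.k), g L.b ∈ L.O := by
  intro g hg
  have := (step (gset gens L.k) (Subgroup.closure (gset gens L.k')) L.b
    (fun c => evalw gens (L.tr c)) (L.O.toFinset : Set (Fin n)) (by simpa using h.1)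
    (Level.tr_b h) (Level.hstep h) g hg).1
  simpa using this

/-- every point of `O` can be moved to the base point -/
theorem Level.trans (h : L.Check gens) (c : Fin n) (hc : c ∈ L.O) :
    ∃ g ∈ Subgroup.closure (gset gens L.k), g c = L.b := by
  obtain ⟨h1, h2⟩ := Level.tr_mem h c hc
  refine ⟨(evalw gens (L.tr c))⁻¹, inv_mem h1, ?_⟩
  rw [Perm.inv_eq_iff_eq]
  exact h2.symm

/-- the order of the level group -/
theorem Level.card (h : L.Check gens) :
    Nat.card (Subgroup.closure (gset gens L.k)) =
      L.O.toFinset.card * Nat.card (Subgroup.closure (gset gens L.k')) := by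
  apply card_eq (gset gens L.k) (Subgroup.closure (gset gens L.k')) L.b
    (fun c => evalw gens (L.tr c)) L.O.toFinset (by simpa using h.1) (Level.tr_b h)
    (by simpa using Level.hstep h) (Level.le h) (Level.fix h)
  intro c hc
  exact Level.tr_mem h c (by simpa using hc)

end concrete

end Cfsg.Agent.Lib.Helper19.BSGS
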