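import Cfsg.Agent.Lib.Helper19.CoxStep

/-!
# Coset-table certificates with arbitrary relators

A static (rank-ordered) certificate that a table describes the action of involutions `σ i` on the
points `x c` obtained from a base point along a spanning tree: every entry is a tree edge, a
subgroup-generator loop at the base point, the inverse of an entry of lower rank, or is deduced
from a relator all of whose other edges have lower rank.  `step_upper` turns it into an index
bound for the subgroups generated by initial segments of a sequence of involutions.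
-/

set_option autoImplicit false

namespace Cfsg.Agent.Lib.Helper19.RC

open Cfsg.Agent.Lib.Helper19.Cox (L L_mono mem_L L_zero)

/-- Follow the word `w` from `x` (the first letter is applied first). -/
def wact {X : Type*} (σ : ℕ → X → X) (w : List ℕ) (x : X) : X := w.foldl (fun y i => σ i y) x

theorem wact_nil {X : Type*} (σ : ℕ → X → X) (x : X) : wact σ [] x = x := rfl

theorem wact_cons {X : Type*} (σ : ℕ → X → X) (i : ℕ) (w : List ℕ) (x : X) :
    wact σ (i :: w) x = wact σ w (σ i x) := rfl

theorem wact_inj {X : Type*} (σ : ℕ → X → X) (k : ℕ) (hinv : ∀ i < k, ∀ x, σ i (σ i x) = x) :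
    ∀ (w : List ℕ), (∀ i ∈ w, i < k) → ∀ x y : X, wact σ w x = wact σ w y → x = y := by
  intro w
  induction w with
  | nil => intro _ x y h; exact h
  | cons i w ih =>
    intro hw x y h
    rw [wact_cons, wact_cons] at h
    have h1 := ih (fun j hj => hw j (List.mem_cons_of_mem _ hj)) _ _ h
    have h2 := congrArg (σ i) h1
    rwa [hinv i (hw i List.mem_cons_self), hinv i (hw i List.mem_cons_self)] at h2

/-- `f x` holds for all `x < n` (a kernel-friendly bounded quantifier). -/
def allBelow (f : ℕ → Bool) : ℕ → Bool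
  | 0 => true
  | n + 1 => f n && allBelow f n

theorem allBelow_iff (f : ℕ → Bool) (n : ℕ) : allBelow f n = true ↔ ∀ x < n, f x = true := by
  induction n with
  | zero => simp [allBelow]
  | succ n ih =>
    simp only [allBelow, Bool.and_eq_true, ih]
    constructor
    · rintro ⟨h1, h2⟩ x hx
      rcases Nat.lt_succ_iff_lt_or_eq.mp hx with h | rfl
      · exact h2 x h
      · exact h1
    · intro h
      exact ⟨h n (Nat.lt_succ_self n), fun x hx => h x (Nat.lt_succ_of_lt hx)⟩

/-- A coset-table certificate with general relators. -/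
structure RCert where
  /-- number of cosets -/
  N : ℕ
  /-- number of generators -/
  k : ℕ
  /-- the relators -/
  rels : ℕ → List ℕ
  /-- the table -/
  τ : ℕ → ℕ → ℕ
  /-- ranks of the entries -/
  ρ : ℕ → ℕ → ℕ
  /-- justification codes -/
  κ : ℕ → ℕ → ℕ
  /-- tree parent -/
  par : ℕ → ℕ
  /-- tree generator -/
  gen : ℕ → ℕ

namespace RCert

variable (C : RCert)

/-- Follow the word `w` from coset `d`, all entries of rank `< r`, ending at `tgt`. -/
def scan (r : ℕ) : List ℕ → ℕ → ℕ → Bool
  | [], d, tgt => Nat.beq d tgt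
  | p :: ps, d, tgt => Nat.blt p C.k && Nat.blt (C.ρ d p) r && scan r ps (C.τ d p) tgt

/-- The justification of one entry. -/
def checkEntry (c i : ℕ) : Bool :=
  Nat.blt (C.τ c i) C.N &&
  (match C.κ c i with
   | 0 => Nat.blt 0 (C.τ c i) && Nat.beq (C.par (C.τ c i)) c && Nat.beq (C.gen (C.τ c i)) i
   | 1 => Nat.beq c 0 && Nat.beq (C.τ c i) 0 && Nat.blt (i + 1) C.k
   | 2 => Nat.beq (C.τ (C.τ c i) i) c && Nat.blt (C.ρ (C.τ c i) i) (C.ρ c i)
   | j + 3 => decide (((C.rels (j / 256)).rotate (j % 256)).head? = some i) &&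
       C.scan (C.ρ c i) ((C.rels (j / 256)).rotate (j % 256)).tail (C.τ c i) c)

/-- The whole check. -/
def check : Bool :=
  Nat.blt 0 C.N &&
  allBelow (fun c => Nat.beq c 0 || Nat.blt (C.par c) c) C.N &&
  allBelow (fun c => allBelow (fun i => C.checkEntry c i) C.k) C.N

/-- The points, by recursion along the tree (with fuel). -/
def pt {X : Type*} (σ : ℕ → X → X) (x₀ : X) : ℕ → ℕ → X
  | 0, _ => x₀
  | f + 1, c => if c = 0 then x₀ else σ (C.gen c) (pt σ x₀ f (C.par c))

theorem pt_stable {X : Type*} (σ : ℕ → X → X) (x₀ : X)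
    (hpar : ∀ c < C.N, c = 0 ∨ C.par c < c) :
    ∀ c, c < C.N → ∀ f₁ f₂, c < f₁ → c < f₂ → C.pt σ x₀ f₁ c = C.pt σ x₀ f₂ c := by
  intro c
  induction c using Nat.strong_induction_on with
  | _ c ih =>
    intro hc f₁ f₂ h1 h2
    obtain ⟨g₁, rfl⟩ : ∃ g, f₁ = g + 1 := ⟨f₁ - 1, by omega⟩
    obtain ⟨g₂, rfl⟩ : ∃ g, f₂ = g + 1 := ⟨f₂ - 1, by omega⟩
    by_cases h0 : c = 0
    · simp [pt, h0]
    · have hp : C.par c < c := (hpar c hc).resolve_left h0
      simp only [pt, h0, if_false]
      rw [ih (C.par c) hp (by omega) g₁ g₂ (by omega) (by omega)]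

theorem scan_sound {X : Type*} (σ : ℕ → X → X) (x : ℕ → X) (r : ℕ)
    (hτ : ∀ c < C.N, ∀ i < C.k, C.τ c i < C.N)
    (ih : ∀ d < C.N, ∀ p < C.k, C.ρ d p < r → σ p (x d) = x (C.τ d p)) :
    ∀ (w : List ℕ) (d tgt : ℕ), d < C.N → C.scan r w d tgt = true →
      wact σ w (x d) = x tgt ∧ ∀ p ∈ w, p < C.k := by
  intro w
  induction w with
  | nil =>
    intro d tgt _ h
    simp only [scan, Nat.beq_eq] at h
    exact ⟨by rw [wact_nil, h], by simp⟩
  | cons p ps ihw =>
    intro d tgt hd h
    simp only [scan, Bool.and_eq_true, Nat.blt_eq] at h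
    obtain ⟨⟨hp, hr⟩, hrest⟩ := h
    obtain ⟨h1, h2⟩ := ihw (C.τ d p) tgt (hτ d hd p hp) hrest
    refine ⟨?_, ?_⟩
    · rw [wact_cons, ih d hd p hp hr]; exact h1
    · intro q hq
      rcases List.mem_cons.mp hq with rfl | hq'
      · exact hp
      · exact h2 q hq'

/-- Soundness of the check: the table describes the action on the points `x c`. -/
theorem sound {X : Type*} (hC : C.check = true) (σ : ℕ → X → X) (x₀ : X)
    (hinv : ∀ i < C.k, ∀ x, σ i (σ i x) = x)
    (hrel : ∀ r o x, wact σ ((C.rels r).rotate o) x = x)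
    (hfix : ∀ i, i + 1 < C.k → σ i x₀ = x₀) :
    ∃ x : ℕ → X, x 0 = x₀ ∧ ∀ c < C.N, ∀ i < C.k, σ i (x c) = x (C.τ c i) ∧ C.τ c i < C.N := by
  simp only [check, Bool.and_eq_true, allBelow_iff, Bool.or_eq_true, Nat.blt_eq,
    Nat.beq_eq] at hC
  obtain ⟨⟨hN, hpar⟩, hent⟩ := hC
  have hτ : ∀ c < C.N, ∀ i < C.k, C.τ c i < C.N := by
    intro c hc i hi
    have := hent c hc i hi
    simp only [checkEntry, Bool.and_eq_true, Nat.blt_eq] at this
    exact this.1
  refine ⟨fun c => C.pt σ x₀ C.N c, ?_, ?_⟩
  · obtain ⟨g, hg⟩ : ∃ g, C.N = g + 1 := ⟨C.N - 1, by omega⟩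
    simp [hg, pt]
  · have key : ∀ r, ∀ c < C.N, ∀ i < C.k, C.ρ c i = r →
        σ i (C.pt σ x₀ C.N c) = C.pt σ x₀ C.N (C.τ c i) := by
      intro r
      induction r using Nat.strong_induction_on with
      | _ r ih =>
        intro c hc i hi hr
        have hchk := hent c hc i hi
        simp only [checkEntry, Bool.and_eq_true, Nat.blt_eq] at hchk
        obtain ⟨hlt, hcase⟩ := hchk
        have ih' : ∀ d < C.N, ∀ p < C.k, C.ρ d p < r →
            σ p (C.pt σ x₀ C.N d) = C.pt σ x₀ C.N (C.τ d p) :=
          fun d hd p hp hlt' => ih (C.ρ d p) hlt' d hd p hp rfl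
        split at hcase
        · -- tree edge
          simp only [Bool.and_eq_true, Nat.blt_eq, Nat.beq_eq] at hcase
          obtain ⟨⟨h0', hp⟩, hg⟩ := hcase
          have h0 : C.τ c i ≠ 0 := Nat.pos_iff_ne_zero.mp h0'
          obtain ⟨g, hg'⟩ : ∃ g, C.N = g + 1 := ⟨C.N - 1, by omega⟩
          have hparlt : C.par (C.τ c i) < C.τ c i := (hpar _ hlt).resolve_left h0
          have e1 : C.pt σ x₀ C.N (C.τ c i) =
              σ (C.gen (C.τ c i)) (C.pt σ x₀ g (C.par (C.τ c i))) := by
            rw [hg']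
            simp [pt, h0]
          rw [e1, hg, hp]
          congr 1
          apply C.pt_stable σ x₀ hpar c hc
          · exact hc
          · rw [hp] at hparlt; omega
        · -- subgroup generator
          simp only [Bool.and_eq_true, Nat.blt_eq, Nat.beq_eq] at hcase
          obtain ⟨⟨h0, h0'⟩, hik⟩ := hcase
          obtain ⟨g, hg'⟩ : ∃ g, C.N = g + 1 := ⟨C.N - 1, by omega⟩
          have e0 : C.pt σ x₀ C.N 0 = x₀ := by simp [hg', pt]
          rw [h0', h0, e0]
          exact hfix i hik
        · -- inverse entry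
          simp only [Bool.and_eq_true, Nat.blt_eq, Nat.beq_eq] at hcase
          obtain ⟨hback, hrk⟩ := hcase
          rw [hr] at hrk
          have := ih' (C.τ c i) hlt i hi hrk
          rw [hback] at this
          rw [← this, hinv i hi]
        · -- relator
          rename_i j _
          simp only [Bool.and_eq_true, decide_eq_true_eq] at hcase
          obtain ⟨hhead, hscan⟩ := hcase
          rw [hr] at hscan
          have hw : (C.rels (j / 256)).rotate (j % 256) =
              i :: ((C.rels (j / 256)).rotate (j % 256)).tail := by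
            cases hw' : (C.rels (j / 256)).rotate (j % 256) with
            | nil => rw [hw'] at hhead; simp at hhead
            | cons a t =>
              rw [hw'] at hhead
              simp only [List.head?_cons, Option.some.injEq] at hhead
              rw [hhead, List.tail_cons]
          obtain ⟨h1, h1'⟩ := C.scan_sound σ (fun c => C.pt σ x₀ C.N c) r hτ ih'
            ((C.rels (j / 256)).rotate (j % 256)).tail (C.τ c i) c hlt hscan
          have h2 := hrel (j / 256) (j % 256) (C.pt σ x₀ C.N c)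
          rw [hw, wact_cons] at h2
          exact wact_inj σ C.k hinv _ h1' _ _ (h2.trans h1.symm)
    intro c hc i hi
    exact ⟨key (C.ρ c i) c hc i hi rfl, hτ c hc i hi⟩

theorem N_pos (hC : C.check = true) : 0 < C.N := by
  simp only [check, Bool.and_eq_true, Nat.blt_eq] at hC
  exact hC.1.1

end RCert

theorem wact_smul {M X : Type*} [Monoid M] [MulAction M X] (s : ℕ → M) :
    ∀ (w : List ℕ) (y : X), wact (fun i y => s i • y) w y = (w.reverse.map s).prod • y := by
  intro w
  induction w with
  | nil => intro y; simp [wact]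
  | cons a t ih =>
    intro y
    rw [wact_cons, ih, List.reverse_cons, List.map_append, List.prod_append, mul_smul]
    simp

theorem rev_prod {G : Type*} [Group G] (s : ℕ → G) (hs : ∀ i, s i * s i = 1) :
    ∀ w : List ℕ, (w.reverse.map s).prod = ((w.map s).prod)⁻¹ := by
  intro w
  induction w with
  | nil => simp
  | cons a t ih =>
    have hsa : (s a)⁻¹ = s a := inv_eq_of_mul_eq_one_left (hs a)
    rw [List.reverse_cons, List.map_append, List.prod_append, ih]
    simp only [List.map_cons, List.map_nil, List.prod_cons, List.prod_nil, mul_one, mul_inv_rev,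
      hsa]

theorem rot_rev_prod {G : Type*} [Group G] (s : ℕ → G) (hs : ∀ i, s i * s i = 1) (w : List ℕ)
    (hw : (w.map s).prod = 1) (o : ℕ) : (((w.rotate o).reverse).map s).prod = 1 := by
  rw [rev_prod s hs, List.map_rotate, List.prod_rotate_eq_one_of_prod_eq_one hw o, inv_one]

/-- Upper bound: the cosets of `L s k` in `L s (k+1)` are covered by the table. -/
theorem step_upper {G : Type*} [Group G] (s : ℕ → G) (C : RCert) (k : ℕ) (hk : C.k = k + 1)
    (hC : C.check = true)
    (hs : ∀ i, s i * s i = 1)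
    (hrel : ∀ r, ((C.rels r).map s).prod = 1)
    [hfin : Finite (L s k)] :
    Finite (L s (k + 1)) ∧ Nat.card (L s (k + 1)) ≤ C.N * Nat.card (L s k) := by
  set H : Subgroup G := L s k with hH
  obtain ⟨x, hx0, hx⟩ := C.sound hC (X := G ⧸ H) (fun i y => s i • y) ((1 : G) : G ⧸ H)
    (by
      intro i _ y
      show s i • s i • y = y
      rw [← mul_smul, hs i, one_smul])
    (by
      intro r o y
      rw [wact_smul, rot_rev_prod s hs _ (hrel r) o, one_smul])
    (by
      intro i hi
      rw [hk] at hi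
      show s i • ((1 : G) : G ⧸ H) = ((1 : G) : G ⧸ H)
      have hmem : s i ∈ H := mem_L s (by omega)
      rw [MulAction.Quotient.smul_mk, QuotientGroup.eq]
      simpa using hmem)
  have hN := C.N_pos hC
  rw [hk] at hx
  have hsinv : ∀ i, (s i)⁻¹ = s i := fun i => inv_eq_of_mul_eq_one_left (hs i)
  have hclosed : ∀ g ∈ L s (k + 1), ∀ c < C.N, ∃ c' < C.N, g • x c = x c' := by
    intro g hg
    unfold L at hg
    induction hg using Subgroup.closure_induction'' with
    | mem y hy =>
      obtain ⟨i, hi, rfl⟩ := hy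
      intro c hc
      exact ⟨C.τ c i, (hx c hc i hi).2, (hx c hc i hi).1⟩
    | inv_mem y hy =>
      obtain ⟨i, hi, rfl⟩ := hy
      intro c hc
      rw [hsinv i]
      exact ⟨C.τ c i, (hx c hc i hi).2, (hx c hc i hi).1⟩
    | one => intro c hc; exact ⟨c, hc, one_smul _ _⟩
    | mul a b _ _ iha ihb =>
      intro c hc
      obtain ⟨c₁, hc₁, h₁⟩ := ihb c hc
      obtain ⟨c₂, hc₂, h₂⟩ := iha c₁ hc₁
      exact ⟨c₂, hc₂, by rw [mul_smul, h₁, h₂]⟩
  have hcover : ∀ g ∈ L s (k + 1), ∃ c < C.N, ∃ h ∈ H, g = (x c).out * h := by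
    intro g hg
    obtain ⟨c, hc, hgc⟩ := hclosed g hg 0 hN
    refine ⟨c, hc, (x c).out⁻¹ * g, ?_, by group⟩
    rw [← QuotientGroup.eq, QuotientGroup.out_eq', ← hgc, hx0, MulAction.Quotient.smul_mk]
    simp
  let F : Fin C.N × H → G := fun p => (x p.1).out * p.2
  have hsub : (L s (k + 1) : Set G) ⊆ Set.range F := by
    intro g hg
    obtain ⟨c, hc, h, hh, rfl⟩ := hcover g hg
    exact ⟨(⟨c, hc⟩, ⟨h, hh⟩), rfl⟩
  have hrf : (Set.range F).Finite := Set.finite_range F
  have hfinL : Finite (L s (k + 1)) := (hrf.subset hsub).to_subtype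
  refine ⟨hfinL, ?_⟩
  calc Nat.card (L s (k + 1)) ≤ Nat.card (Set.range F) := Nat.card_mono hrf hsub
    _ ≤ Nat.card (Fin C.N × H) := Finite.card_range_le F
    _ = C.N * Nat.card H := by rw [Nat.card_prod, Nat.card_fin]

end Cfsg.Agent.Lib.Helper19.RC
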