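import Cfsg.Agent.Lib.Helper56.TC
import Cfsg.Agent.Lib.Helper19.RCert

/-!
# Index bounds from Todd–Coxeter certificates (upper bound only)

`tc_step_upper` turns a certificate for the checker of `Cfsg.Agent.Lib.Helper56.TC` into the bound
`|⟨s₀, …, s_k⟩| ≤ N · |⟨s₀, …, s_{k-1}⟩|` for involutions `s i` of an arbitrary group satisfying
the relators of the certificate.
-/

set_option autoImplicit false

namespace Cfsg.Agent.Lib.Helper19.TCU

open Cfsg.Agent.Lib.Helper56.TC
open Cfsg.Agent.Lib.Helper19.Cox (L L_mono mem_L)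

/-- The data of a certificate that only has to be checked by evaluation. -/
structure Checked (T : Tabs) (k : ℕ) : Prop where
  hK : T.K = k + 1
  hN : 0 < T.N
  hNN : T.N ≤ T.N'
  hinv : ∀ l < T.K, T.inv l = l
  hsubs : T.subs = (List.range k).map (fun i => [i])
  hrelK : ∀ w ∈ T.rels1, ∀ a ∈ w, a < T.K
  hrx : T.rx = T.relsX
  hchk : ∀ x < T.N', T.chkName x = true
  hfin : ∀ v < T.N, T.chkFinName v = true

theorem ew_coe {G : Type*} [Group G] (K : Subgroup G) (g : ℕ → K) (s : ℕ → G) (n : ℕ)
    (hg : ∀ l < n, ((g l : K) : G) = s l) :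
    ∀ w : List ℕ, (∀ a ∈ w, a < n) → ((ew g w : K) : G) = ew s w := by
  intro w
  induction w with
  | nil => intro _; simp [ew]
  | cons a t ih =>
    intro h
    rw [ew_cons, ew_cons, Subgroup.coe_mul, hg a (h a List.mem_cons_self),
      ih (fun b hb => h b (List.mem_cons_of_mem _ hb))]

theorem tc_step_upper {G : Type*} [Group G] (s : ℕ → G) (T : Tabs) (k : ℕ)
    (hT : Checked T k) (hs : ∀ i, s i * s i = 1) (hrel : ∀ w ∈ T.rels1, ew s w = 1)
    [hfin : Finite (L s k)] :
    Finite (L s (k + 1)) ∧ Nat.card (L s (k + 1)) ≤ T.N * Nat.card (L s k) := by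
  classical
  set Γ : Subgroup G := L s (k + 1) with hΓ
  let g : ℕ → Γ := fun l => if h : l < k + 1 then ⟨s l, mem_L s h⟩ else 1
  have hg : ∀ l < k + 1, ((g l : Γ) : G) = s l := by
    intro l hl
    simp only [g, dif_pos hl]
  set H : Subgroup Γ := (L s k).subgroupOf Γ with hH
  have hle : L s k ≤ Γ := L_mono s (Nat.le_succ k)
  have hS : T.Sem H g :=
    { hNN := hT.hNN
      hinvK := fun l hl => by rw [hT.hinv l hl]; exact hl
      hinv := fun l hl => by
        rw [hT.hinv l hl]
        have hl' : l < k + 1 := by rw [← hT.hK]; exact hl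
        apply eq_inv_of_mul_eq_one_left
        apply Subtype.ext
        rw [Subgroup.coe_mul, hg l hl', hs l]
        rfl
      hsubH := fun w hw => by
        rw [hT.hsubs] at hw
        obtain ⟨i, hi, rfl⟩ := List.mem_map.mp hw
        have hi' : i < k := List.mem_range.mp hi
        rw [ew_cons, ew_nil, mul_one, hH, Subgroup.mem_subgroupOf, hg i (by omega)]
        exact mem_L s hi'
      hsubK := fun w hw a ha => by
        rw [hT.hsubs] at hw
        obtain ⟨i, hi, rfl⟩ := List.mem_map.mp hw
        have hi' : i < k := List.mem_range.mp hi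
        simp only [List.mem_singleton] at ha
        rw [ha, hT.hK]; omega
      hrel := fun w hw => by
        apply Subtype.ext
        rw [ew_coe Γ g s (k + 1) hg w (fun a ha => by rw [← hT.hK]; exact hT.hrelK w hw a ha),
          hrel w hw]
        rfl
      hrelK := hT.hrelK
      hrx := hT.hrx
      hchk := hT.hchk
      hfin := hT.hfin }
  have hgen : Subgroup.closure {x : Γ | ∃ l < T.K, x = g l} = ⊤ := by
    apply Subgroup.map_injective (Subgroup.subtype_injective Γ)
    rw [MonoidHom.map_closure, ← MonoidHom.range_eq_map, Subgroup.range_subtype]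
    have hΓ' : Γ = Subgroup.closure (s '' Set.Iio (k + 1)) := rfl
    conv_rhs => rw [hΓ']
    congr 1
    ext y
    constructor
    · rintro ⟨x, ⟨l, hl, rfl⟩, rfl⟩
      have hl' : l < k + 1 := by rw [← hT.hK]; exact hl
      exact ⟨l, hl', (hg l hl').symm⟩
    · rintro ⟨l, hl, rfl⟩
      have hl' : l < k + 1 := hl
      exact ⟨g l, ⟨l, by rw [hT.hK]; exact hl', rfl⟩, hg l hl'⟩
  have hcov := Tabs.cover hS hT.hN hgen
  -- the quotient is covered by `N` cosets
  have hsurj : Function.Surjective (fun v : Fin T.N => T.val H g v) := by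
    intro q
    obtain ⟨v, hv, rfl⟩ := hcov q
    exact ⟨⟨v, hv⟩, rfl⟩
  have hfinQ : Finite (Γ ⧸ H) := Finite.of_surjective _ hsurj
  have hcardQ : Nat.card (Γ ⧸ H) ≤ T.N := by
    have := Nat.card_le_card_of_surjective _ hsurj
    rwa [Nat.card_fin] at this
  have hHfin : Finite H := by
    have e : H ≃ L s k := (Subgroup.subgroupOfEquivOfLe hle).toEquiv
    exact Finite.of_equiv _ e.symm
  have hHcard : Nat.card H = Nat.card (L s k) :=
    Nat.card_congr (Subgroup.subgroupOfEquivOfLe hle).toEquiv
  have hΓfin : Finite Γ := by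
    have e := Subgroup.groupEquivQuotientProdSubgroup (s := H)
    exact Finite.of_equiv _ e.symm
  refine ⟨hΓfin, ?_⟩
  have h1 : Nat.card Γ = Nat.card (Γ ⧸ H) * Nat.card H := Subgroup.card_eq_card_quotient_mul_card_subgroup H
  rw [h1, hHcard]
  exact Nat.mul_le_mul_right _ hcardQ

end Cfsg.Agent.Lib.Helper19.TCU
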