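import Mathlib
import Cfsg.Prelude.Def_SporCoxeter
import Cfsg.Agent.Lib.Helper56.TCPres

/-!
# The homomorphism from a Coxeter-style presented group defined by a sequence of involutions
satisfying the relators as words
-/

set_option autoImplicit false

namespace Cfsg.Agent.Lib.Helper19.CoxHomG

open Cfsg.Spor
open Cfsg.Agent.Lib.Helper56.TC

theorem cox_hom_gen {α : Type} [DecidableEq α] (edges : List (α × ℕ × α))
    (extra : List (FreeGroup α)) (gens : List α) {G' : Type*} [Group G'] (s : ℕ → G')
    (hnd : gens.Nodup) (hall : ∀ x : α, x ∈ gens)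
    (hinv : ∀ l < gens.length, (s l)⁻¹ = s l)
    (hrels : ∀ w ∈ coxW edges gens ++ extra.map (wordOf gens), ew s w = 1) :
    ∃ φ : CoxPresented α edges extra →* G',
      ∀ l < gens.length, φ (pgen edges extra gens l) = s l := by
  have hidx : ∀ x, gens.idxOf x < gens.length := fun x => List.idxOf_lt_length_of_mem (hall x)
  let σ' : α → G' := fun x => s (gens.idxOf x)
  have hσinv : ∀ x, (σ' x)⁻¹ = σ' x := fun x => hinv _ (hidx x)
  have hliftw : ∀ r, FreeGroup.lift σ' r = ew s (wordOf gens r) :=
    lift_eq_ew gens σ' s (fun x => rfl) hσinv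
  have hpair : ∀ x y, gens.idxOf x < gens.idxOf y →
      (σ' x * σ' y) ^ coxLabel edges x y = 1 := by
    intro x y hlt
    have hmem : (List.replicate (coxLabel edges x y) [gens.idxOf x, gens.idxOf y]).flatten ∈
        coxW edges gens ++ extra.map (wordOf gens) :=
      List.mem_append_left _ ((mem_coxW edges gens _).mpr ⟨x, hall x, y, hall y, hlt, rfl⟩)
    have h1 := hrels _ hmem
    rw [ew_rep, ew_cons, ew_cons, ew_nil, mul_one] at h1
    exact h1
  have hσrel : ∀ r ∈ coxRelators edges ∪ {r | r ∈ extra}, FreeGroup.lift σ' r = 1 := by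
    rintro r (⟨x, hx, y, hy, rfl⟩ | hr)
    · rw [map_pow, map_mul, FreeGroup.lift_apply_of, FreeGroup.lift_apply_of]
      rcases lt_trichotomy (gens.idxOf x) (gens.idxOf y) with hlt | heq | hgt
      · exact hpair x y hlt
      · have hxy : x = y := (List.idxOf_inj (hall x)).mp heq
        subst hxy
        have h1 : coxLabel edges x x = 1 := by unfold coxLabel; rw [if_pos rfl]
        rw [h1, pow_one]
        have h2 := hσinv x
        calc σ' x * σ' x = (σ' x)⁻¹ * σ' x := by rw [h2]
          _ = 1 := inv_mul_cancel _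
      · rw [coxLabel_comm]
        exact pow_comm_eq_one _ _ _ (hpair y x hgt)
    · rw [hliftw]
      exact hrels _ (List.mem_append_right _ (List.mem_map_of_mem hr))
  refine ⟨PresentedGroup.toGroup hσrel, fun l hl => ?_⟩
  rw [pgen_of_lt edges extra gens l hl]
  show PresentedGroup.toGroup hσrel (PresentedGroup.of gens[l]) = _
  rw [PresentedGroup.toGroup.of]
  show s (gens.idxOf gens[l]) = _
  rw [List.Nodup.idxOf_getElem hnd]

end Cfsg.Agent.Lib.Helper19.CoxHomG
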