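import Cfsg.Agent.Lib.Helper19.RCert

/-!
# Involutions of `Fin d` given by tables on `ℕ`, with cheap kernel-checkable certificates

`PData`: `n` involutions of `{0, …, d-1}`; `PData.perm` the corresponding permutations of `Fin d`.
`relOK`/`powOK`: words that evaluate to `1` / have `p`-th power `1`.
`orbOK`: orbit certificates (distinct points reached along a tree), giving the lower bound
`m * |K ⊓ Stab ω| ≤ |K|`.
-/

set_option autoImplicit false

namespace Cfsg.Agent.Lib.Helper19.FP

open Equiv
open Cfsg.Agent.Lib.Helper19.Cox (L L_mono mem_L L_zero)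
open Cfsg.Agent.Lib.Helper19.RC (allBelow allBelow_iff)

/-- Entry `x` of a table of 16-bit entries packed into a natural number. -/
def tg16 (T x : ℕ) : ℕ := Nat.land (Nat.shiftRight T (Nat.mul 16 x)) 65535

/-- Permutation data: `n` involutions of `{0, ..., d-1}` given by a table. -/
structure PData where
  /-- degree -/
  d : ℕ
  /-- number of generators -/
  n : ℕ
  /-- the table of images -/
  π : ℕ → ℕ → ℕ

namespace PData

variable (P : PData)

/-- the action of generator `i` on `ℕ` (identity outside the table) -/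
def act (i x : ℕ) : ℕ := if i < P.n then (if x < P.d then P.π i x else x) else x

/-- the tables describe involutions of `{0, ..., d-1}` -/
def ok : Bool := allBelow (fun i => allBelow (fun x =>
  Nat.blt (P.π i x) P.d && Nat.beq (P.π i (P.π i x)) x) P.d) P.n

theorem ok_iff : P.ok = true ↔ ∀ i < P.n, ∀ x < P.d, P.π i x < P.d ∧ P.π i (P.π i x) = x := by
  simp only [ok, allBelow_iff, Bool.and_eq_true, Nat.blt_eq, Nat.beq_eq]

theorem act_lt (h : P.ok = true) (i x : ℕ) (hx : x < P.d) : P.act i x < P.d := by
  unfold act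
  split_ifs with hi
  · exact ((P.ok_iff.mp h) i hi x hx).1
  · exact hx

theorem act_act (h : P.ok = true) (i x : ℕ) : P.act i (P.act i x) = x := by
  unfold act
  by_cases hi : i < P.n
  · by_cases hx : x < P.d
    · have h1 := (P.ok_iff.mp h) i hi x hx
      simp only [hi, hx, if_true, h1.1, h1.2]
    · simp only [hi, hx, if_true, if_false]
  · simp only [hi, if_false]

/-- the `i`-th generator as a permutation of `Fin d` -/
def perm (h : P.ok = true) (i : ℕ) : Perm (Fin P.d) where
  toFun x := ⟨P.act i x.1, P.act_lt h i x.1 x.2⟩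
  invFun x := ⟨P.act i x.1, P.act_lt h i x.1 x.2⟩
  left_inv x := Fin.ext (P.act_act h i x.1)
  right_inv x := Fin.ext (P.act_act h i x.1)

theorem perm_val (h : P.ok = true) (i : ℕ) (x : Fin P.d) :
    (P.perm h i x).val = P.act i x.val := rfl

theorem perm_mul_self (h : P.ok = true) (i : ℕ) : P.perm h i * P.perm h i = 1 := by
  ext x
  rw [Perm.mul_apply, perm_val, perm_val, P.act_act h, Perm.one_apply]

/-- apply a word to a point (the last letter is applied first); raw table lookups -/
def app : List ℕ → ℕ → ℕ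
  | [], x => x
  | i :: w, x => P.π i (app w x)

/-- all letters of the word are generator indices -/
def wok (w : List ℕ) : Bool := w.all fun i => Nat.blt i P.n

theorem wok_iff (w : List ℕ) : P.wok w = true ↔ ∀ i ∈ w, i < P.n := by
  simp only [wok, List.all_eq_true, Nat.blt_eq]

theorem prod_val (h : P.ok = true) (w : List ℕ) (hw : P.wok w = true) (x : Fin P.d) :
    ((w.map (P.perm h)).prod x).val = P.app w x.val := by
  induction w with
  | nil => simp [app]
  | cons a t ih =>
    rw [wok_iff] at hw
    have hwt : P.wok t = true := (P.wok_iff t).mpr fun i hi => hw i (List.mem_cons_of_mem _ hi)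
    have ha : a < P.n := hw a List.mem_cons_self
    have hlt : ((t.map (P.perm h)).prod x).val < P.d := Fin.isLt _
    rw [List.map_cons, List.prod_cons, Perm.mul_apply, perm_val]
    rw [ih hwt] at hlt ⊢
    simp only [act, ha, hlt, if_true, app]

/-- the words of the list act trivially -/
def relOK (rels : List (List ℕ)) : Bool :=
  rels.all fun w => P.wok w && allBelow (fun x => Nat.beq (P.app w x) x) P.d

theorem rel_eq_one (h : P.ok = true) (rels : List (List ℕ)) (hr : P.relOK rels = true) :
    ∀ w ∈ rels, (w.map (P.perm h)).prod = 1 := by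
  simp only [relOK, List.all_eq_true, Bool.and_eq_true, allBelow_iff, Nat.beq_eq] at hr
  intro w hw
  ext x
  rw [prod_val P h w (hr w hw).1, Perm.one_apply]
  exact (hr w hw).2 x.val x.2

theorem rel_getD (h : P.ok = true) (rels : List (List ℕ)) (hr : P.relOK rels = true) (r : ℕ) :
    ((rels.getD r []).map (P.perm h)).prod = 1 := by
  by_cases hlt : r < rels.length
  · rw [List.getD_eq_getElem _ _ hlt]
    exact P.rel_eq_one h rels hr _ (List.getElem_mem hlt)
  · rw [List.getD_eq_default _ _ (Nat.le_of_not_lt hlt)]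
    simp

/-- the `p`-th power of the word `w` acts trivially -/
def powOK (w : List ℕ) (p : ℕ) : Bool :=
  P.wok w && allBelow (fun x => Nat.beq ((P.app w)^[p] x) x) P.d

theorem pow_eq_one (h : P.ok = true) (w : List ℕ) (p : ℕ) (hp : P.powOK w p = true) :
    ((w.map (P.perm h)).prod) ^ p = 1 := by
  simp only [powOK, Bool.and_eq_true, allBelow_iff, Nat.beq_eq] at hp
  have hit : ∀ (m : ℕ) (x : Fin P.d),
      ((⇑((w.map (P.perm h)).prod))^[m] x).val = (P.app w)^[m] x.val := by
    intro m
    induction m with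
    | zero => intro x; rfl
    | succ m ih =>
      intro x
      rw [Function.iterate_succ_apply', Function.iterate_succ_apply', prod_val P h w hp.1, ih]
  ext x
  rw [← Perm.iterate_eq_pow, hit, Perm.one_apply]
  exact hp.2 x.val x.2

/-- a word in the first `k` generators lies in the subgroup they generate -/
theorem prod_mem_L (h : P.ok = true) (w : List ℕ) (k : ℕ) (hw : ∀ i ∈ w, i < k) :
    (w.map (P.perm h)).prod ∈ L (P.perm h) k := by
  apply Subgroup.list_prod_mem
  intro g hg
  rw [List.mem_map] at hg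
  obtain ⟨i, hi, rfl⟩ := hg
  exact mem_L _ (hw i hi)

/-- a word fixing a point lies in its stabiliser -/
theorem prod_mem_stab (h : P.ok = true) (w : List ℕ) (hw : P.wok w = true) (y : Fin P.d)
    (hy : P.app w y.val = y.val) :
    (w.map (P.perm h)).prod ∈ MulAction.stabilizer (Perm (Fin P.d)) y := by
  rw [MulAction.mem_stabilizer_iff, Perm.smul_def]
  apply Fin.ext
  rw [prod_val P h w hw, hy]

/-- orbit certificate: the points `O c` (`c < m`) are distinct and are obtained from `ω` along a
tree whose edges are labelled by the words `gw j` (`j < ng`) -/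
def orbOK (gw : ℕ → List ℕ) (ng m ω : ℕ) (par gen O Inv : ℕ → ℕ) : Bool :=
  Nat.beq (O 0) ω && allBelow (fun j => P.wok (gw j)) ng &&
  allBelow (fun c =>
    (Nat.beq c 0 || (Nat.blt (par c) c && Nat.blt (gen c) ng &&
      Nat.beq (O c) (P.app (gw (gen c)) (O (par c))))) && Nat.beq (Inv (O c)) c) m

theorem orb_reach (h : P.ok = true) (gw : ℕ → List ℕ) (ng m ω : ℕ) (par gen O Inv : ℕ → ℕ)
    (hO : P.orbOK gw ng m ω par gen O Inv = true) (K : Subgroup (Perm (Fin P.d)))
    (hK : ∀ j < ng, ((gw j).map (P.perm h)).prod ∈ K) (ω' : Fin P.d) (hω : ω'.val = ω) :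
    ∀ c < m, ∃ g ∈ K, (g ω').val = O c := by
  simp only [orbOK, Bool.and_eq_true, Bool.or_eq_true, allBelow_iff, Nat.beq_eq, Nat.blt_eq]
    at hO
  obtain ⟨⟨hO0, hwok⟩, htree⟩ := hO
  intro c
  induction c using Nat.strong_induction_on with
  | _ c ih =>
    intro hc
    rcases (htree c hc).1 with h0 | ⟨⟨hp, hg⟩, hOc⟩
    · exact ⟨1, one_mem _, by rw [h0, hO0, Perm.one_apply, hω]⟩
    · obtain ⟨g, hgK, hgO⟩ := ih (par c) hp (lt_trans hp hc)
      refine ⟨((gw (gen c)).map (P.perm h)).prod * g, mul_mem (hK _ hg) hgK, ?_⟩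
      rw [Perm.mul_apply, prod_val P h _ (hwok _ hg), hgO, hOc]

theorem orb_inj (gw : ℕ → List ℕ) (ng m ω : ℕ) (par gen O Inv : ℕ → ℕ)
    (hO : P.orbOK gw ng m ω par gen O Inv = true) :
    ∀ c < m, ∀ c' < m, O c = O c' → c = c' := by
  simp only [orbOK, Bool.and_eq_true, Bool.or_eq_true, allBelow_iff, Nat.beq_eq, Nat.blt_eq]
    at hO
  intro c hc c' hc' heq
  rw [← (hO.2 c hc).2, ← (hO.2 c' hc').2, heq]

end PData

/-- Lower bound from an orbit: `m` distinct images of `ω` under elements of `K`. -/
theorem orbit_lower {d : ℕ} (K : Subgroup (Perm (Fin d))) (ω : Fin d) (m : ℕ) (O : ℕ → ℕ)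
    (hinj : ∀ c < m, ∀ c' < m, O c = O c' → c = c')
    (hreach : ∀ c < m, ∃ g ∈ K, (g ω).val = O c) :
    m * Nat.card (K ⊓ MulAction.stabilizer (Perm (Fin d)) ω : Subgroup (Perm (Fin d))) ≤
      Nat.card K := by
  choose! w hwK hwO using hreach
  let F : Fin m × (K ⊓ MulAction.stabilizer (Perm (Fin d)) ω : Subgroup (Perm (Fin d))) → K :=
    fun p => ⟨w p.1 * p.2, mul_mem (hwK p.1 p.1.2) (Subgroup.mem_inf.mp p.2.2).1⟩
  have hfixed : ∀ p : (K ⊓ MulAction.stabilizer (Perm (Fin d)) ω : Subgroup (Perm (Fin d))),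
      (p : Perm (Fin d)) ω = ω := by
    intro p
    have := (Subgroup.mem_inf.mp p.2).2
    rwa [MulAction.mem_stabilizer_iff, Perm.smul_def] at this
  have hF : Function.Injective F := by
    rintro ⟨c, p⟩ ⟨c', p'⟩ heq
    have heq' : w c * (p : Perm (Fin d)) = w c' * (p' : Perm (Fin d)) := congrArg Subtype.val heq
    have h1 : ((w c * (p : Perm (Fin d))) ω).val = O c := by
      rw [Perm.mul_apply, hfixed p, hwO c c.2]
    have h2 : ((w c' * (p' : Perm (Fin d))) ω).val = O c' := by
      rw [Perm.mul_apply, hfixed p', hwO c' c'.2]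
    rw [heq', h2] at h1
    have hcc : (c : ℕ) = c' := hinj c c.2 c' c'.2 h1.symm
    have hcc' : c = c' := Fin.ext hcc
    subst hcc'
    have := mul_left_cancel heq'
    rw [Subtype.ext this]
  have := Nat.card_le_card_of_injective F hF
  rwa [Nat.card_prod, Nat.card_fin] at this

end Cfsg.Agent.Lib.Helper19.FP
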