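import Cfsg.Agent.Lib.Helper19.FastPerm

/-!
# Permutations of `Fin d` given by tables on `ℕ`, with an inverse pairing of the generators

A variant of `FastPerm` in which the generators need not be involutions: the generator `inv i` is
the inverse of the generator `i`.
-/

set_option autoImplicit false

namespace Cfsg.Agent.Lib.Helper19.FPI

open Equiv
open Cfsg.Agent.Lib.Helper19.Cox (L L_mono mem_L L_zero)
open Cfsg.Agent.Lib.Helper19.RC (allBelow allBelow_iff)

/-- Entry `x` of a table of 20-bit entries packed into a natural number. -/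
def tg20 (T x : ℕ) : ℕ := Nat.land (Nat.shiftRight T (Nat.mul 20 x)) 1048575

/-- Permutation data: `n` permutations of `{0, ..., d-1}` given by a table, with inverses. -/
structure PDataI where
  /-- degree -/
  d : ℕ
  /-- number of generators -/
  n : ℕ
  /-- the table of images -/
  π : ℕ → ℕ → ℕ
  /-- the index of the inverse generator -/
  inv : ℕ → ℕ

namespace PDataI

variable (P : PDataI)

/-- the action of generator `i` on `ℕ` (identity outside the table) -/
def act (i x : ℕ) : ℕ := if i < P.n then (if x < P.d then P.π i x else x) else x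

/-- the index of the inverse generator (identity outside the range) -/
def inv' (i : ℕ) : ℕ := if i < P.n then P.inv i else i

/-- the tables describe permutations of `{0, ..., d-1}`, paired with their inverses -/
def ok : Bool := allBelow (fun i => Nat.blt (P.inv i) P.n && Nat.beq (P.inv (P.inv i)) i &&
  allBelow (fun x => Nat.blt (P.π i x) P.d && Nat.beq (P.π (P.inv i) (P.π i x)) x) P.d) P.n

theorem ok_iff : P.ok = true ↔ ∀ i < P.n, (P.inv i < P.n ∧ P.inv (P.inv i) = i) ∧
    ∀ x < P.d, P.π i x < P.d ∧ P.π (P.inv i) (P.π i x) = x := by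
  simp only [ok, allBelow_iff, Bool.and_eq_true, Nat.blt_eq, Nat.beq_eq]

theorem act_lt (h : P.ok = true) (i x : ℕ) (hx : x < P.d) : P.act i x < P.d := by
  unfold act
  split_ifs with hi
  · exact (((P.ok_iff.mp h) i hi).2 x hx).1
  · exact hx

theorem inv'_lt (h : P.ok = true) (i : ℕ) (hi : i < P.n) : P.inv' i < P.n := by
  unfold inv'
  rw [if_pos hi]
  exact ((P.ok_iff.mp h) i hi).1.1

theorem inv'_inv' (h : P.ok = true) (i : ℕ) : P.inv' (P.inv' i) = i := by
  unfold inv'
  by_cases hi : i < P.n
  · have h1 := ((P.ok_iff.mp h) i hi).1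
    simp only [hi, if_true, h1.1, h1.2]
  · simp only [hi, if_false]

theorem act_inv_act (h : P.ok = true) (i x : ℕ) : P.act (P.inv' i) (P.act i x) = x := by
  unfold act inv'
  by_cases hi : i < P.n
  · have h0 := ((P.ok_iff.mp h) i hi).1
    by_cases hx : x < P.d
    · have h1 := ((P.ok_iff.mp h) i hi).2 x hx
      simp only [hi, hx, if_true, h0.1, h1.1, h1.2]
    · simp only [hi, hx, if_true, if_false, h0.1]
  · simp only [hi, if_false]

theorem act_act_inv (h : P.ok = true) (i x : ℕ) : P.act i (P.act (P.inv' i) x) = x := by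
  have h1 := P.act_inv_act h (P.inv' i) x
  rwa [P.inv'_inv' h] at h1

/-- the `i`-th generator as a permutation of `Fin d` -/
def perm (h : P.ok = true) (i : ℕ) : Perm (Fin P.d) where
  toFun x := ⟨P.act i x.1, P.act_lt h i x.1 x.2⟩
  invFun x := ⟨P.act (P.inv' i) x.1, P.act_lt h (P.inv' i) x.1 x.2⟩
  left_inv x := Fin.ext (P.act_inv_act h i x.1)
  right_inv x := Fin.ext (P.act_act_inv h i x.1)

theorem perm_val (h : P.ok = true) (i : ℕ) (x : Fin P.d) :
    (P.perm h i x).val = P.act i x.val := rfl

theorem perm_inv_mul (h : P.ok = true) (i : ℕ) : P.perm h (P.inv' i) * P.perm h i = 1 := by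
  ext x
  rw [Perm.mul_apply, perm_val, perm_val, P.act_inv_act h, Perm.one_apply]

theorem perm_mul_inv (h : P.ok = true) (i : ℕ) : P.perm h i * P.perm h (P.inv' i) = 1 := by
  ext x
  rw [Perm.mul_apply, perm_val, perm_val, P.act_act_inv h, Perm.one_apply]

theorem perm_inv (h : P.ok = true) (i : ℕ) : P.perm h (P.inv' i) = (P.perm h i)⁻¹ :=
  eq_inv_of_mul_eq_one_left (P.perm_inv_mul h i)

/-- apply a word to a point (the last letter is applied first); raw table lookups -/
def app : List ℕ → ℕ → ℕ
  | [], x => x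
  | i :: w, x => P.π i (app w x)

/-- all letters of the word are generator indices -/
def wok (w : List ℕ) : Bool := w.all fun i => Nat.blt i P.n

theorem wok_iff (w : List ℕ) : P.wok w = true ↔ ∀ i ∈ w, i < P.n := by
  simp only [wok, List.all_eq_true, Nat.blt_eq]

theorem prod_val (h : P.ok = true) (w : List ℕ) (hw : P.wok w = true) (x : Fin P.d) :
    ((w.map (P.perm h)).prod x).val = P.app w x.val := by
  induction w with
  | nil => simp [app]
  | cons a t ih =>
    rw [wok_iff] at hw
    have hwt : P.wok t = true := (P.wok_iff t).mpr fun i hi => hw i (List.mem_cons_of_mem _ hi)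
    have ha : a < P.n := hw a List.mem_cons_self
    have hlt : ((t.map (P.perm h)).prod x).val < P.d := Fin.isLt _
    rw [List.map_cons, List.prod_cons, Perm.mul_apply, perm_val]
    rw [ih hwt] at hlt ⊢
    simp only [act, ha, hlt, if_true, app]

/-- the words of the list act trivially -/
def relOK (rels : List (List ℕ)) : Bool :=
  rels.all fun w => P.wok w && allBelow (fun x => Nat.beq (P.app w x) x) P.d

theorem rel_eq_one (h : P.ok = true) (rels : List (List ℕ)) (hr : P.relOK rels = true) :
    ∀ w ∈ rels, (w.map (P.perm h)).prod = 1 := by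
  simp only [relOK, List.all_eq_true, Bool.and_eq_true, allBelow_iff, Nat.beq_eq] at hr
  intro w hw
  ext x
  rw [prod_val P h w (hr w hw).1, Perm.one_apply]
  exact (hr w hw).2 x.val x.2

/-- the word acts trivially on the points `lo ≤ x < lo + len` (a slice of `relOK`) -/
def relSlice (w : List ℕ) (lo len : ℕ) : Bool :=
  allBelow (fun x => Nat.beq (P.app w (Nat.add lo x)) (Nat.add lo x)) len

theorem relSlice_iff (w : List ℕ) (lo len : ℕ) :
    P.relSlice w lo len = true ↔ ∀ x, lo ≤ x → x < lo + len → P.app w x = x := by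
  simp only [relSlice, allBelow_iff, Nat.beq_eq]
  constructor
  · intro h x h1 h2
    have := h (x - lo) (by omega)
    have e : Nat.add lo (x - lo) = x := by show lo + (x - lo) = x; omega
    rwa [e] at this
  · intro h x hx
    exact h (Nat.add lo x) (Nat.le_add_right lo x) (by show lo + x < lo + len; omega)

/-- a word that acts trivially on every point is the identity -/
theorem rel_of_app (h : P.ok = true) (w : List ℕ) (hw : P.wok w = true)
    (ha : ∀ x < P.d, P.app w x = x) : (w.map (P.perm h)).prod = 1 := by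
  ext x
  rw [prod_val P h w hw, Perm.one_apply]
  exact ha x.val x.2

theorem rel_getD (h : P.ok = true) (rels : List (List ℕ)) (hr : P.relOK rels = true) (r : ℕ) :
    ((rels.getD r []).map (P.perm h)).prod = 1 := by
  by_cases hlt : r < rels.length
  · rw [List.getD_eq_getElem _ _ hlt]
    exact P.rel_eq_one h rels hr _ (List.getElem_mem hlt)
  · rw [List.getD_eq_default _ _ (Nat.le_of_not_lt hlt)]
    simp

/-- the `p`-th power of the word `w` acts trivially -/
def powOK (w : List ℕ) (p : ℕ) : Bool :=
  P.wok w && allBelow (fun x => Nat.beq ((P.app w)^[p] x) x) P.d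

theorem pow_eq_one (h : P.ok = true) (w : List ℕ) (p : ℕ) (hp : P.powOK w p = true) :
    ((w.map (P.perm h)).prod) ^ p = 1 := by
  simp only [powOK, Bool.and_eq_true, allBelow_iff, Nat.beq_eq] at hp
  have hit : ∀ (m : ℕ) (x : Fin P.d),
      ((⇑((w.map (P.perm h)).prod))^[m] x).val = (P.app w)^[m] x.val := by
    intro m
    induction m with
    | zero => intro x; rfl
    | succ m ih =>
      intro x
      rw [Function.iterate_succ_apply', Function.iterate_succ_apply', prod_val P h w hp.1, ih]
  ext x
  rw [← Perm.iterate_eq_pow, hit, Perm.one_apply]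
  exact hp.2 x.val x.2

/-- a word in the first `k` generators lies in the subgroup they generate -/
theorem prod_mem_L (h : P.ok = true) (w : List ℕ) (k : ℕ) (hw : ∀ i ∈ w, i < k) :
    (w.map (P.perm h)).prod ∈ L (P.perm h) k := by
  apply Subgroup.list_prod_mem
  intro g hg
  rw [List.mem_map] at hg
  obtain ⟨i, hi, rfl⟩ := hg
  exact mem_L _ (hw i hi)

/-- a word fixing a point lies in its stabiliser -/
theorem prod_mem_stab (h : P.ok = true) (w : List ℕ) (hw : P.wok w = true) (y : Fin P.d)
    (hy : P.app w y.val = y.val) :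
    (w.map (P.perm h)).prod ∈ MulAction.stabilizer (Perm (Fin P.d)) y := by
  rw [MulAction.mem_stabilizer_iff, Perm.smul_def]
  apply Fin.ext
  rw [prod_val P h w hw, hy]

/-- orbit certificate: the points `O c` (`c < m`) are distinct and are obtained from `ω` along a
tree whose edges are labelled by the words `gw j` (`j < ng`) -/
def orbOK (gw : ℕ → List ℕ) (ng m ω : ℕ) (par gen O Inv : ℕ → ℕ) : Bool :=
  Nat.beq (O 0) ω && allBelow (fun j => P.wok (gw j)) ng &&
  allBelow (fun c =>
    (Nat.beq c 0 || (Nat.blt (par c) c && Nat.blt (gen c) ng &&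
      Nat.beq (O c) (P.app (gw (gen c)) (O (par c))))) && Nat.beq (Inv (O c)) c) m

theorem orb_reach (h : P.ok = true) (gw : ℕ → List ℕ) (ng m ω : ℕ) (par gen O Inv : ℕ → ℕ)
    (hO : P.orbOK gw ng m ω par gen O Inv = true) (K : Subgroup (Perm (Fin P.d)))
    (hK : ∀ j < ng, ((gw j).map (P.perm h)).prod ∈ K) (ω' : Fin P.d) (hω : ω'.val = ω) :
    ∀ c < m, ∃ g ∈ K, (g ω').val = O c := by
  simp only [orbOK, Bool.and_eq_true, Bool.or_eq_true, allBelow_iff, Nat.beq_eq, Nat.blt_eq]
    at hO
  obtain ⟨⟨hO0, hwok⟩, htree⟩ := hO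
  intro c
  induction c using Nat.strong_induction_on with
  | _ c ih =>
    intro hc
    rcases (htree c hc).1 with h0 | ⟨⟨hp, hg⟩, hOc⟩
    · exact ⟨1, one_mem _, by rw [h0, hO0, Perm.one_apply, hω]⟩
    · obtain ⟨g, hgK, hgO⟩ := ih (par c) hp (lt_trans hp hc)
      refine ⟨((gw (gen c)).map (P.perm h)).prod * g, mul_mem (hK _ hg) hgK, ?_⟩
      rw [Perm.mul_apply, prod_val P h _ (hwok _ hg), hgO, hOc]

theorem orb_inj (gw : ℕ → List ℕ) (ng m ω : ℕ) (par gen O Inv : ℕ → ℕ)
    (hO : P.orbOK gw ng m ω par gen O Inv = true) :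
    ∀ c < m, ∀ c' < m, O c = O c' → c = c' := by
  simp only [orbOK, Bool.and_eq_true, Bool.or_eq_true, allBelow_iff, Nat.beq_eq, Nat.blt_eq]
    at hO
  intro c hc c' hc' heq
  rw [← (hO.2 c hc).2, ← (hO.2 c' hc').2, heq]

end PDataI

end Cfsg.Agent.Lib.Helper19.FPI
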