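import Cfsg.Agent.Lib.Helper19.Fi22OutC5

/-!
# Kernel checks for the outer automorphism group of `Fi₂₂` (defining words, part 2)
-/

set_option autoImplicit false

namespace Cfsg.Agent.Lib.Helper19.Fi22Out

open Cfsg.Agent.Lib.Helper19
open Cfsg.Agent.Lib.Helper19.FP (tg16)
open Cfsg.Agent.Lib.Helper19.FPI (PDataI)
open Cfsg.Agent.Lib.Helper19.RC (allBelow)
open Cfsg.Agent.Lib.Helper19.Sift (Lvl tw lvlOK lvlsOK siftChkY hierOK)

theorem dw49 : dwOK 49 = true := by decide +kernel

theorem dw51 : dwOK 51 = true := by decide +kernel

theorem dw53 : dwOK 53 = true := by decide +kernel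

theorem dw55 : dwOK 55 = true := by decide +kernel

theorem dw57 : dwOK 57 = true := by decide +kernel

theorem dw59 : dwOK 59 = true := by decide +kernel

theorem dw61 : dwOK 61 = true := by decide +kernel

theorem dw63 : dwOK 63 = true := by decide +kernel

theorem dw65 : dwOK 65 = true := by decide +kernel

theorem dw67 : dwOK 67 = true := by decide +kernel

theorem dw69 : dwOK 69 = true := by decide +kernel

theorem dw71 : dwOK 71 = true := by decide +kernel

theorem dw73 : dwOK 73 = true := by decide +kernel

theorem dw75 : dwOK 75 = true := by decide +kernel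

theorem dw77 : dwOK 77 = true := by decide +kernel


end Cfsg.Agent.Lib.Helper19.Fi22Out
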