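import Mathlib
import Cfsg.Prelude.Def_KGroupFacts
import Cfsg.Agent.Lib.Helper60.OutTwo

/-!
# A criterion for `|Out(Q)| = 2` via a cyclic Sylow 17-subgroup

`x` has order 17 and generates a Sylow subgroup, `n x n⁻¹ = x²`; every `m` with `m x m⁻¹ = x²`
is a conjugate of `n` under a power of `x`; an automorphism fixing `x` and `n` is trivial; some
automorphism `σ` sends `x` to `x³` and fixes `n`; and `x³` is not conjugate to `x`.
-/

set_option autoImplicit false

namespace Cfsg.Agent.Lib.Helper19.OutCrit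

open Cfsg
open Cfsg.Agent.Lib.Helper60.OutTwo (sylow_cyclic_conj exp_cases conj_pow_two)

theorem conj_aut {Q : Type*} [Group Q] (σ : MulAut Q) (g : Q) :
    σ * MulAut.conj g * σ⁻¹ = MulAut.conj (σ g) := by
  ext y
  simp only [MulAut.mul_apply, MulAut.conj_apply, map_mul, map_inv, MulAut.apply_inv_self]

theorem card_out_two {Q : Type*} [Group Q] [Finite Q] (x n : Q) (σ : MulAut Q)
    (hcard : ¬ 17 ^ 2 ∣ Nat.card Q) (hx : orderOf x = 17) (hn : n * x * n⁻¹ = x ^ 2)
    (hnorm : ∀ m : Q, m * x * m⁻¹ = x ^ 2 → ∃ i : ℕ, m = x ^ i * n * (x ^ i)⁻¹)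
    (hrig : ∀ β : MulAut Q, β x = x → β n = n → β = 1)
    (hσx : σ x = x ^ 3) (hσn : σ n = n)
    (hnc : ∀ g : Q, g * x * g⁻¹ ≠ x ^ 3) :
    Nat.card (Out Q) = 2 := by
  have : Fact (Nat.Prime 17) := ⟨by norm_num⟩
  have hx17 : x ^ 17 = 1 := by rw [← hx, pow_orderOf_eq_one]
  -- an automorphism fixing `x` is inner
  have hfix : ∀ β : MulAut Q, β x = x → ∃ c : Q, β = MulAut.conj c := by
    intro β hβ
    have hm : β n * x * (β n)⁻¹ = x ^ 2 := by
      have e := congrArg β hn
      rw [map_mul, map_mul, map_inv, map_pow, hβ] at e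
      exact e
    obtain ⟨i, hi⟩ := hnorm _ hm
    have h1 : (MulAut.conj (x ^ i)⁻¹ * β) x = x := by
      rw [MulAut.mul_apply, hβ, MulAut.conj_apply, inv_inv, mul_assoc, ← pow_succ', pow_succ,
        inv_mul_cancel_left]
    have h2 : (MulAut.conj (x ^ i)⁻¹ * β) n = n := by
      rw [MulAut.mul_apply, hi, MulAut.conj_apply]
      group
    have h3 := hrig _ h1 h2
    refine ⟨x ^ i, ?_⟩
    have h4 : β = (MulAut.conj (x ^ i)⁻¹)⁻¹ := eq_inv_of_mul_eq_one_right h3
    rw [h4, ← map_inv, inv_inv]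
  -- every automorphism is inner or inner times `σ`
  have key : ∀ α : MulAut Q, α ∈ Inn Q ∨ α * σ⁻¹ ∈ Inn Q := by
    intro α
    have hαx : orderOf (α x) = 17 := by rw [MulEquiv.orderOf_eq, hx]
    obtain ⟨g, k, hk⟩ := sylow_cyclic_conj 17 hcard x (α x) hx hαx
    have hk17 : x ^ k = x ^ (k % 17) := by
      conv_lhs => rw [← Nat.div_add_mod k 17]
      rw [pow_add, pow_mul, hx17, one_pow, one_mul]
    have hk0 : k % 17 ≠ 0 := by
      intro h0
      rw [hk17, h0, pow_zero, mul_one, mul_inv_cancel] at hk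
      rw [hk, orderOf_one] at hαx
      norm_num at hαx
    obtain ⟨j, hj⟩ := exp_cases ⟨k % 17, Nat.mod_lt _ (by norm_num)⟩
      (fun h => hk0 (congrArg Fin.val h))
    have hpm : ∀ m : ℕ, x ^ (m % 17) = x ^ m := by
      intro m
      conv_rhs => rw [← Nat.div_add_mod m 17]
      rw [pow_add, pow_mul, hx17, one_pow, one_mul]
    have hc : ∃ h : Q, ∃ c : ℕ, (c = 1 ∨ c = 3) ∧ α x = h * x ^ c * h⁻¹ := by
      have hnj := conj_pow_two hn (j : ℕ)
      rcases hj with hj | hj
      · refine ⟨g * n ^ (j : ℕ), 1, Or.inl rfl, ?_⟩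
        change k % 17 = 2 ^ (j : ℕ) % 17 at hj
        rw [hk, hk17, hj, hpm, ← hnj, pow_one]
        group
      · refine ⟨g * n ^ (j : ℕ), 3, Or.inr rfl, ?_⟩
        change k % 17 = 2 ^ (j : ℕ) * 3 % 17 at hj
        rw [hk, hk17, hj, hpm, pow_mul, ← hnj, conj_pow]
        group
    obtain ⟨h, c, hc13, hh⟩ := hc
    have hβ : (MulAut.conj h⁻¹ * α) x = x ^ c := by
      rw [MulAut.mul_apply, hh, MulAut.conj_apply]
      group
    rcases hc13 with rfl | rfl
    · left
      rw [pow_one] at hβ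
      obtain ⟨c, hc⟩ := hfix _ hβ
      have e : α = MulAut.conj h * MulAut.conj c := by
        rw [← hc, ← mul_assoc, ← map_mul, mul_inv_cancel, map_one, one_mul]
      rw [e, ← map_mul]
      exact ⟨h * c, rfl⟩
    · right
      have hγ : (σ⁻¹ * (MulAut.conj h⁻¹ * α)) x = x := by
        rw [MulAut.mul_apply, hβ, ← hσx, MulAut.inv_apply_self]
      obtain ⟨c, hc⟩ := hfix _ hγ
      have e : α = MulAut.conj h * (σ * MulAut.conj c) := by
        rw [← hc, ← mul_assoc σ, mul_inv_cancel, one_mul, ← mul_assoc, ← map_mul,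
          mul_inv_cancel, map_one, one_mul]
      have e2 : α * σ⁻¹ = MulAut.conj h * MulAut.conj (σ c) := by
        rw [e, ← conj_aut σ c]
        simp only [mul_assoc]
      rw [e2, ← map_mul]
      exact ⟨h * σ c, rfl⟩
  have hσ : σ ∉ Inn Q := by
    rintro ⟨g, hg⟩
    apply hnc g
    rw [← hσx, ← hg]
    rfl
  have hidx : (Inn Q).index = 2 := by
    rw [Subgroup.index_eq_two_iff]
    refine ⟨σ⁻¹, fun b => ?_⟩
    rcases key b with hb | hb
    · right
      refine ⟨hb, fun hb' => hσ ?_⟩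
      have : σ⁻¹ ∈ Inn Q := by
        have := (Inn Q).mul_mem ((Inn Q).inv_mem hb) hb'
        rwa [inv_mul_cancel_left] at this
      have h2 := (Inn Q).inv_mem this
      rwa [inv_inv] at h2
    · left
      refine ⟨hb, fun hb' => hσ ?_⟩
      have : σ⁻¹ ∈ Inn Q := by
        have := (Inn Q).mul_mem ((Inn Q).inv_mem hb') hb
        rwa [inv_mul_cancel_left] at this
      have h2 := (Inn Q).inv_mem this
      rwa [inv_inv] at h2
  exact hidx

end Cfsg.Agent.Lib.Helper19.OutCrit
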