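import Cfsg.Agent.Lib.Helper19.Fi22OutD

/-!
# Kernel checks for the outer automorphism group of `Fi₂₂` (the tables are permutations)
-/

set_option autoImplicit false

namespace Cfsg.Agent.Lib.Helper19.Fi22Out

open Cfsg.Agent.Lib.Helper19
open Cfsg.Agent.Lib.Helper19.FP (tg16)
open Cfsg.Agent.Lib.Helper19.FPI (PDataI)
open Cfsg.Agent.Lib.Helper19.RC (allBelow)
open Cfsg.Agent.Lib.Helper19.Sift (Lvl tw lvlOK lvlsOK siftChkY hierOK)

theorem Q_ok : Q.ok = true := by decide +kernel

theorem Qt_ok : Qt.ok = true := by decide +kernel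

end Cfsg.Agent.Lib.Helper19.Fi22Out
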