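import Cfsg.Agent.Lib.Helper19.Fi22OutC1

/-!
# Kernel checks for the outer automorphism group of `Fi₂₂` (small checks)
-/

set_option autoImplicit false

namespace Cfsg.Agent.Lib.Helper19.Fi22Out

open Cfsg.Agent.Lib.Helper19
open Cfsg.Agent.Lib.Helper19.FP (tg16)
open Cfsg.Agent.Lib.Helper19.FPI (PDataI)
open Cfsg.Agent.Lib.Helper19.RC (allBelow)
open Cfsg.Agent.Lib.Helper19.Sift (Lvl tw lvlOK lvlsOK siftChkY hierOK)

theorem eqNX : eqOK [43, 9] [9, 9, 9, 9, 43] = true := by decide +kernel

theorem eqRN : eqOK [45, 43] [43, 45] = true := by decide +kernel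

theorem powX : Q.powOK [9] 13 = true := by decide +kernel

theorem xmove : Nat.beq (Q.app [9] 0) 0 = false := by decide +kernel

theorem bmove : Nat.beq (Q.app [1] 0) 0 = false := by decide +kernel

theorem tauX : allBelow (fun v => Nat.beq (tg16 tT (Q.app [9] v)) (Q.app [9, 9] (tg16 tT v))) 3510 =
    true := by decide +kernel

theorem tauN : allBelow (fun v => Nat.beq (tg16 tT (Q.app [43] v)) (Q.app [43] (tg16 tT v)))
    3510 = true := by decide +kernel

theorem tauR : allBelow (fun v => Nat.beq (tg16 tT (Q.app [45] v))
    (Q.app (accB.getD 110 []) (tg16 tT v))) 3510 = true := by decide +kernel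

theorem hierG : hierOK Q (fun _ => true) (fun i => Nat.blt i 9) dw = true := by decide +kernel

theorem hierH : hierOK Q okL baseL dw = true := by decide +kernel

theorem lettersB : LsB.all (fun L => allBelow (fun c => (L.w c).all okL) L.m) = true := by
  decide +kernel

theorem accWokA : accA.all (fun w => Q.wok w) = true := by decide +kernel

theorem accWokB : accB.all (fun w => Q.wok w) = true := by decide +kernel

theorem accLenA : accA.length = 13 := by decide +kernel

theorem accLenB : accB.length = 216 := by decide +kernel

theorem prodA : (LsA.map (fun L => L.m)).prod = 64561751654400 := by decide +kernel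

theorem prodB : (LsB.map (fun L => L.m)).prod = 64561751654400 := by decide +kernel

theorem iterA : List.iterate (Q.app [9]) 0 6 = [0, 1, 63, 370, 2229, 494] := by decide +kernel

theorem iterB : List.iterate (Q.app [43]) 0 5 = [0, 723, 3279, 370, 2992] := by decide +kernel

theorem normOK : allBelow (fun k => (List.iterate (Q.app [9]) 0 6).all (fun b =>
    Nat.beq (Q.app (accA.getD k []) b)
      (Q.app (List.replicate k 9 ++ (43 :: List.replicate k 10)) b))) 13 = true := by
  decide +kernel

theorem rB0 : (List.iterate (Q.app [43]) 0 5).all (fun b =>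
    Nat.beq (Q.app (accB.getD 0 []) b) (Q.app [45] b)) = true := by decide +kernel

theorem badOK : allBelow (fun k => Nat.beq k 0 || (Nat.blt (tg16 tFJ k) 4 &&
    Nat.blt (tg16 tFW k) 3510 &&
    !(Nat.beq ((Q.app (fpU (tg16 tFJ k) ++ accB.getD k []))^[fpE (tg16 tFJ k)] (tg16 tFW k))
      (tg16 tFW k)))) 216 = true := by decide +kernel

theorem fpLet : allBelow (fun j => (fpU j).all okXN) 4 = true := by decide +kernel

theorem invLt : allBelow (fun l => Nat.beq (Q.inv l) l) 9 = true := by decide +kernel

end Cfsg.Agent.Lib.Helper19.Fi22Out
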