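import Cfsg.Agent.Lib.Helper19.Fi22OutC2

/-!
# Kernel checks for the outer automorphism group of `Fi₂₂` (spider relator)
-/

set_option autoImplicit false

namespace Cfsg.Agent.Lib.Helper19.Fi22Out

open Cfsg.Agent.Lib.Helper19
open Cfsg.Agent.Lib.Helper19.FP (tg16)
open Cfsg.Agent.Lib.Helper19.FPI (PDataI)
open Cfsg.Agent.Lib.Helper19.RC (allBelow)
open Cfsg.Agent.Lib.Helper19.Sift (Lvl tw lvlOK lvlsOK siftChkY hierOK)

theorem relS : Q.relOK relsS = true := by decide +kernel

end Cfsg.Agent.Lib.Helper19.Fi22Out
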