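import Cfsg.Agent.Lib.Helper19.Fi22OutC11

/-!
# Kernel checks for the outer automorphism group of `Fi₂₂` (defining words, part 1)
-/

set_option autoImplicit false

namespace Cfsg.Agent.Lib.Helper19.Fi22Out

open Cfsg.Agent.Lib.Helper19
open Cfsg.Agent.Lib.Helper19.FP (tg16)
open Cfsg.Agent.Lib.Helper19.FPI (PDataI)
open Cfsg.Agent.Lib.Helper19.RC (allBelow)
open Cfsg.Agent.Lib.Helper19.Sift (Lvl tw lvlOK lvlsOK siftChkY hierOK)

theorem dw9 : dwOK 9 = true := by decide +kernel

theorem dw11 : dwOK 11 = true := by decide +kernel

theorem dw13 : dwOK 13 = true := by decide +kernel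

theorem dw15 : dwOK 15 = true := by decide +kernel

theorem dw17 : dwOK 17 = true := by decide +kernel

theorem dw19 : dwOK 19 = true := by decide +kernel

theorem dw21 : dwOK 21 = true := by decide +kernel

theorem dw23 : dwOK 23 = true := by decide +kernel

theorem dw25 : dwOK 25 = true := by decide +kernel

theorem dw27 : dwOK 27 = true := by decide +kernel

theorem dw29 : dwOK 29 = true := by decide +kernel

theorem dw31 : dwOK 31 = true := by decide +kernel

theorem dw33 : dwOK 33 = true := by decide +kernel

theorem dw35 : dwOK 35 = true := by decide +kernel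

theorem dw37 : dwOK 37 = true := by decide +kernel

theorem dw39 : dwOK 39 = true := by decide +kernel

theorem dw41 : dwOK 41 = true := by decide +kernel

theorem dw43 : dwOK 43 = true := by decide +kernel

theorem dw45 : dwOK 45 = true := by decide +kernel

theorem dw47 : dwOK 47 = true := by decide +kernel


end Cfsg.Agent.Lib.Helper19.Fi22Out
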