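import Cfsg.Agent.Lib.Helper19.HePres

/-!
# The presented Held group and its permutation model on 2058 points

Consequences of `HePres.main` and its proof: the evaluation homomorphism `φ` from the presented
Held group to the permutations of the 2058 points is injective, its image is the subgroup
generated by the seven involutions, which is simple of order 4030387200.
-/

set_option autoImplicit false

namespace Cfsg.Agent.Lib.Helper19.HeIso

open Cfsg.Spor
open Cfsg.Agent.Lib.Helper19.Cox (L)
open Cfsg.Agent.Lib.Helper19.HePres
open Cfsg.Agent.Lib.Helper19.HeG (s)

theorem bij : Function.Bijective (φ.rangeRestrict) := by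
  obtain ⟨hfin, hle⟩ := card_le
  have := hfin
  have hsurj : Function.Surjective φ.rangeRestrict := φ.rangeRestrict_surjective
  have hlow : 4030387200 ≤ Nat.card φ.range := by
    rw [range_φ]
    exact Cfsg.Agent.Lib.Helper19.HeG.lower
  exact hsurj.bijective_of_nat_card_le (le_trans hle hlow)

theorem φ_injective : Function.Injective φ := by
  intro x y hxy
  apply bij.1
  exact Subtype.ext hxy

/-- the presented Held group is isomorphic to the permutation group on 2058 points -/
noncomputable def eP : PresentedGroup R ≃* L s 7 :=
  (MulEquiv.ofBijective φ.rangeRestrict bij).trans (MulEquiv.subgroupCongr range_φ)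

theorem card_G : Nat.card (L s 7) = 4030387200 := by
  rw [← Nat.card_congr eP.toEquiv]
  exact main.2

theorem simple_G : IsSimpleGroup (L s 7) := Cfsg.Agent.Lib.Helper19.HeG.simple card_G

end Cfsg.Agent.Lib.Helper19.HeIso
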