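import Cfsg.Agent.Lib.Helper19.PermCert

/-!
# Primitivity from the suborbits of a point stabiliser

`preprimitive_of_classes`: a transitive group on `Fin n` is primitive if the points are split into
classes, each class being contained in an orbit of the stabiliser of the base point `b` (the class
of `b` being `{b}`), and no union of classes containing `b`, other than `{b}` and everything, has
a cardinality dividing `n`.
-/

set_option autoImplicit false

namespace Cfsg.Agent.Lib.Helper19.BSGS

open Equiv MulAction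
open scoped Pointwise

theorem preprimitive_of_classes {n m : ℕ} (G : Subgroup (Perm (Fin n))) (b : Fin n)
    (cls : Fin n → Fin m) (c : Fin m → ℕ)
    (hc : ∀ t, (Finset.univ.filter (fun y => cls y = t)).card = c t)
    (hb : ∀ y, cls y = cls b → y = b)
    (htr : ∀ y, ∃ g ∈ G, g b = y)
    (hcl : ∀ y z, cls y = cls z → ∃ h ∈ G, h b = b ∧ h y = z)
    (hnum : ∀ T : Finset (Fin m), cls b ∈ T → (∑ t ∈ T, c t) ∣ n →
      T = {cls b} ∨ T = Finset.univ) :
    IsPreprimitive G (Fin n) := by
  classical
  have : IsPretransitive G (Fin n) := by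
    refine ⟨fun x y => ?_⟩
    obtain ⟨g1, hg1, hg1x⟩ := htr x
    obtain ⟨g2, hg2, hg2y⟩ := htr y
    refine ⟨⟨g2 * g1⁻¹, mul_mem hg2 (inv_mem hg1)⟩, ?_⟩
    show (g2 * g1⁻¹) x = y
    rw [Perm.mul_apply, ← hg1x, ← hg2y]
    congr 1
    rw [Perm.inv_eq_iff_eq]
  apply IsPreprimitive.of_isTrivialBlock_base b
  intro B hbB hB
  -- `B` is a union of classes
  have key : ∀ y ∈ B, ∀ z, cls y = cls z → z ∈ B := by
    intro y hyB z hyz
    obtain ⟨h, hh, hhb, hhy⟩ := hcl y z hyz
    have hsm : (⟨h, hh⟩ : G) • B = B := by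
      apply hB.smul_eq_of_mem hbB
      show h b ∈ B
      rw [hhb]; exact hbB
    rw [← hsm]
    exact ⟨y, hyB, hhy⟩
  set T : Finset (Fin m) := Finset.univ.filter (fun t => ∃ y ∈ B, cls y = t) with hT
  have hBT : ∀ y, y ∈ B ↔ cls y ∈ T := by
    intro y
    constructor
    · intro hy
      rw [hT, Finset.mem_filter]
      exact ⟨Finset.mem_univ _, y, hy, rfl⟩
    · intro hy
      rw [hT, Finset.mem_filter] at hy
      obtain ⟨_, y', hy', hyy'⟩ := hy
      exact key y' hy' y hyy'
  have hbT : cls b ∈ T := (hBT b).mp hbB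
  have hBfin : B = ((Finset.univ.filter (fun y => cls y ∈ T) : Finset (Fin n)) : Set (Fin n)) := by
    ext y
    simp only [Finset.coe_filter, Finset.mem_univ, true_and, Set.mem_ofPred_eq]
    exact hBT y
  have hcard : B.ncard = ∑ t ∈ T, c t := by
    rw [hBfin, Set.ncard_coe_finset]
    have hfib := Finset.card_eq_sum_card_fiberwise
      (s := Finset.univ.filter (fun y => cls y ∈ T)) (f := cls) (t := T)
      (fun x hx => (Finset.mem_filter.mp hx).2)
    rw [hfib]
    apply Finset.sum_congr rfl
    intro t ht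
    rw [← hc t]
    congr 1
    ext y
    simp only [Finset.mem_filter, Finset.mem_univ, true_and]
    constructor
    · rintro ⟨_, h2⟩; exact h2
    · intro h2; exact ⟨by rw [h2]; exact ht, h2⟩
  have hdvd : (∑ t ∈ T, c t) ∣ n := by
    have h := hB.ncard_dvd_card ⟨b, hbB⟩
    rw [hcard, Nat.card_eq_fintype_card, Fintype.card_fin] at h
    exact h
  rcases hnum T hbT hdvd with h1 | h2
  · left
    have hsub : ∀ y ∈ B, y = b := by
      intro y hy
      have := (hBT y).mp hy
      rw [h1, Finset.mem_singleton] at this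
      exact hb y this
    intro y hy z hz
    rw [hsub y hy, hsub z hz]
  · right
    ext y
    simp only [Set.mem_univ, iff_true]
    rw [hBT y, h2]
    exact Finset.mem_univ _

end Cfsg.Agent.Lib.Helper19.BSGS
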