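import Cfsg.Agent.Lib.Helper19.HeOrb
import Cfsg.Agent.Lib.Helper19.PrimClasses

/-!
# The Held group on 2058 points: lower bounds for orders, primitivity, simplicity

`G = ⟨s 0, …, s 6⟩ ≤ Sym(2058)`.  Orbit certificates give `4030387200 ≤ |G|` and
`15120 ≤ |⟨s 0, …, s 4⟩|`.  The point stabiliser has orbits of lengths 1, 1360, 425, 136, 136, so
`G` is primitive; if moreover `|G| = 4030387200` then `G` is simple, because a Sylow 7-subgroup
has order `7 ^ 3`, which divides the degree.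
-/

set_option autoImplicit false

namespace Cfsg.Agent.Lib.Helper19.HeG

open Equiv MulAction
open Cfsg.Agent.Lib.Helper19
open Cfsg.Agent.Lib.Helper19.Cox (L L_mono mem_L L_zero)
open Cfsg.Agent.Lib.Helper19.RC (allBelow allBelow_iff)
open Cfsg.Agent.Lib.Helper19.FP (tg16)

/-- the seven generating involutions -/
def s (i : ℕ) : Perm (Fin P.d) := P.perm P_ok i

theorem hs : ∀ i, s i * s i = 1 := P.perm_mul_self P_ok

theorem hrel : ∀ r, ((rels.getD r []).map s).prod = 1 := P.rel_getD P_ok rels rels_ok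

theorem hzw : (zw.map s).prod = 1 :=
  P.rel_eq_one P_ok [zw] zw_ok zw List.mem_cons_self

/-- a point of `Fin 2058` -/
def pt (x : ℕ) (h : x < 2058 := by norm_num) : Fin P.d := ⟨x, h⟩

/-! ### The lower bounds -/

theorem gen_word_mem (k : ℕ) : ∀ j < k, (([j] : List ℕ).map s).prod ∈ L s k := by
  intro j hj
  simp only [List.map_cons, List.map_nil, List.prod_cons, List.prod_nil, mul_one]
  exact mem_L s hj

/-- the stabiliser of the point 0 -/
def K1 : Subgroup (Perm (Fin P.d)) := L s 7 ⊓ stabilizer (Perm (Fin P.d)) (pt 0)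

/-- the stabiliser of the points 0 and 1 -/
def K2 : Subgroup (Perm (Fin P.d)) := K1 ⊓ stabilizer (Perm (Fin P.d)) (pt 1)

/-- the stabiliser of the points 0, 1 and 15 -/
def K3 : Subgroup (Perm (Fin P.d)) := K2 ⊓ stabilizer (Perm (Fin P.d)) (pt 15)

theorem wok_lt {w : List ℕ} (h : P.wok w = true) : ∀ i ∈ w, i < 7 := (P.wok_iff w).mp h

theorem low7 : 2058 * Nat.card K1 ≤ Nat.card (L s 7) :=
  FP.orbit_lower (L s 7) (pt 0) 2058 (fun c => c)
    (P.orb_inj _ _ _ _ _ _ _ _ orb7)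
    (P.orb_reach P_ok _ _ _ _ _ _ _ _ orb7 (L s 7) (gen_word_mem 7) (pt 0) rfl)

theorem k1_mem : ∀ j < 7, ((w1.getD j []).map s).prod ∈ K1 := by
  intro j _
  have hk := w1_ok
  simp only [List.all_eq_true, Bool.and_eq_true, Nat.beq_eq] at hk
  by_cases hlt : j < w1.length
  · rw [List.getD_eq_getElem _ _ hlt]
    obtain ⟨h1, h2⟩ := hk _ (List.getElem_mem hlt)
    exact Subgroup.mem_inf.mpr ⟨P.prod_mem_L P_ok _ 7 (wok_lt h1),
      P.prod_mem_stab P_ok _ h1 (pt 0) h2⟩
  · rw [List.getD_eq_default _ _ (Nat.le_of_not_lt hlt)]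
    simp only [List.map_nil, List.prod_nil]
    exact one_mem _

theorem low1 : 1360 * Nat.card K2 ≤ Nat.card K1 :=
  FP.orbit_lower K1 (pt 1) 1360 (fun c => tg16 tOS1 c)
    (P.orb_inj _ _ _ _ _ _ _ _ orbS1)
    (P.orb_reach P_ok _ _ _ _ _ _ _ _ orbS1 K1 k1_mem (pt 1) rfl)

theorem k2_mem : ∀ j < 4, ((w2.getD j []).map s).prod ∈ K2 := by
  intro j _
  have hk := w2_ok
  simp only [List.all_eq_true, Bool.and_eq_true, Nat.beq_eq] at hk
  by_cases hlt : j < w2.length
  · rw [List.getD_eq_getElem _ _ hlt]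
    obtain ⟨⟨h1, h2⟩, h3⟩ := hk _ (List.getElem_mem hlt)
    exact Subgroup.mem_inf.mpr ⟨Subgroup.mem_inf.mpr ⟨P.prod_mem_L P_ok _ 7 (wok_lt h1),
      P.prod_mem_stab P_ok _ h1 (pt 0) h2⟩, P.prod_mem_stab P_ok _ h1 (pt 1) h3⟩
  · rw [List.getD_eq_default _ _ (Nat.le_of_not_lt hlt)]
    simp only [List.map_nil, List.prod_nil]
    exact one_mem _

theorem low2 : 360 * Nat.card K3 ≤ Nat.card K2 :=
  FP.orbit_lower K2 (pt 15) 360 (fun c => tg16 tO2 c)
    (P.orb_inj _ _ _ _ _ _ _ _ orb2)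
    (P.orb_reach P_ok _ _ _ _ _ _ _ _ orb2 K2 k2_mem (pt 15) rfl)

theorem k3_mem : ∀ j < 2, ((w3.getD j []).map s).prod ∈ K3 := by
  intro j _
  have hk := w3_ok
  simp only [List.all_eq_true, Bool.and_eq_true, Nat.beq_eq] at hk
  by_cases hlt : j < w3.length
  · rw [List.getD_eq_getElem _ _ hlt]
    obtain ⟨⟨⟨h1, h2⟩, h3⟩, h4⟩ := hk _ (List.getElem_mem hlt)
    exact Subgroup.mem_inf.mpr ⟨Subgroup.mem_inf.mpr ⟨Subgroup.mem_inf.mpr
      ⟨P.prod_mem_L P_ok _ 7 (wok_lt h1), P.prod_mem_stab P_ok _ h1 (pt 0) h2⟩,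
      P.prod_mem_stab P_ok _ h1 (pt 1) h3⟩, P.prod_mem_stab P_ok _ h1 (pt 15) h4⟩
  · rw [List.getD_eq_default _ _ (Nat.le_of_not_lt hlt)]
    simp only [List.map_nil, List.prod_nil]
    exact one_mem _

theorem low3 : 4 ≤ Nat.card K3 := by
  have h := FP.orbit_lower K3 (pt 34) 4 (fun c => tg16 tO3 c)
    (P.orb_inj _ _ _ _ _ _ _ _ orb3)
    (P.orb_reach P_ok _ _ _ _ _ _ _ _ orb3 K3 k3_mem (pt 34) rfl)
  have hpos : 0 < Nat.card
      (K3 ⊓ stabilizer (Perm (Fin P.d)) (pt 34) : Subgroup (Perm (Fin P.d))) := Nat.card_pos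
  calc 4 = 4 * 1 := rfl
    _ ≤ 4 * Nat.card
      (K3 ⊓ stabilizer (Perm (Fin P.d)) (pt 34) : Subgroup (Perm (Fin P.d))) :=
      Nat.mul_le_mul_left _ hpos
    _ ≤ Nat.card K3 := h

/-- The order of `G` is at least the order of the Held group. -/
theorem lower : 4030387200 ≤ Nat.card (L s 7) := by
  have h7 := low7
  have h1 := low1
  have h2 := low2
  have h3 := low3
  omega

/-- the stabiliser of the point 46 in `⟨s 0, …, s 4⟩` -/
def KM : Subgroup (Perm (Fin P.d)) := L s 5 ⊓ stabilizer (Perm (Fin P.d)) (pt 46)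

theorem lowM : 756 * Nat.card KM ≤ Nat.card (L s 5) :=
  FP.orbit_lower (L s 5) (pt 46) 756 (fun c => tg16 tOM c)
    (P.orb_inj _ _ _ _ _ _ _ _ orbM)
    (P.orb_reach P_ok _ _ _ _ _ _ _ _ orbM (L s 5) (gen_word_mem 5) (pt 46) rfl)

theorem kM_mem : ∀ j < 2, ((wM.getD j []).map s).prod ∈ KM := by
  intro j _
  have hk := wM_ok
  simp only [List.all_eq_true, Bool.and_eq_true, Nat.blt_eq, Nat.beq_eq] at hk
  by_cases hlt : j < wM.length
  · rw [List.getD_eq_getElem _ _ hlt]
    obtain ⟨⟨h1, h2⟩, h3⟩ := hk _ (List.getElem_mem hlt)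
    exact Subgroup.mem_inf.mpr ⟨P.prod_mem_L P_ok _ 5 h2, P.prod_mem_stab P_ok _ h1 (pt 46) h3⟩
  · rw [List.getD_eq_default _ _ (Nat.le_of_not_lt hlt)]
    simp only [List.map_nil, List.prod_nil]
    exact one_mem _

theorem lowQ : 20 ≤ Nat.card KM := by
  have h := FP.orbit_lower KM (pt 18) 20 (fun c => tg16 tOQ c)
    (P.orb_inj _ _ _ _ _ _ _ _ orbQ)
    (P.orb_reach P_ok _ _ _ _ _ _ _ _ orbQ KM kM_mem (pt 18) rfl)
  have hpos : 0 < Nat.card
      (KM ⊓ stabilizer (Perm (Fin P.d)) (pt 18) : Subgroup (Perm (Fin P.d))) := Nat.card_pos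
  calc 20 = 20 * 1 := rfl
    _ ≤ 20 * Nat.card
      (KM ⊓ stabilizer (Perm (Fin P.d)) (pt 18) : Subgroup (Perm (Fin P.d))) :=
      Nat.mul_le_mul_left _ hpos
    _ ≤ Nat.card KM := h

/-- The subgroup generated by the first five involutions has order at least `15120`. -/
theorem lower5 : 15120 ≤ Nat.card (L s 5) := by
  have h1 := lowM
  have h2 := lowQ
  omega

/-! ### Primitivity -/

/-- the class of a point -/
def cls (y : Fin P.d) : Fin 5 := Fin.ofNat 5 (clsN y.val)

theorem cls_val (y : Fin P.d) : (cls y).val = clsN y.val := by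
  have h := (allBelow_iff _ _).mp cls_lt y.val y.2
  rw [Nat.blt_eq] at h
  show clsN y.val % 5 = clsN y.val
  exact Nat.mod_eq_of_lt h

theorem cls_count : ∀ t : Fin 5, (Finset.univ.filter (fun y : Fin P.d => cls y = t)).card =
    (![1, 1360, 425, 136, 136] : Fin 5 → ℕ) t := by decide +kernel

theorem fix_K1 : ∀ g ∈ K1, g (pt 0) = pt 0 := by
  intro g hg
  have := (Subgroup.mem_inf.mp hg).2
  rwa [mem_stabilizer_iff, Perm.smul_def] at this

/-- points of the same class are conjugate under the stabiliser of the point 0 -/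
theorem cls_trans (m r : ℕ) (hr : r < 2058) (par gen O : ℕ → ℕ) (i : ℕ)
    (horb : P.orbOK (fun j => w1.getD j []) 7 m r par gen O (fun x => tg16 tPos x) = true)
    (hcls : allBelow (fun y => !(Nat.beq (clsN y) i) ||
      (Nat.blt (tg16 tPos y) m && Nat.beq (O (tg16 tPos y)) y)) 2058 = true) :
    ∀ y z : Fin P.d, clsN y.val = i → clsN z.val = i →
      ∃ h ∈ L s 7, h (pt 0) = pt 0 ∧ h y = z := by
  have hreach := P.orb_reach P_ok _ _ _ _ _ _ _ _ horb K1 k1_mem (⟨r, hr⟩ : Fin P.d) rfl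
  have key : ∀ y : Fin P.d, clsN y.val = i → ∃ g ∈ K1, g (⟨r, hr⟩ : Fin P.d) = y := by
    intro y hy
    have h := (allBelow_iff _ _).mp hcls y.val y.2
    simp only [Bool.or_eq_true, Bool.not_eq_true', Bool.and_eq_true, Nat.blt_eq, Nat.beq_eq]
      at h
    rcases h with h | ⟨h1, h2⟩
    · rw [hy] at h
      simp at h
    · obtain ⟨g, hg, hgv⟩ := hreach _ h1
      exact ⟨g, hg, Fin.ext (by rw [hgv, h2])⟩
  intro y z hy hz
  obtain ⟨g1, hg1, hg1y⟩ := key y hy
  obtain ⟨g2, hg2, hg2z⟩ := key z hz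
  have hmem : g2 * g1⁻¹ ∈ K1 := mul_mem hg2 (inv_mem hg1)
  refine ⟨g2 * g1⁻¹, (Subgroup.mem_inf.mp hmem).1, fix_K1 _ hmem, ?_⟩
  rw [Perm.mul_apply, ← hg1y, Perm.inv_eq_iff_eq.mpr rfl, hg2z]

theorem cls_zero (y : Fin P.d) (h : clsN y.val = 0) : y = pt 0 := by
  have h0 := (allBelow_iff _ _).mp cls0 y.val y.2
  simp only [Bool.or_eq_true, Bool.not_eq_true', Nat.beq_eq] at h0
  rcases h0 with h0 | h0
  · rw [h] at h0
    simp at h0
  · exact Fin.ext h0

theorem clsN_zero : clsN 0 = 0 := by decide +kernel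

instance prim : IsPreprimitive (L s 7) (Fin P.d) := by
  apply BSGS.preprimitive_of_classes (L s 7) (pt 0) cls (![1, 1360, 425, 136, 136] : Fin 5 → ℕ)
    cls_count
  · intro y hy
    apply cls_zero
    have h1 := congrArg Fin.val hy
    rw [cls_val, cls_val] at h1
    rw [h1]
    exact clsN_zero
  · intro y
    obtain ⟨g, hg, hgv⟩ := P.orb_reach P_ok _ _ _ _ _ _ _ _ orb7 (L s 7) (gen_word_mem 7)
      (pt 0) rfl y.val y.2
    exact ⟨g, hg, Fin.ext hgv⟩
  · intro y z hyz
    have h1 := congrArg Fin.val hyz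
    rw [cls_val, cls_val] at h1
    have hlt := (allBelow_iff _ _).mp cls_lt y.val y.2
    rw [Nat.blt_eq] at hlt
    have hcases : clsN y.val = 0 ∨ clsN y.val = 1 ∨ clsN y.val = 2 ∨ clsN y.val = 3 ∨
        clsN y.val = 4 := by omega
    rcases hcases with h | h | h | h | h
    · have hy0 := cls_zero y h
      have hz0 := cls_zero z (h1 ▸ h)
      exact ⟨1, one_mem _, rfl, by rw [hy0, hz0]; rfl⟩
    · exact cls_trans 1360 1 (by norm_num) _ _ _ 1 orbS1 clsS1 y z h (h1 ▸ h)
    · exact cls_trans 425 2 (by norm_num) _ _ _ 2 orbS2 clsS2 y z h (h1 ▸ h)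
    · exact cls_trans 136 46 (by norm_num) _ _ _ 3 orbS3 clsS3 y z h (h1 ▸ h)
    · exact cls_trans 136 65 (by norm_num) _ _ _ 4 orbS4 clsS4 y z h (h1 ▸ h)
  · have hb : cls (pt 0) = 0 := by
      apply Fin.ext
      rw [cls_val]
      exact clsN_zero
    rw [hb]
    show ∀ T : Finset (Fin 5), (0 : Fin 5) ∈ T →
      (∑ t ∈ T, (![1, 1360, 425, 136, 136] : Fin 5 → ℕ) t) ∣ 2058 → T = {0} ∨ T = Finset.univ
    decide

/-! ### Simplicity -/

/-- A primitive permutation group `G` on `α` such that the full `p`-part of `|G|` divides `|α|`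
and the elements of order dividing `p` generate `G` as a normal subgroup, is simple. -/
theorem isSimpleGroup_of_primitive' {α : Type*} [Finite α] (G : Subgroup (Perm α))
    [IsPreprimitive G α]
    (p a : ℕ) (hp : p.Prime) (hα : p ^ a ∣ Nat.card α) (hG : ¬ p ^ (a + 1) ∣ Nat.card G)
    (hncl : ∀ N : Subgroup G, N.Normal → (∀ x : G, x ^ p = 1 → x ∈ N) → N = ⊤)
    (hnt : Nontrivial G) : IsSimpleGroup G := by
  refine { exists_pair_ne := hnt.exists_pair_ne, eq_bot_or_eq_top_of_normal := ?_ }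
  intro N hN
  by_cases hbot : N = ⊥
  · exact Or.inl hbot
  · right
    apply hncl N hN
    intro x hx
    apply BSGS.mem_of_pow_eq_one N p hp _ x hx
    intro hdvd
    apply hG
    have h1 : p ^ a ∣ Nat.card N := dvd_trans hα (BSGS.card_dvd_of_normal G N hbot)
    have h2 := Subgroup.card_mul_index N
    rw [← h2, pow_succ]
    exact mul_dvd_mul h1 hdvd

theorem s_eq_one (i : ℕ) (hi : 7 ≤ i) : s i = 1 := by
  ext x
  show P.act i x.val = x.val
  unfold FP.PData.act
  have : ¬ i < P.n := by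
    show ¬ i < 7
    omega
  simp only [this, if_false]

theorem s_mem (i : ℕ) : s i ∈ L s 7 := by
  by_cases hi : i < 7
  · exact mem_L s hi
  · rw [s_eq_one i (by omega)]
    exact one_mem _

/-- the generators as elements of `G` -/
def S (i : ℕ) : L s 7 := ⟨s i, s_mem i⟩

theorem val_prod_S (w : List ℕ) : ((w.map S).prod : L s 7).val = (w.map s).prod := by
  induction w with
  | nil => simp
  | cons a t ih =>
    rw [List.map_cons, List.prod_cons, Subgroup.coe_mul, ih, List.map_cons, List.prod_cons]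
    rfl

theorem ncl : ∀ N : Subgroup (L s 7), N.Normal → (∀ x : L s 7, x ^ 7 = 1 → x ∈ N) → N = ⊤ := by
  intro N hN h7
  -- the generator `s 3` is a product of two elements of order 7
  have hY : ((wy.map S).prod : L s 7) ^ 7 = 1 := by
    apply Subtype.ext
    rw [Subgroup.coe_pow, val_prod_S, Subgroup.coe_one]
    exact P.pow_eq_one P_ok wy 7 wy_ok
  have hZ : (((wy.reverse ++ [3]).map S).prod : L s 7) ^ 7 = 1 := by
    apply Subtype.ext
    rw [Subgroup.coe_pow, val_prod_S, Subgroup.coe_one]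
    exact P.pow_eq_one P_ok _ 7 wz_ok
  have hS3 : S 3 = (wy.map S).prod * ((wy.reverse ++ [3]).map S).prod := by
    apply Subtype.ext
    rw [Subgroup.coe_mul, val_prod_S, val_prod_S, List.map_append, List.prod_append,
      RC.rev_prod s hs wy]
    simp [S]
  have hS3N : S 3 ∈ N := by
    rw [hS3]
    exact N.mul_mem (h7 _ hY) (h7 _ hZ)
  -- work in the quotient
  let q : ℕ → (L s 7) ⧸ N := fun i => (QuotientGroup.mk (S i) : (L s 7) ⧸ N)
  have hq : ∀ w : List ℕ, (w.map s).prod = 1 → (w.map q).prod = 1 := by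
    intro w hw
    have h1 : (w.map S).prod = 1 := by
      apply Subtype.ext
      rw [val_prod_S, hw, Subgroup.coe_one]
    have h2 : (w.map q).prod = (QuotientGroup.mk ((w.map S).prod) : (L s 7) ⧸ N) := by
      rw [← QuotientGroup.mk'_apply, map_list_prod, List.map_map]
      rfl
    rw [h2, h1]
    rfl
  have hq2 : ∀ i, q i * q i = 1 := by
    intro i
    have h1 : S i * S i = 1 := Subtype.ext (by rw [Subgroup.coe_mul, Subgroup.coe_one]; exact hs i)
    show (QuotientGroup.mk (S i) : (L s 7) ⧸ N) * QuotientGroup.mk (S i) = 1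
    rw [← QuotientGroup.mk_mul, h1]
    rfl
  have hqq : ∀ i z, q i * (q i * z) = z := by
    intro i z
    rw [← mul_assoc, hq2, one_mul]
  have hq3 : q 3 = 1 := (QuotientGroup.eq_one_iff _).mpr hS3N
  have hq4 : q 4 = 1 := by
    have h := hq [3, 4, 3, 4, 3, 4] (hrel 15)
    simpa only [List.map_cons, List.map_nil, List.prod_cons, List.prod_nil, hq3, one_mul, mul_one,
      hqq] using h
  have hq5 : q 5 = 1 := by
    have h := hq [3, 5, 3, 5, 3, 5] (hrel 16)
    simpa only [List.map_cons, List.map_nil, List.prod_cons, List.prod_nil, hq3, one_mul, mul_one,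
      hqq] using h
  have hq6 : q 6 = 1 := by
    have h := hq [3, 6, 3, 6, 3, 6] (hrel 17)
    simpa only [List.map_cons, List.map_nil, List.prod_cons, List.prod_nil, hq3, one_mul, mul_one,
      hqq] using h
  have hq02 : q 0 * q 2 = 1 := by
    have h := hq [0, 2, 3, 2, 3, 2, 3, 2, 3, 2, 3] (hrel 23)
    simpa only [List.map_cons, List.map_nil, List.prod_cons, List.prod_nil, hq3, one_mul, mul_one,
      hqq, hq2] using h
  have hq0 : q 0 = q 2 := by
    have h := congrArg (fun t => t * q 2) hq02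
    simpa only [mul_assoc, hq2, mul_one, one_mul] using h
  have hq1 : q 1 = 1 := by
    have h := hq [4, 0, 1, 2, 0, 1, 2, 0, 1, 2] (hrel 22)
    have h' : q 2 * (q 1 * q 2) = 1 := by
      simpa only [List.map_cons, List.map_nil, List.prod_cons, List.prod_nil, hq4, hq0, one_mul,
        mul_one, hqq, hq2] using h
    have h2 := congrArg (fun t => q 2 * (t * q 2)) h'
    simpa only [mul_assoc, hq2, mul_one, one_mul, hqq] using h2
  have hq2' : q 2 = 1 := by
    have h := hq [1, 2, 1, 2, 1, 2] (hrel 6)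
    simpa only [List.map_cons, List.map_nil, List.prod_cons, List.prod_nil, hq1, one_mul, mul_one,
      hqq] using h
  have hq0' : q 0 = 1 := by rw [hq0, hq2']
  have hSN : ∀ i, i < 7 → S i ∈ N := by
    intro i hi
    apply (QuotientGroup.eq_one_iff _).mp
    show q i = 1
    interval_cases i
    · exact hq0'
    · exact hq1
    · exact hq2'
    · exact hq3
    · exact hq4
    · exact hq5
    · exact hq6
  rw [eq_top_iff]
  rintro ⟨g, hg⟩ _
  have : ∀ g (hg : g ∈ L s 7), (⟨g, hg⟩ : L s 7) ∈ N := by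
    intro g hg
    unfold L at hg
    induction hg using Subgroup.closure_induction with
    | mem y hy =>
      obtain ⟨i, hi, rfl⟩ := hy
      exact hSN i hi
    | one => exact N.one_mem
    | mul a b ha hb iha ihb => exact N.mul_mem iha ihb
    | inv a ha iha => exact N.inv_mem iha
  exact this g hg

/-- `G` is simple, provided its order is that of the Held group. -/
theorem simple (hcard : Nat.card (L s 7) = 4030387200) : IsSimpleGroup (L s 7) := by
  apply isSimpleGroup_of_primitive' (L s 7) 7 3 (by norm_num)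
  · rw [Nat.card_eq_fintype_card, Fintype.card_fin]
    show 7 ^ 3 ∣ 2058
    norm_num
  · rw [hcard]; norm_num
  · exact ncl
  · rw [← Finite.one_lt_card_iff_nontrivial, hcard]
    norm_num

end Cfsg.Agent.Lib.Helper19.HeG
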