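import Cfsg.Agent.Lib.Helper19.HeOutD

/-!
# Kernel checks for the outer automorphism group of the Held group (part 3)
-/

set_option autoImplicit false

namespace Cfsg.Agent.Lib.Helper19.HeOut

open Cfsg.Agent.Lib.Helper19
open Cfsg.Agent.Lib.Helper19.FP (tg16)
open Cfsg.Agent.Lib.Helper19.FPI (PDataI)
open Cfsg.Agent.Lib.Helper19.RC (allBelow)
open Cfsg.Agent.Lib.Helper19.Sift (Lvl tw lvlOK siftOK wordOf)

theorem sA2 : siftOK Q L1 L2 L3A L4A [7] [7, 7, 7] [7, 7, 7] [7, 7, 7, 7, 7, 7] []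
    (fun _ c2 => tg16 tWA2 c2) = true := by decide +kernel

end Cfsg.Agent.Lib.Helper19.HeOut
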