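import Cfsg.Agent.Lib.Helper19.HeOutD

/-!
# Kernel checks for the outer automorphism group of the Held group (part 4)
-/

set_option autoImplicit false

namespace Cfsg.Agent.Lib.Helper19.HeOut

open Cfsg.Agent.Lib.Helper19
open Cfsg.Agent.Lib.Helper19.FP (tg16)
open Cfsg.Agent.Lib.Helper19.FPI (PDataI)
open Cfsg.Agent.Lib.Helper19.RC (allBelow)
open Cfsg.Agent.Lib.Helper19.Sift (Lvl tw lvlOK siftOK wordOf)

theorem sB : siftOK Q L1 L2 L3B L4B [9] [9, 9, 9] [9, 9, 9] [9, 9, 9, 9, 9, 9, 9, 9, 9] accB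
    (fun c1 c2 => tg16 tWB (Nat.add (Nat.mul c1 1360) c2)) = true := by decide +kernel

end Cfsg.Agent.Lib.Helper19.HeOut
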