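import Cfsg.Agent.Lib.Helper19.HeOutD

/-!
# Kernel checks for the outer automorphism group of the Held group (part 5)
-/

set_option autoImplicit false

namespace Cfsg.Agent.Lib.Helper19.HeOut

open Cfsg.Agent.Lib.Helper19
open Cfsg.Agent.Lib.Helper19.FP (tg16)
open Cfsg.Agent.Lib.Helper19.FPI (PDataI)
open Cfsg.Agent.Lib.Helper19.RC (allBelow)
open Cfsg.Agent.Lib.Helper19.Sift (Lvl tw lvlOK siftOK wordOf)

/-- the word acts trivially -/
def trivOK (w : List ℕ) : Bool := Q.wok w && allBelow (fun x => Nat.beq (Q.app w x) x) 2058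

theorem agOK7 : trivOK (8 :: ag 7) = true := by decide +kernel

theorem agOK9 : trivOK (10 :: ag 9) = true := by decide +kernel

theorem agOK11 : trivOK (11 :: ag 11) = true := by decide +kernel

theorem agLt : ((ag 7).all (fun a => Nat.blt a 7) && (ag 9).all (fun a => Nat.blt a 7) &&
    (ag 11).all (fun a => Nat.blt a 7)) = true := by decide +kernel

theorem tauX : allBelow (fun v => Nat.beq (tg16 tT (Q.app [7] v))
    (Q.app [7, 7, 7] (tg16 tT v))) 2058 = true := by decide +kernel

theorem tauN : allBelow (fun v => Nat.beq (tg16 tT (Q.app [9] v))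
    (Q.app [9] (tg16 tT v))) 2058 = true := by decide +kernel

theorem tauR : allBelow (fun v => Nat.beq (tg16 tT (Q.app [11] v))
    (Q.app (wordOf L1 L2 L3B L4B (accB.getD 12 (0, 0, 0, 0))) (tg16 tT v))) 2058 = true := by
  decide +kernel

theorem tauLt : allBelow (fun v => Nat.blt (tg16 tT v) 2058) 2058 = true := by decide +kernel

end Cfsg.Agent.Lib.Helper19.HeOut
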