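import Cfsg.Agent.Lib.Helper19.Sift

/-!
# Stabiliser chains: elements are determined by the images of the base points
-/

set_option autoImplicit false

namespace Cfsg.Agent.Lib.Helper19.Sift

open Equiv
open Cfsg.Agent.Lib.Helper19.RC (allBelow allBelow_iff)
open Cfsg.Agent.Lib.Helper19.FPI (PDataI)

variable (P : PDataI)

theorem pr_cons (h : P.ok = true) (a : ℕ) (w : List ℕ) :
    pr P h (a :: w) = P.perm h a * pr P h w := by
  unfold pr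
  rw [List.map_cons, List.prod_cons]

theorem pr_nil (h : P.ok = true) : pr P h [] = 1 := rfl

theorem pr_replicate (h : P.ok = true) (k i : ℕ) :
    pr P h (List.replicate k i) = P.perm h i ^ k := by
  unfold pr
  rw [List.map_replicate, List.prod_replicate]

theorem pr_pow_val (h : P.ok = true) (w : List ℕ) (hw : P.wok w = true) (m : ℕ)
    (x : Fin P.d) : ((pr P h w ^ m) x).val = (P.app w)^[m] x.val := by
  induction m generalizing x with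
  | zero => rfl
  | succ m ih =>
    rw [pow_succ, Perm.mul_apply, ih, pr_val P h w hw, Function.iterate_succ_apply]

/-- two elements of the group with the same images of the base points are equal -/
theorem base_eq (h : P.ok = true) (G : Subgroup (Perm (Fin P.d)))
    (L1 L2 L3 L4 : Lvl) (b1 b2 b3 b4 : ℕ) (hb1 : b1 < P.d) (hb2 : b2 < P.d) (hb3 : b3 < P.d)
    (hb4 : b4 < P.d)
    (hl1 : lvlOK P L1 b1 [] = true) (hl2 : lvlOK P L2 b2 [b1] = true)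
    (hl3 : lvlOK P L3 b3 [b1, b2] = true) (hl4 : lvlOK P L4 b4 [b1, b2, b3] = true)
    (hfact : ∀ g ∈ G, ∃ c1 < L1.m, ∃ c2 < L2.m, ∃ c3 < L3.m, ∃ c4 < L4.m,
      g = pr P h (L1.w c1) * pr P h (L2.w c2) * pr P h (L3.w c3) * pr P h (L4.w c4))
    (u v : Perm (Fin P.d)) (hu : u ∈ G) (hv : v ∈ G)
    (e1 : u ⟨b1, hb1⟩ = v ⟨b1, hb1⟩) (e2 : u ⟨b2, hb2⟩ = v ⟨b2, hb2⟩)
    (e3 : u ⟨b3, hb3⟩ = v ⟨b3, hb3⟩) (e4 : u ⟨b4, hb4⟩ = v ⟨b4, hb4⟩) : u = v := by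
  obtain ⟨c1, hc1, c2, hc2, c3, hc3, c4, hc4, huf⟩ := hfact u hu
  obtain ⟨a1, ha1, a2, ha2, a3, ha3, a4, ha4, hvf⟩ := hfact v hv
  have key : ∀ (x1 x2 x3 x4 : ℕ), x1 < L1.m → x2 < L2.m → x3 < L3.m → x4 < L4.m →
      ((pr P h (L1.w x1) * pr P h (L2.w x2) * pr P h (L3.w x3) * pr P h (L4.w x4)) ⟨b1, hb1⟩ =
        pr P h (L1.w x1) ⟨b1, hb1⟩) ∧
      ((pr P h (L1.w x1) * pr P h (L2.w x2) * pr P h (L3.w x3) * pr P h (L4.w x4)) ⟨b2, hb2⟩ =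
        pr P h (L1.w x1) (pr P h (L2.w x2) ⟨b2, hb2⟩)) ∧
      ((pr P h (L1.w x1) * pr P h (L2.w x2) * pr P h (L3.w x3) * pr P h (L4.w x4)) ⟨b3, hb3⟩ =
        pr P h (L1.w x1) (pr P h (L2.w x2) (pr P h (L3.w x3) ⟨b3, hb3⟩))) := by
    intro x1 x2 x3 x4 h1 h2 h3 h4
    obtain ⟨w2, -, -, f2⟩ := lvl_spec P L2 b2 [b1] hl2 x2 h2
    obtain ⟨w3, -, -, f3⟩ := lvl_spec P L3 b3 [b1, b2] hl3 x3 h3
    obtain ⟨w4, -, -, f4⟩ := lvl_spec P L4 b4 [b1, b2, b3] hl4 x4 h4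
    refine ⟨?_, ?_, ?_⟩
    · rw [Perm.mul_apply, Perm.mul_apply, Perm.mul_apply,
        pr_fix P h _ w4 b1 hb1 (f4 b1 (by simp)), pr_fix P h _ w3 b1 hb1 (f3 b1 (by simp)),
        pr_fix P h _ w2 b1 hb1 (f2 b1 (by simp))]
    · rw [Perm.mul_apply, Perm.mul_apply, Perm.mul_apply,
        pr_fix P h _ w4 b2 hb2 (f4 b2 (by simp)), pr_fix P h _ w3 b2 hb2 (f3 b2 (by simp))]
    · rw [Perm.mul_apply, Perm.mul_apply, Perm.mul_apply,
        pr_fix P h _ w4 b3 hb3 (f4 b3 (by simp))]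
  obtain ⟨k1, k2, k3⟩ := key c1 c2 c3 c4 hc1 hc2 hc3 hc4
  obtain ⟨j1, j2, j3⟩ := key a1 a2 a3 a4 ha1 ha2 ha3 ha4
  rw [huf, hvf] at e1 e2 e3 e4
  rw [k1, j1] at e1
  have hc1a : c1 = a1 := by
    apply lvl_inj P L1 b1 [] hl1 c1 hc1 a1 ha1
    have e := congrArg Fin.val e1
    rw [pr_val P h _ (lvl_spec P L1 b1 [] hl1 c1 hc1).1,
      pr_val P h _ (lvl_spec P L1 b1 [] hl1 a1 ha1).1,
      (lvl_spec P L1 b1 [] hl1 c1 hc1).2.1, (lvl_spec P L1 b1 [] hl1 a1 ha1).2.1] at e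
    exact e
  subst hc1a
  rw [k2, j2] at e2
  have hc2a : c2 = a2 := by
    apply lvl_inj P L2 b2 [b1] hl2 c2 hc2 a2 ha2
    have e := congrArg Fin.val ((pr P h (L1.w c1)).injective e2)
    rw [pr_val P h _ (lvl_spec P L2 b2 [b1] hl2 c2 hc2).1,
      pr_val P h _ (lvl_spec P L2 b2 [b1] hl2 a2 ha2).1,
      (lvl_spec P L2 b2 [b1] hl2 c2 hc2).2.1, (lvl_spec P L2 b2 [b1] hl2 a2 ha2).2.1] at e
    exact e
  subst hc2a
  rw [k3, j3] at e3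
  have hc3a : c3 = a3 := by
    apply lvl_inj P L3 b3 [b1, b2] hl3 c3 hc3 a3 ha3
    have e := congrArg Fin.val
      ((pr P h (L2.w c2)).injective ((pr P h (L1.w c1)).injective e3))
    rw [pr_val P h _ (lvl_spec P L3 b3 [b1, b2] hl3 c3 hc3).1,
      pr_val P h _ (lvl_spec P L3 b3 [b1, b2] hl3 a3 ha3).1,
      (lvl_spec P L3 b3 [b1, b2] hl3 c3 hc3).2.1,
      (lvl_spec P L3 b3 [b1, b2] hl3 a3 ha3).2.1] at e
    exact e
  subst hc3a
  have hc4a : c4 = a4 := by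
    apply lvl_inj P L4 b4 [b1, b2, b3] hl4 c4 hc4 a4 ha4
    have e4' : pr P h (L4.w c4) ⟨b4, hb4⟩ = pr P h (L4.w a4) ⟨b4, hb4⟩ := by
      have e := e4
      simp only [Perm.mul_apply] at e
      exact (pr P h (L3.w c3)).injective
        ((pr P h (L2.w c2)).injective ((pr P h (L1.w c1)).injective e))
    have e := congrArg Fin.val e4'
    rw [pr_val P h _ (lvl_spec P L4 b4 [b1, b2, b3] hl4 c4 hc4).1,
      pr_val P h _ (lvl_spec P L4 b4 [b1, b2, b3] hl4 a4 ha4).1,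
      (lvl_spec P L4 b4 [b1, b2, b3] hl4 c4 hc4).2.1,
      (lvl_spec P L4 b4 [b1, b2, b3] hl4 a4 ha4).2.1] at e
    exact e
  subst hc4a
  rw [huf, hvf]


end Cfsg.Agent.Lib.Helper19.Sift
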