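import Cfsg.Agent.Lib.Helper19.HeOutC1
import Cfsg.Agent.Lib.Helper19.HeOutC2
import Cfsg.Agent.Lib.Helper19.HeOutC3
import Cfsg.Agent.Lib.Helper19.HeOutC4
import Cfsg.Agent.Lib.Helper19.HeOutC5
import Cfsg.Agent.Lib.Helper19.HeIso
import Cfsg.Agent.Lib.Helper19.SiftB

/-!
# The outer automorphism group of the Held group: transfer between the presented group and the
permutation group on 2058 points
-/

set_option autoImplicit false

namespace Cfsg.Agent.Lib.Helper19.HeOut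

open Equiv
open Cfsg.Spor
open Cfsg.Agent.Lib.Helper56.TC (ew ew_cons ew_nil ew_append)
open Cfsg.Agent.Lib.Helper19.Cox (L mem_L)
open Cfsg.Agent.Lib.Helper19.HePres (R gP φ φ_ew φ_gP range_φ)
open Cfsg.Agent.Lib.Helper19.HeIso (φ_injective)
open Cfsg.Agent.Lib.Helper19.HeG (s)
open Cfsg.Agent.Lib.Helper19.FPI (PDataI)
open Cfsg.Agent.Lib.Helper19.FP (tg16)
open Cfsg.Agent.Lib.Helper19.RC (allBelow allBelow_iff)
open Cfsg.Agent.Lib.Helper19.Sift

/-- the presented Held group -/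
abbrev HeP : Type := PresentedGroup R

/-- the permutation group on 2058 points -/
abbrev G : Subgroup (Perm (Fin Q.d)) := L s 7

/-- the permutation of the letter `i` -/
abbrev q (i : ℕ) : Perm (Fin Q.d) := Q.perm Q_ok i

theorem q_s (i : ℕ) (hi : i < 7) : q i = s i := by
  apply Equiv.ext
  intro v
  apply Fin.ext
  show Q.act i v.val = HeG.P.act i v.val
  interval_cases i <;> rfl

theorem pr_ag (w : List ℕ) (hw : ∀ a ∈ w, a < 7) : pr Q Q_ok w = (w.map s).prod := by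
  unfold pr
  congr 1
  apply List.map_congr_left
  intro a ha
  exact q_s a (hw a ha)

theorem triv_spec (w : List ℕ) (h : trivOK w = true) : pr Q Q_ok w = 1 := by
  simp only [trivOK, Bool.and_eq_true, allBelow_iff, Nat.beq_eq] at h
  exact Q.rel_of_app Q_ok w h.1 h.2

theorem ag_lt : (∀ a ∈ ag 7, a < 7) ∧ (∀ a ∈ ag 9, a < 7) ∧ (∀ a ∈ ag 11, a < 7) := by
  have h := agLt
  simp only [Bool.and_eq_true, List.all_eq_true, Nat.blt_eq] at h
  exact ⟨h.1.1, h.1.2, h.2⟩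

/-- the elements of the presented group for the letters -/
noncomputable def E : ℕ → HeP
  | 7 => ew gP (ag 7)
  | 8 => (ew gP (ag 7))⁻¹
  | 9 => ew gP (ag 9)
  | 10 => (ew gP (ag 9))⁻¹
  | 11 => ew gP (ag 11)
  | i => gP i

theorem inv8 : Q.perm Q_ok 8 = (Q.perm Q_ok 7)⁻¹ := Q.perm_inv Q_ok 7

theorem inv10 : Q.perm Q_ok 10 = (Q.perm Q_ok 9)⁻¹ := Q.perm_inv Q_ok 9

theorem inv11 : Q.perm Q_ok 11 = (Q.perm Q_ok 11)⁻¹ := Q.perm_inv Q_ok 11

theorem φ_E7 : φ (E 7) = q 7 := by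
  show φ (ew gP (ag 7)) = q 7
  rw [φ_ew _ ag_lt.1, ← pr_ag _ ag_lt.1]
  have h := triv_spec _ agOK7
  rw [pr_cons, inv8] at h
  exact (inv_mul_eq_one.mp h).symm

theorem φ_E9 : φ (E 9) = q 9 := by
  show φ (ew gP (ag 9)) = q 9
  rw [φ_ew _ ag_lt.2.1, ← pr_ag _ ag_lt.2.1]
  have h := triv_spec _ agOK9
  rw [pr_cons, inv10] at h
  exact (inv_mul_eq_one.mp h).symm

theorem φ_E11 : φ (E 11) = q 11 := by
  show φ (ew gP (ag 11)) = q 11
  rw [φ_ew _ ag_lt.2.2, ← pr_ag _ ag_lt.2.2]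
  have h := triv_spec _ agOK11
  rw [pr_cons, inv11] at h
  exact (inv_mul_eq_one.mp h).symm

theorem φ_E (i : ℕ) (hi : i < 12) : φ (E i) = q i := by
  interval_cases i
  · exact (φ_gP 0 (by norm_num)).trans (q_s 0 (by norm_num)).symm
  · exact (φ_gP 1 (by norm_num)).trans (q_s 1 (by norm_num)).symm
  · exact (φ_gP 2 (by norm_num)).trans (q_s 2 (by norm_num)).symm
  · exact (φ_gP 3 (by norm_num)).trans (q_s 3 (by norm_num)).symm
  · exact (φ_gP 4 (by norm_num)).trans (q_s 4 (by norm_num)).symm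
  · exact (φ_gP 5 (by norm_num)).trans (q_s 5 (by norm_num)).symm
  · exact (φ_gP 6 (by norm_num)).trans (q_s 6 (by norm_num)).symm
  · exact φ_E7
  · show φ ((ew gP (ag 7))⁻¹) = q 8
    rw [map_inv]
    exact (congrArg (·⁻¹) φ_E7).trans inv8.symm
  · exact φ_E9
  · show φ ((ew gP (ag 9))⁻¹) = q 10
    rw [map_inv]
    exact (congrArg (·⁻¹) φ_E9).trans inv10.symm
  · exact φ_E11

theorem φ_word (w : List ℕ) (hw : Q.wok w = true) : φ (ew E w) = pr Q Q_ok w := by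
  induction w with
  | nil => rw [ew_nil, map_one]; rfl
  | cons a t ih =>
    rw [PDataI.wok_iff] at hw
    have hwt : Q.wok t = true := (Q.wok_iff t).mpr fun i hi => hw i (List.mem_cons_of_mem _ hi)
    rw [ew_cons, map_mul, ih hwt, pr_cons, φ_E a (hw a List.mem_cons_self)]
    rfl

theorem mem_G (g : HeP) : φ g ∈ G := by
  have h : φ g ∈ φ.range := ⟨g, rfl⟩
  rw [range_φ] at h
  exact h

theorem q_mem : ∀ i < Q.n, Q.perm Q_ok i ∈ G := by
  intro i hi
  have h : Q.perm Q_ok i = φ (E i) := (φ_E i hi).symm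
  rw [h]
  exact mem_G _

theorem pr_mem (w : List ℕ) (hw : Q.wok w = true) : pr Q Q_ok w ∈ G := by
  rw [← φ_word w hw]
  exact mem_G _

theorem card_G' : Nat.card G = 4030387200 := Cfsg.Agent.Lib.Helper19.HeIso.card_G

theorem mA : L1.m = 2058 ∧ L2.m = 1360 ∧ L3A.m = 360 ∧ L4A.m = 4 ∧ L3B.m = 90 ∧ L4B.m = 16 :=
  ⟨rfl, rfl, rfl, rfl, rfl, rfl⟩

/-- factorisation along the first chain -/
theorem factA : ∀ g ∈ G, ∃ c1 < L1.m, ∃ c2 < L2.m, ∃ c3 < L3A.m, ∃ c4 < L4A.m,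
    g = pr Q Q_ok (L1.w c1) * pr Q Q_ok (L2.w c2) * pr Q Q_ok (L3A.w c3) *
      pr Q Q_ok (L4A.w c4) :=
  fact_of_lvl Q Q_ok G q_mem L1 L2 L3A L4A 1462 1071 494 813 (by decide) (by decide) (by decide)
    (by decide) l1 l2 l3A l4A (by rw [card_G', mA.1, mA.2.1, mA.2.2.1, mA.2.2.2.1])

/-- factorisation along the second chain -/
theorem factB : ∀ g ∈ G, ∃ c1 < L1.m, ∃ c2 < L2.m, ∃ c3 < L3B.m, ∃ c4 < L4B.m,
    g = pr Q Q_ok (L1.w c1) * pr Q Q_ok (L2.w c2) * pr Q Q_ok (L3B.w c3) *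
      pr Q Q_ok (L4B.w c4) :=
  fact_of_lvl Q Q_ok G q_mem L1 L2 L3B L4B 1462 1071 890 1710 (by decide) (by decide) (by decide)
    (by decide) l1 l2 l3B l4B
    (by rw [card_G', mA.1, mA.2.1, mA.2.2.2.2.1, mA.2.2.2.2.2])

/-- a word in the letters acts trivially: the corresponding element is trivial -/
theorem E_one (w : List ℕ) (hw : Q.wok w = true) (h : pr Q Q_ok w = 1) : ew E w = 1 := by
  apply φ_injective
  rw [φ_word w hw, h, map_one]
  rfl

theorem E8 : E 8 = (E 7)⁻¹ := rfl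

theorem E10 : E 10 = (E 9)⁻¹ := rfl

theorem rels_spec : ∀ w ∈ ([[9, 7, 10, 8, 8], [11, 9, 11, 10, 10, 10], [11, 11]] : List (List ℕ)),
    ew E w = 1 := by
  intro w hw
  have h1 := Q.rel_eq_one Q_ok _ relsOK w hw
  have h2 : Q.wok w = true := by
    have h := relsOK
    simp only [PDataI.relOK, List.all_eq_true, Bool.and_eq_true] at h
    exact (h w hw).1
  exact E_one w h2 h1

/-- `n x n⁻¹ = x²` -/
theorem hn : E 9 * E 7 * (E 9)⁻¹ = E 7 ^ 2 := by
  have h := rels_spec [9, 7, 10, 8, 8] (by simp)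
  simp only [ew_cons, ew_nil, E8, E10, mul_one] at h
  calc E 9 * E 7 * (E 9)⁻¹
      = (E 9 * (E 7 * ((E 9)⁻¹ * ((E 7)⁻¹ * (E 7)⁻¹)))) * E 7 ^ 2 := by group
    _ = E 7 ^ 2 := by rw [h, one_mul]

theorem r_sq : E 11 * E 11 = 1 := by
  have h := rels_spec [11, 11] (by simp)
  simpa only [ew_cons, ew_nil, mul_one] using h

/-- `r n = n³ r` -/
theorem hr : E 11 * E 9 = E 9 ^ 3 * E 11 := by
  have h := rels_spec [11, 9, 11, 10, 10, 10] (by simp)
  simp only [ew_cons, ew_nil, E10, mul_one] at h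
  have hr' : (E 11)⁻¹ = E 11 := inv_eq_of_mul_eq_one_left r_sq
  calc E 11 * E 9
      = (E 11 * (E 9 * (E 11 * ((E 9)⁻¹ * ((E 9)⁻¹ * (E 9)⁻¹))))) * (E 9 ^ 3 * (E 11)⁻¹) := by
        group
    _ = E 9 ^ 3 * E 11 := by rw [h, one_mul, hr']

theorem x_pow : E 7 ^ 17 = 1 := by
  apply φ_injective
  rw [map_pow, φ_E7, map_one]
  have h := Q.pow_eq_one Q_ok [7] 17 powX
  have h' : Q.perm Q_ok 7 ^ 17 = 1 := by simpa using h
  exact h'

theorem x_ne : E 7 ≠ 1 := by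
  intro h
  have h1 : q 7 = 1 := by rw [← φ_E7, h, map_one]; rfl
  have h2 : (q 7 ⟨1071, by decide⟩).val = 1071 := by rw [h1]; rfl
  have h3 : (q 7 ⟨1071, by decide⟩).val = Q.app [7] 1071 := rfl
  rw [h3] at h2
  have h4 := xmove
  rw [h2] at h4
  simp at h4

theorem x_order : orderOf (E 7) = 17 := by
  have : Fact (Nat.Prime 17) := ⟨by norm_num⟩
  exact orderOf_eq_prime x_pow x_ne

/-- `(x r)^17 = 1` -/
theorem xr_pow : (E 7 * E 11) ^ 17 = 1 := by
  apply φ_injective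
  rw [map_pow, map_mul, φ_E7, φ_E11, map_one]
  have h := Q.pow_eq_one Q_ok [7, 11] 17 powXR
  have h' : (Q.perm Q_ok 7 * Q.perm Q_ok 11) ^ 17 = 1 := by simpa using h
  exact h'

/-- the homomorphism to the permutations of the 2058 points -/
noncomputable def φq : HeP →* Perm (Fin Q.d) := φ

theorem φq_inj : Function.Injective φq := φ_injective

theorem φq_E (i : ℕ) (hi : i < 12) : φq (E i) = Q.perm Q_ok i := φ_E i hi

theorem φq_word (w : List ℕ) (hw : Q.wok w = true) : φq (ew E w) = pr Q Q_ok w := φ_word w hw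

theorem φq_mem (g : HeP) : φq g ∈ G := mem_G g

theorem φq_surj (p : Perm (Fin Q.d)) (hp : p ∈ G) : ∃ g : HeP, φq g = p := by
  have h : p ∈ φ.range := by rw [range_φ]; exact hp
  exact h

end Cfsg.Agent.Lib.Helper19.HeOut
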