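import Cfsg.Agent.Lib.Helper19.HeOutD

/-!
# Kernel checks for the outer automorphism group of the Held group (part 6)
-/

set_option autoImplicit false

namespace Cfsg.Agent.Lib.Helper19.HeOut

open Cfsg.Agent.Lib.Helper19
open Cfsg.Agent.Lib.Helper19.FP (tg16)
open Cfsg.Agent.Lib.Helper19.FPI (PDataI)
open Cfsg.Agent.Lib.Helper19.RC (allBelow)
open Cfsg.Agent.Lib.Helper19.Sift (Lvl tw lvlOK siftOK wordOf)

theorem accWokA : allBelow (fun k => Q.wok (wordOf L1 L2 L3A L4A (accA1.getD k (0, 0, 0, 0)))) 17 =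
    true := by decide +kernel

theorem accWokB : allBelow (fun k => Q.wok (wordOf L1 L2 L3B L4B (accB.getD k (0, 0, 0, 0)))) 16 =
    true := by decide +kernel

end Cfsg.Agent.Lib.Helper19.HeOut
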