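import Cfsg.Agent.Lib.Helper19.HeOutA
import Cfsg.Agent.Lib.Helper19.HeOutC6
import Cfsg.Agent.Lib.Helper19.OutCrit

/-!
# The outer automorphism group of the Held group has order 2

In the presented Held group, `x = E 7` has order 17, `n = E 9` satisfies `n x n⁻¹ = x²` and
`r = E 11` satisfies `r n = n³ r`; these three elements generate.  The solutions of
`m x = x² m` are the 17 conjugates of `n` under powers of `x`; the solutions of `g n = n³ g` are 16
explicit elements, of which only `r` satisfies `(x g)^17 = 1`; no `g` satisfies `g x = x³ g`; and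
conjugation by a permutation `τ` of the 2058 points induces an automorphism sending `x` to `x³`
and fixing `n`.
-/

set_option autoImplicit false

namespace Cfsg.Agent.Lib.Helper19.HeOut

open Equiv
open Cfsg.Spor
open Cfsg.Agent.Lib.Helper56.TC (ew ew_cons ew_nil ew_append)
open Cfsg.Agent.Lib.Helper19.Cox (L mem_L)
open Cfsg.Agent.Lib.Helper19.HePres (R gP)
open Cfsg.Agent.Lib.Helper19.FPI (PDataI)
open Cfsg.Agent.Lib.Helper19.FP (tg16)
open Cfsg.Agent.Lib.Helper19.RC (allBelow allBelow_iff)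
open Cfsg.Agent.Lib.Helper19.Sift

instance : Finite HeP := Cfsg.Agent.Lib.Helper19.HePres.card_le.1

theorem okL_wok (w : List ℕ) (h : w.all okL = true) : Q.wok w = true := by
  rw [PDataI.wok_iff]
  intro i hi
  have h1 := (List.all_eq_true.mp h) i hi
  simp only [okL, Bool.and_eq_true, Nat.ble_eq] at h1
  show i < 12
  omega

theorem letters_spec : (∀ c < 2058, (L1.w c).all okL = true) ∧
    (∀ c < 1360, (L2.w c).all okL = true) ∧ (∀ c < 360, (L3A.w c).all okL = true) ∧
    (∀ c < 4, (L4A.w c).all okL = true) := by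
  have h := lettersOK
  simp only [Bool.and_eq_true, allBelow_iff] at h
  exact ⟨h.1.1.1, h.1.1.2, h.1.2, h.2⟩

/-- every element of the presented group is a word in `x, x⁻¹, n, n⁻¹, r` -/
theorem gen_word (g : HeP) : ∃ w : List ℕ, w.all okL = true ∧ g = ew E w := by
  obtain ⟨c1, h1, c2, h2, c3, h3, c4, h4, hg⟩ := factA (φq g) (φq_mem g)
  rw [mA.1] at h1
  rw [mA.2.1] at h2
  rw [mA.2.2.1] at h3
  rw [mA.2.2.2.1] at h4
  obtain ⟨a1, a2, a3, a4⟩ := letters_spec
  have hall : (L1.w c1 ++ (L2.w c2 ++ (L3A.w c3 ++ L4A.w c4))).all okL = true := by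
    simp only [List.all_append, Bool.and_eq_true]
    exact ⟨a1 c1 h1, a2 c2 h2, a3 c3 h3, a4 c4 h4⟩
  refine ⟨_, hall, ?_⟩
  apply φq_inj
  rw [φq_word _ (okL_wok _ hall), hg, pr_append, pr_append, pr_append]
  simp only [mul_assoc]

theorem fix_word (β : MulAut HeP) (h7 : β (E 7) = E 7) (h9 : β (E 9) = E 9)
    (h11 : β (E 11) = E 11) (w : List ℕ) (hw : w.all okL = true) : β (ew E w) = ew E w := by
  induction w with
  | nil => rw [ew_nil, map_one]
  | cons a t ih =>
    rw [List.all_cons, Bool.and_eq_true] at hw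
    rw [ew_cons, map_mul, ih hw.2]
    have ha := hw.1
    simp only [okL, Bool.and_eq_true, Nat.ble_eq] at ha
    obtain ⟨ha1, ha2⟩ := ha
    have hcases : a = 7 ∨ a = 8 ∨ a = 9 ∨ a = 10 ∨ a = 11 := by omega
    have hEa : β (E a) = E a := by
      rcases hcases with rfl | rfl | rfl | rfl | rfl
      · exact h7
      · rw [E8, map_inv, h7]
      · exact h9
      · rw [E10, map_inv, h9]
      · exact h11
    rw [hEa]

theorem semi_pow {M : Type*} [Monoid M] {g a b : M} (h : g * a = b * g) (k : ℕ) :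
    g * a ^ k = b ^ k * g :=
  SemiconjBy.pow_right (show SemiconjBy g a b from h) k

theorem ew_replicate {M : Type*} [Monoid M] (g : ℕ → M) (k i : ℕ) :
    ew g (List.replicate k i) = g i ^ k := by
  unfold ew
  rw [List.map_replicate, List.prod_replicate]

theorem baseA_spec : Q.app [7] 1462 = 1462 ∧ Q.app [7] 1071 = 494 ∧ Q.app [7, 7] 1071 = 813 := by
  have h := baseA
  simp only [Bool.and_eq_true, Nat.beq_eq] at h
  exact ⟨h.1.1, h.1.2, h.2⟩

theorem baseB_spec : Q.app [9] 1462 = 1462 ∧ Q.app [9] 1071 = 890 ∧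
    Q.app [9, 9, 9] 1071 = 1710 := by
  have h := baseB
  simp only [Bool.and_eq_true, Nat.beq_eq] at h
  exact ⟨h.1.1, h.1.2, h.2⟩

theorem wokA (k : ℕ) (hk : k < 17) :
    Q.wok (wordOf L1 L2 L3A L4A (accA1.getD k (0, 0, 0, 0))) = true := by
  have h := accWokA
  rw [allBelow_iff] at h
  exact h k hk

theorem wokB (k : ℕ) (hk : k < 16) :
    Q.wok (wordOf L1 L2 L3B L4B (accB.getD k (0, 0, 0, 0))) = true := by
  have h := accWokB
  rw [allBelow_iff] at h
  exact h k hk

/-- two words with the same images of the base points of the first chain are equal -/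
theorem baseA_eq (u v : List ℕ) (hu : Q.wok u = true) (hv : Q.wok v = true)
    (h : ∀ b ∈ ([1462, 1071, 494, 813] : List ℕ), Q.app u b = Q.app v b) :
    pr Q Q_ok u = pr Q Q_ok v := by
  apply base_eq Q Q_ok G L1 L2 L3A L4A 1462 1071 494 813 (by decide) (by decide) (by decide)
    (by decide) l1 l2 l3A l4A factA _ _ (pr_mem u hu) (pr_mem v hv)
  · apply Fin.ext; rw [pr_val Q Q_ok u hu, pr_val Q Q_ok v hv]; exact h 1462 (by simp)
  · apply Fin.ext; rw [pr_val Q Q_ok u hu, pr_val Q Q_ok v hv]; exact h 1071 (by simp)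
  · apply Fin.ext; rw [pr_val Q Q_ok u hu, pr_val Q Q_ok v hv]; exact h 494 (by simp)
  · apply Fin.ext; rw [pr_val Q Q_ok u hu, pr_val Q Q_ok v hv]; exact h 813 (by simp)

/-- two words with the same images of the base points of the second chain are equal -/
theorem baseB_eq (u v : List ℕ) (hu : Q.wok u = true) (hv : Q.wok v = true)
    (h : ∀ b ∈ ([1462, 1071, 890, 1710] : List ℕ), Q.app u b = Q.app v b) :
    pr Q Q_ok u = pr Q Q_ok v := by
  apply base_eq Q Q_ok G L1 L2 L3B L4B 1462 1071 890 1710 (by decide) (by decide) (by decide)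
    (by decide) l1 l2 l3B l4B factB _ _ (pr_mem u hu) (pr_mem v hv)
  · apply Fin.ext; rw [pr_val Q Q_ok u hu, pr_val Q Q_ok v hv]; exact h 1462 (by simp)
  · apply Fin.ext; rw [pr_val Q Q_ok u hu, pr_val Q Q_ok v hv]; exact h 1071 (by simp)
  · apply Fin.ext; rw [pr_val Q Q_ok u hu, pr_val Q Q_ok v hv]; exact h 890 (by simp)
  · apply Fin.ext; rw [pr_val Q Q_ok u hu, pr_val Q Q_ok v hv]; exact h 1710 (by simp)

theorem wok_conj (k : ℕ) : Q.wok (List.replicate k 7 ++ (9 :: List.replicate k 8)) = true := by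
  rw [PDataI.wok_iff]
  intro i hi
  simp only [List.mem_append, List.mem_replicate, List.mem_cons] at hi
  show i < 12
  rcases hi with ⟨-, rfl⟩ | rfl | ⟨-, rfl⟩ <;> norm_num

/-- the solutions of `m x m⁻¹ = x²` are the conjugates of `n` under the powers of `x` -/
theorem hnorm (m : HeP) (hm : m * E 7 * m⁻¹ = E 7 ^ 2) :
    ∃ i : ℕ, m = E 7 ^ i * E 9 * (E 7 ^ i)⁻¹ := by
  have hm' : m * E 7 = E 7 ^ 2 * m := by rw [← hm]; group
  have hg : φq m * Q.perm Q_ok 7 = Q.perm Q_ok 7 ^ 2 * φq m := by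
    have h := congrArg φq hm'
    rwa [map_mul, map_mul, map_pow, φq_E 7 (by norm_num)] at h
  have hY : φq m * pr Q Q_ok [7] = pr Q Q_ok [7, 7] * φq m := by
    rw [show pr Q Q_ok [7] = Q.perm Q_ok 7 ^ 1 from pr_replicate Q Q_ok 1 7,
      show pr Q Q_ok [7, 7] = Q.perm Q_ok 7 ^ 2 from pr_replicate Q Q_ok 2 7, pow_one]
    exact hg
  have h4 : φq m * pr Q Q_ok [7, 7] = pr Q Q_ok [7, 7, 7, 7] * φq m := by
    rw [show pr Q Q_ok [7, 7] = Q.perm Q_ok 7 ^ 2 from pr_replicate Q Q_ok 2 7,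
      show pr Q Q_ok [7, 7, 7, 7] = Q.perm Q_ok 7 ^ 4 from pr_replicate Q Q_ok 4 7]
    have h := semi_pow hg 2
    rwa [← pow_mul] at h
  obtain ⟨k, hk, hgk⟩ := sift_sound Q Q_ok G L1 L2 L3A L4A 1462 1071 494 813 (by decide)
    (by decide) (by decide) (by decide) l1 l2 l3A l4A factA [7] [7, 7] [7] [7, 7] [7, 7]
    [7, 7, 7, 7] (by decide) (by decide) (by decide) (by decide) (by decide) (by decide)
    baseA_spec.1 baseA_spec.2.1 baseA_spec.2.2 accA1 (fun _ c2 => tg16 tWA1 c2) sA1 (φq m)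
    (φq_mem m) hY hY h4
  have hk17 : k < 17 := hk
  refine ⟨k, ?_⟩
  have hn := normOK
  simp only [allBelow_iff, List.all_eq_true, Nat.beq_eq] at hn
  have e := baseA_eq _ _ (wokA k hk17) (wok_conj k) (hn k hk17)
  apply φq_inj
  rw [hgk, e, ← φq_word _ (wok_conj k), ew_append, ew_cons, ew_replicate, ew_replicate, E8,
    inv_pow, mul_assoc]

theorem wok11 : Q.wok [11] = true := by decide

/-- an automorphism fixing `x` and `n` is trivial -/
theorem hrig (β : MulAut HeP) (h7 : β (E 7) = E 7) (h9 : β (E 9) = E 9) : β = 1 := by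
  have hρ : β (E 11) * E 9 = E 9 ^ 3 * β (E 11) := by
    have h := congrArg β hr
    rwa [map_mul, map_mul, map_pow, h9] at h
  have hg : φq (β (E 11)) * Q.perm Q_ok 9 = Q.perm Q_ok 9 ^ 3 * φq (β (E 11)) := by
    have h := congrArg φq hρ
    rwa [map_mul, map_mul, map_pow, φq_E 9 (by norm_num)] at h
  have hY : φq (β (E 11)) * pr Q Q_ok [9] = pr Q Q_ok [9, 9, 9] * φq (β (E 11)) := by
    rw [show pr Q Q_ok [9] = Q.perm Q_ok 9 ^ 1 from pr_replicate Q Q_ok 1 9,
      show pr Q Q_ok [9, 9, 9] = Q.perm Q_ok 9 ^ 3 from pr_replicate Q Q_ok 3 9, pow_one]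
    exact hg
  have h4 : φq (β (E 11)) * pr Q Q_ok [9, 9, 9] =
      pr Q Q_ok [9, 9, 9, 9, 9, 9, 9, 9, 9] * φq (β (E 11)) := by
    rw [show pr Q Q_ok [9, 9, 9] = Q.perm Q_ok 9 ^ 3 from pr_replicate Q Q_ok 3 9,
      show pr Q Q_ok [9, 9, 9, 9, 9, 9, 9, 9, 9] = Q.perm Q_ok 9 ^ 9 from
        pr_replicate Q Q_ok 9 9]
    have h := semi_pow hg 3
    rwa [← pow_mul] at h
  obtain ⟨k, hk, hgk⟩ := sift_sound Q Q_ok G L1 L2 L3B L4B 1462 1071 890 1710 (by decide)
    (by decide) (by decide) (by decide) l1 l2 l3B l4B factB [9] [9, 9, 9] [9] [9, 9, 9] [9, 9, 9]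
    [9, 9, 9, 9, 9, 9, 9, 9, 9] (by decide) (by decide) (by decide) (by decide) (by decide)
    (by decide) baseB_spec.1 baseB_spec.2.1 baseB_spec.2.2 accB
    (fun c1 c2 => tg16 tWB (Nat.add (Nat.mul c1 1360) c2)) sB (φq (β (E 11)))
    (φq_mem _) hY hY h4
  have hk16 : k < 16 := hk
  have hρr : β (E 11) = E 11 := by
    by_cases hk0 : k = 0
    · subst hk0
      have hb := rB0
      simp only [List.all_eq_true, Nat.beq_eq] at hb
      have e := baseB_eq _ _ (wokB 0 hk16) wok11 hb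
      apply φq_inj
      rw [hgk, e, pr_cons, pr_nil, mul_one, φq_E 11 (by norm_num)]
    · exfalso
      have hb := badOK
      simp only [allBelow_iff, Bool.or_eq_true, Nat.beq_eq, Bool.and_eq_true, Nat.blt_eq,
        Bool.not_eq_true'] at hb
      rcases hb k hk16 with h0 | ⟨hv, hne⟩
      · exact hk0 h0
      · have h17 : (E 7 * β (E 11)) ^ 17 = 1 := by
          have h := congrArg β xr_pow
          rwa [map_pow, map_mul, h7, map_one] at h
        have hwok : Q.wok (7 :: wordOf L1 L2 L3B L4B (accB.getD k (0, 0, 0, 0))) = true :=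
          wok_append Q [7] _ (by decide) (wokB k hk16)
        have h17' : pr Q Q_ok (7 :: wordOf L1 L2 L3B L4B (accB.getD k (0, 0, 0, 0))) ^ 17 =
            1 := by
          rw [pr_cons, ← hgk, ← φq_E 7 (by norm_num), ← map_mul, ← map_pow, h17, map_one]
        have hval : ((pr Q Q_ok (7 :: wordOf L1 L2 L3B L4B (accB.getD k (0, 0, 0, 0))) ^ 17)
            ⟨tg16 tWR k, hv⟩).val = tg16 tWR k := by
          rw [h17']
          rfl
        rw [pr_pow_val Q Q_ok _ hwok 17] at hval
        exact Nat.ne_of_beq_eq_false hne hval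
  apply MulEquiv.ext
  intro g
  obtain ⟨w, hw, rfl⟩ := gen_word g
  rw [fix_word β h7 h9 hρr w hw]
  rfl

/-- the permutation `τ` of the 2058 points -/
def T : Perm (Fin Q.d) := Qt.perm Qt_ok 0

theorem T_val (v : Fin Q.d) : (T v).val = tg16 tT v.val := by
  show Qt.act 0 v.val = tg16 tT v.val
  unfold PDataI.act
  rw [if_pos (by decide : 0 < Qt.n), if_pos (show v.val < Qt.d from v.2)]
  rfl

theorem perm_val_app (i : ℕ) (hi : i < 12) (v : Fin Q.d) :
    (Q.perm Q_ok i v).val = Q.app [i] v.val := by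
  have e : pr Q Q_ok [i] = Q.perm Q_ok i := by rw [pr_cons, pr_nil, mul_one]
  have hw : Q.wok [i] = true := by
    rw [PDataI.wok_iff]
    intro j hj
    rw [List.mem_singleton] at hj
    rw [hj]
    exact hi
  rw [← e, pr_val Q Q_ok _ hw]

theorem T_X : T * Q.perm Q_ok 7 = Q.perm Q_ok 7 ^ 3 * T := by
  apply Equiv.ext
  intro v
  apply Fin.ext
  have h := tauX
  simp only [allBelow_iff, Nat.beq_eq] at h
  have hv := h v.val v.2
  rw [Perm.mul_apply, Perm.mul_apply, T_val, perm_val_app 7 (by norm_num),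
    ← pr_replicate Q Q_ok 3 7, pr_val Q Q_ok _ (by decide), T_val]
  exact hv

theorem T_N : T * Q.perm Q_ok 9 = Q.perm Q_ok 9 * T := by
  apply Equiv.ext
  intro v
  apply Fin.ext
  have h := tauN
  simp only [allBelow_iff, Nat.beq_eq] at h
  have hv := h v.val v.2
  rw [Perm.mul_apply, Perm.mul_apply, T_val, perm_val_app 9 (by norm_num),
    perm_val_app 9 (by norm_num), T_val]
  exact hv

theorem T_R : T * Q.perm Q_ok 11 =
    pr Q Q_ok (wordOf L1 L2 L3B L4B (accB.getD 12 (0, 0, 0, 0))) * T := by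
  apply Equiv.ext
  intro v
  apply Fin.ext
  have h := tauR
  simp only [allBelow_iff, Nat.beq_eq] at h
  have hv := h v.val v.2
  rw [Perm.mul_apply, Perm.mul_apply, T_val, perm_val_app 11 (by norm_num),
    pr_val Q Q_ok _ (wokB 12 (by norm_num)), T_val]
  exact hv

theorem conj_inv {M : Type*} [Group M] {t a b : M} (h : t * a = b * t) :
    t * a⁻¹ * t⁻¹ = b⁻¹ := by
  have h1 : t * a * t⁻¹ = b := by rw [h, mul_inv_cancel_right]
  rw [← h1]
  group

theorem conj_mem (w : List ℕ) (hw : w.all okL = true) : T * pr Q Q_ok w * T⁻¹ ∈ G := by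
  induction w with
  | nil =>
    rw [pr_nil, mul_one, mul_inv_cancel]
    exact one_mem _
  | cons a t ih =>
    rw [List.all_cons, Bool.and_eq_true] at hw
    have e : T * pr Q Q_ok (a :: t) * T⁻¹ =
        (T * Q.perm Q_ok a * T⁻¹) * (T * pr Q Q_ok t * T⁻¹) := by
      rw [pr_cons]
      group
    rw [e]
    refine mul_mem ?_ (ih hw.2)
    have ha := hw.1
    simp only [okL, Bool.and_eq_true, Nat.ble_eq] at ha
    obtain ⟨ha1, ha2⟩ := ha
    interval_cases a
    · rw [T_X, mul_inv_cancel_right]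
      exact pow_mem (q_mem 7 (by decide)) 3
    · rw [inv8, conj_inv T_X]
      exact inv_mem (pow_mem (q_mem 7 (by decide)) 3)
    · rw [T_N, mul_inv_cancel_right]
      exact q_mem 9 (by decide)
    · rw [inv10, conj_inv T_N]
      exact inv_mem (q_mem 9 (by decide))
    · rw [T_R, mul_inv_cancel_right]
      exact pr_mem _ (wokB 12 (by norm_num))

theorem conj_range (g : HeP) : ∃ h : HeP, φq h = T * φq g * T⁻¹ := by
  obtain ⟨w, hw, rfl⟩ := gen_word g
  rw [φq_word w (okL_wok w hw)]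
  exact φq_surj _ (conj_mem w hw)

/-- the outer automorphism, as a function -/
noncomputable def σf (g : HeP) : HeP := Classical.choose (conj_range g)

theorem σf_spec (g : HeP) : φq (σf g) = T * φq g * T⁻¹ := Classical.choose_spec (conj_range g)

/-- the outer automorphism, as a homomorphism -/
noncomputable def σh : HeP →* HeP where
  toFun := σf
  map_one' := by
    apply φq_inj
    rw [σf_spec, map_one, mul_one, mul_inv_cancel]
  map_mul' a b := by
    apply φq_inj
    rw [σf_spec, map_mul, map_mul, σf_spec, σf_spec]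
    group

theorem σh_inj : Function.Injective σh := by
  intro a b hab
  apply φq_inj
  have h : φq (σf a) = φq (σf b) := congrArg φq hab
  rw [σf_spec, σf_spec] at h
  exact mul_left_cancel (mul_right_cancel h)

/-- the outer automorphism -/
noncomputable def σ : MulAut HeP :=
  MulEquiv.ofBijective σh (Finite.injective_iff_bijective.mp σh_inj)

theorem σ_x : σ (E 7) = E 7 ^ 3 := by
  apply φq_inj
  show φq (σf (E 7)) = _
  rw [σf_spec, map_pow, φq_E 7 (by norm_num), T_X, mul_inv_cancel_right]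

theorem σ_n : σ (E 9) = E 9 := by
  apply φq_inj
  show φq (σf (E 9)) = _
  rw [σf_spec, φq_E 9 (by norm_num), T_N, mul_inv_cancel_right]

/-- `x³` is not conjugate to `x` -/
theorem hnc (g : HeP) : g * E 7 * g⁻¹ ≠ E 7 ^ 3 := by
  intro hm
  have hm' : g * E 7 = E 7 ^ 3 * g := by rw [← hm]; group
  have hg : φq g * Q.perm Q_ok 7 = Q.perm Q_ok 7 ^ 3 * φq g := by
    have h := congrArg φq hm'
    rwa [map_mul, map_mul, map_pow, φq_E 7 (by norm_num)] at h
  have hY : φq g * pr Q Q_ok [7] = pr Q Q_ok [7, 7, 7] * φq g := by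
    rw [show pr Q Q_ok [7] = Q.perm Q_ok 7 ^ 1 from pr_replicate Q Q_ok 1 7,
      show pr Q Q_ok [7, 7, 7] = Q.perm Q_ok 7 ^ 3 from pr_replicate Q Q_ok 3 7, pow_one]
    exact hg
  have h4 : φq g * pr Q Q_ok [7, 7] = pr Q Q_ok [7, 7, 7, 7, 7, 7] * φq g := by
    rw [show pr Q Q_ok [7, 7] = Q.perm Q_ok 7 ^ 2 from pr_replicate Q Q_ok 2 7,
      show pr Q Q_ok [7, 7, 7, 7, 7, 7] = Q.perm Q_ok 7 ^ 6 from pr_replicate Q Q_ok 6 7]
    have h := semi_pow hg 2
    rwa [← pow_mul] at h
  obtain ⟨k, hk, -⟩ := sift_sound Q Q_ok G L1 L2 L3A L4A 1462 1071 494 813 (by decide)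
    (by decide) (by decide) (by decide) l1 l2 l3A l4A factA [7] [7, 7, 7] [7] [7, 7, 7] [7, 7]
    [7, 7, 7, 7, 7, 7] (by decide) (by decide) (by decide) (by decide) (by decide) (by decide)
    baseA_spec.1 baseA_spec.2.1 baseA_spec.2.2 [] (fun _ c2 => tg16 tWA2 c2) sA2 (φq g)
    (φq_mem g) hY hY h4
  exact Nat.not_lt_zero k hk

/-- The outer automorphism group of the presented Held group has order 2. -/
theorem out_he : Nat.card (Cfsg.Out HeP) = 2 :=
  Cfsg.Agent.Lib.Helper19.OutCrit.card_out_two (E 7) (E 9) σ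
    (by rw [Cfsg.Agent.Lib.Helper19.HePres.main.2]; norm_num) x_order hn hnorm hrig σ_x σ_n hnc

end Cfsg.Agent.Lib.Helper19.HeOut
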