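import Cfsg.Agent.Lib.Helper19.HeOutD

/-!
# Kernel checks for the outer automorphism group of the Held group (part 1)
-/

set_option autoImplicit false

namespace Cfsg.Agent.Lib.Helper19.HeOut

open Cfsg.Agent.Lib.Helper19
open Cfsg.Agent.Lib.Helper19.FP (tg16)
open Cfsg.Agent.Lib.Helper19.FPI (PDataI)
open Cfsg.Agent.Lib.Helper19.RC (allBelow)
open Cfsg.Agent.Lib.Helper19.Sift (Lvl tw lvlOK siftOK wordOf)

theorem Q_ok : Q.ok = true := by decide +kernel

theorem Qt_ok : Qt.ok = true := by decide +kernel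

theorem l1 : lvlOK Q L1 1462 [] = true := by decide +kernel
theorem l2 : lvlOK Q L2 1071 [1462] = true := by decide +kernel
theorem l3A : lvlOK Q L3A 494 [1462, 1071] = true := by decide +kernel
theorem l4A : lvlOK Q L4A 813 [1462, 1071, 494] = true := by decide +kernel
theorem l3B : lvlOK Q L3B 890 [1462, 1071] = true := by decide +kernel
theorem l4B : lvlOK Q L4B 1710 [1462, 1071, 890] = true := by decide +kernel

theorem relsOK : Q.relOK [[9, 7, 10, 8, 8], [11, 9, 11, 10, 10, 10], [11, 11]] = true := by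
  decide +kernel

theorem powX : Q.powOK [7] 17 = true := by decide +kernel

theorem powXR : Q.powOK [7, 11] 17 = true := by decide +kernel

/-- the letter is one of `x`, `x⁻¹`, `n`, `n⁻¹`, `r` -/
def okL (l : ℕ) : Bool := Nat.ble 7 l && Nat.ble l 11

theorem lettersOK : (allBelow (fun c => (L1.w c).all okL) 2058 &&
    allBelow (fun c => (L2.w c).all okL) 1360 && allBelow (fun c => (L3A.w c).all okL) 360 &&
    allBelow (fun c => (L4A.w c).all okL) 4) = true := by decide +kernel

theorem xmove : Nat.beq (Q.app [7] 1071) 1071 = false := by decide +kernel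

theorem baseA : (Nat.beq (Q.app [7] 1462) 1462 && Nat.beq (Q.app [7] 1071) 494 &&
    Nat.beq (Q.app [7, 7] 1071) 813) = true := by decide +kernel

theorem baseB : (Nat.beq (Q.app [9] 1462) 1462 && Nat.beq (Q.app [9] 1071) 890 &&
    Nat.beq (Q.app [9, 9, 9] 1071) 1710) = true := by decide +kernel

theorem lvlM : (Nat.beq L1.m 2058 && Nat.beq L2.m 1360 && Nat.beq L3A.m 360 && Nat.beq L4A.m 4 &&
    Nat.beq L3B.m 90 && Nat.beq L4B.m 16) = true := by decide +kernel

theorem normOK : allBelow (fun k => [1462, 1071, 494, 813].all (fun b =>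
    Nat.beq (Q.app (wordOf L1 L2 L3A L4A (accA1.getD k (0, 0, 0, 0))) b)
      (Q.app (List.replicate k 7 ++ (9 :: List.replicate k 8)) b))) 17 = true := by
  decide +kernel

theorem rB0 : [1462, 1071, 890, 1710].all (fun b =>
    Nat.beq (Q.app (wordOf L1 L2 L3B L4B (accB.getD 0 (0, 0, 0, 0))) b) (Q.app [11] b)) = true := by
  decide +kernel

theorem badOK : allBelow (fun k => Nat.beq k 0 || (Nat.blt (tg16 tWR k) 2058 &&
    !(Nat.beq ((Q.app (7 :: wordOf L1 L2 L3B L4B (accB.getD k (0, 0, 0, 0))))^[17] (tg16 tWR k))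
      (tg16 tWR k)))) 16 = true := by decide +kernel

theorem accLen : (Nat.beq accA1.length 17 && Nat.beq accB.length 16) = true := by decide +kernel

end Cfsg.Agent.Lib.Helper19.HeOut
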