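import Cfsg.Agent.Lib.Helper19.HeP5D

set_option autoImplicit false
set_option maxRecDepth 1000000

namespace Cfsg.Agent.Lib.Helper19.HeP5

open Cfsg.Agent.Lib.Helper56.TC Cfsg.Agent.Lib.Helper56.TC.Tabs

theorem cF_1500 : allRange (fun x => forceN T.chkFinName x) 1500 100 = true := by decide +kernel
theorem cF_1600 : allRange (fun x => forceN T.chkFinName x) 1600 100 = true := by decide +kernel
theorem cF_1700 : allRange (fun x => forceN T.chkFinName x) 1700 100 = true := by decide +kernel
theorem cF_1800 : allRange (fun x => forceN T.chkFinName x) 1800 100 = true := by decide +kernel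
theorem cF_1900 : allRange (fun x => forceN T.chkFinName x) 1900 100 = true := by decide +kernel
theorem cF_2000 : allRange (fun x => forceN T.chkFinName x) 2000 100 = true := by decide +kernel
theorem cF_2100 : allRange (fun x => forceN T.chkFinName x) 2100 100 = true := by decide +kernel
theorem cF_2200 : allRange (fun x => forceN T.chkFinName x) 2200 100 = true := by decide +kernel

end Cfsg.Agent.Lib.Helper19.HeP5
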