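import Cfsg.Agent.Lib.Helper19.HeP5D

set_option autoImplicit false
set_option maxRecDepth 1000000

namespace Cfsg.Agent.Lib.Helper19.HeP5

open Cfsg.Agent.Lib.Helper56.TC Cfsg.Agent.Lib.Helper56.TC.Tabs

theorem cF_3100 : allRange (fun x => forceN T.chkFinName x) 3100 100 = true := by decide +kernel
theorem cF_3200 : allRange (fun x => forceN T.chkFinName x) 3200 100 = true := by decide +kernel
theorem cF_3300 : allRange (fun x => forceN T.chkFinName x) 3300 100 = true := by decide +kernel
theorem cF_3400 : allRange (fun x => forceN T.chkFinName x) 3400 100 = true := by decide +kernel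
theorem cF_3500 : allRange (fun x => forceN T.chkFinName x) 3500 100 = true := by decide +kernel
theorem cF_3600 : allRange (fun x => forceN T.chkFinName x) 3600 100 = true := by decide +kernel
theorem cF_3700 : allRange (fun x => forceN T.chkFinName x) 3700 100 = true := by decide +kernel
theorem cF_3800 : allRange (fun x => forceN T.chkFinName x) 3800 100 = true := by decide +kernel

end Cfsg.Agent.Lib.Helper19.HeP5
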