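import Cfsg.Agent.Lib.Helper19.TCUp
import Cfsg.Agent.Lib.Helper19.HeP5C0
import Cfsg.Agent.Lib.Helper19.HeP5C1
import Cfsg.Agent.Lib.Helper19.HeP5C2
import Cfsg.Agent.Lib.Helper19.HeP5C3
import Cfsg.Agent.Lib.Helper19.HeP5C4
import Cfsg.Agent.Lib.Helper19.HeP5C5
import Cfsg.Agent.Lib.Helper19.HeP5C6
import Cfsg.Agent.Lib.Helper19.HeP5C7
import Cfsg.Agent.Lib.Helper19.HeP5C8

set_option autoImplicit false
set_option maxRecDepth 1000000

namespace Cfsg.Agent.Lib.Helper19.HeP5

open Cfsg.Agent.Lib.Helper56.TC Cfsg.Agent.Lib.Helper56.TC.Tabs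

theorem uN_300 : Upto T.chkName 300 := upto_add (upto_zero T.chkName) rfl cN_0
theorem uN_600 : Upto T.chkName 600 := upto_add uN_300 rfl cN_300
theorem uN_900 : Upto T.chkName 900 := upto_add uN_600 rfl cN_600
theorem uN_1200 : Upto T.chkName 1200 := upto_add uN_900 rfl cN_900
theorem uN_1500 : Upto T.chkName 1500 := upto_add uN_1200 rfl cN_1200
theorem uN_1800 : Upto T.chkName 1800 := upto_add uN_1500 rfl cN_1500
theorem uN_2100 : Upto T.chkName 2100 := upto_add uN_1800 rfl cN_1800
theorem uN_2400 : Upto T.chkName 2400 := upto_add uN_2100 rfl cN_2100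
theorem uN_2700 : Upto T.chkName 2700 := upto_add uN_2400 rfl cN_2400
theorem uN_3000 : Upto T.chkName 3000 := upto_add uN_2700 rfl cN_2700
theorem uN_3300 : Upto T.chkName 3300 := upto_add uN_3000 rfl cN_3000
theorem uN_3600 : Upto T.chkName 3600 := upto_add uN_3300 rfl cN_3300
theorem uN_3900 : Upto T.chkName 3900 := upto_add uN_3600 rfl cN_3600
theorem uN_4200 : Upto T.chkName 4200 := upto_add uN_3900 rfl cN_3900
theorem uN_4500 : Upto T.chkName 4500 := upto_add uN_4200 rfl cN_4200
theorem uN_4800 : Upto T.chkName 4800 := upto_add uN_4500 rfl cN_4500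
theorem uN_5040 : Upto T.chkName 5040 := upto_add uN_4800 rfl cN_4800
theorem uF_100 : Upto T.chkFinName 100 := upto_add (upto_zero T.chkFinName) rfl cF_0
theorem uF_200 : Upto T.chkFinName 200 := upto_add uF_100 rfl cF_100
theorem uF_300 : Upto T.chkFinName 300 := upto_add uF_200 rfl cF_200
theorem uF_400 : Upto T.chkFinName 400 := upto_add uF_300 rfl cF_300
theorem uF_500 : Upto T.chkFinName 500 := upto_add uF_400 rfl cF_400
theorem uF_600 : Upto T.chkFinName 600 := upto_add uF_500 rfl cF_500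
theorem uF_700 : Upto T.chkFinName 700 := upto_add uF_600 rfl cF_600
theorem uF_800 : Upto T.chkFinName 800 := upto_add uF_700 rfl cF_700
theorem uF_900 : Upto T.chkFinName 900 := upto_add uF_800 rfl cF_800
theorem uF_1000 : Upto T.chkFinName 1000 := upto_add uF_900 rfl cF_900
theorem uF_1100 : Upto T.chkFinName 1100 := upto_add uF_1000 rfl cF_1000
theorem uF_1200 : Upto T.chkFinName 1200 := upto_add uF_1100 rfl cF_1100
theorem uF_1300 : Upto T.chkFinName 1300 := upto_add uF_1200 rfl cF_1200
theorem uF_1400 : Upto T.chkFinName 1400 := upto_add uF_1300 rfl cF_1300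
theorem uF_1500 : Upto T.chkFinName 1500 := upto_add uF_1400 rfl cF_1400
theorem uF_1600 : Upto T.chkFinName 1600 := upto_add uF_1500 rfl cF_1500
theorem uF_1700 : Upto T.chkFinName 1700 := upto_add uF_1600 rfl cF_1600
theorem uF_1800 : Upto T.chkFinName 1800 := upto_add uF_1700 rfl cF_1700
theorem uF_1900 : Upto T.chkFinName 1900 := upto_add uF_1800 rfl cF_1800
theorem uF_2000 : Upto T.chkFinName 2000 := upto_add uF_1900 rfl cF_1900
theorem uF_2100 : Upto T.chkFinName 2100 := upto_add uF_2000 rfl cF_2000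
theorem uF_2200 : Upto T.chkFinName 2200 := upto_add uF_2100 rfl cF_2100
theorem uF_2300 : Upto T.chkFinName 2300 := upto_add uF_2200 rfl cF_2200
theorem uF_2400 : Upto T.chkFinName 2400 := upto_add uF_2300 rfl cF_2300
theorem uF_2500 : Upto T.chkFinName 2500 := upto_add uF_2400 rfl cF_2400
theorem uF_2600 : Upto T.chkFinName 2600 := upto_add uF_2500 rfl cF_2500
theorem uF_2700 : Upto T.chkFinName 2700 := upto_add uF_2600 rfl cF_2600
theorem uF_2800 : Upto T.chkFinName 2800 := upto_add uF_2700 rfl cF_2700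
theorem uF_2900 : Upto T.chkFinName 2900 := upto_add uF_2800 rfl cF_2800
theorem uF_3000 : Upto T.chkFinName 3000 := upto_add uF_2900 rfl cF_2900
theorem uF_3100 : Upto T.chkFinName 3100 := upto_add uF_3000 rfl cF_3000
theorem uF_3200 : Upto T.chkFinName 3200 := upto_add uF_3100 rfl cF_3100
theorem uF_3300 : Upto T.chkFinName 3300 := upto_add uF_3200 rfl cF_3200
theorem uF_3400 : Upto T.chkFinName 3400 := upto_add uF_3300 rfl cF_3300
theorem uF_3500 : Upto T.chkFinName 3500 := upto_add uF_3400 rfl cF_3400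
theorem uF_3600 : Upto T.chkFinName 3600 := upto_add uF_3500 rfl cF_3500
theorem uF_3700 : Upto T.chkFinName 3700 := upto_add uF_3600 rfl cF_3600
theorem uF_3800 : Upto T.chkFinName 3800 := upto_add uF_3700 rfl cF_3700
theorem uF_3900 : Upto T.chkFinName 3900 := upto_add uF_3800 rfl cF_3800
theorem uF_4000 : Upto T.chkFinName 4000 := upto_add uF_3900 rfl cF_3900
theorem uF_4100 : Upto T.chkFinName 4100 := upto_add uF_4000 rfl cF_4000
theorem uF_4200 : Upto T.chkFinName 4200 := upto_add uF_4100 rfl cF_4100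
theorem uF_4300 : Upto T.chkFinName 4300 := upto_add uF_4200 rfl cF_4200
theorem uF_4400 : Upto T.chkFinName 4400 := upto_add uF_4300 rfl cF_4300
theorem uF_4500 : Upto T.chkFinName 4500 := upto_add uF_4400 rfl cF_4400
theorem uF_4600 : Upto T.chkFinName 4600 := upto_add uF_4500 rfl cF_4500
theorem uF_4700 : Upto T.chkFinName 4700 := upto_add uF_4600 rfl cF_4600
theorem uF_4800 : Upto T.chkFinName 4800 := upto_add uF_4700 rfl cF_4700
theorem uF_4900 : Upto T.chkFinName 4900 := upto_add uF_4800 rfl cF_4800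
theorem uF_5000 : Upto T.chkFinName 5000 := upto_add uF_4900 rfl cF_4900
theorem uF_5040 : Upto T.chkFinName 5040 := upto_add uF_5000 rfl cF_5000

/-- The certificate is valid. -/
theorem checked : Cfsg.Agent.Lib.Helper19.TCU.Checked T 4 where
  hK := by decide +kernel
  hN := by decide +kernel
  hNN := by decide +kernel
  hinv := fun _ _ => rfl
  hsubs := by decide +kernel
  hrelK := by decide +kernel
  hrx := by decide +kernel
  hchk := uN_5040
  hfin := uF_5040

end Cfsg.Agent.Lib.Helper19.HeP5
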