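import Cfsg.Agent.Lib.Helper56.TC

set_option autoImplicit false
set_option maxRecDepth 1000000

namespace Cfsg.Agent.Lib.Helper19.HeP6

open Cfsg.Agent.Lib.Helper56.TC Cfsg.Agent.Lib.Helper56.TC.Tabs

noncomputable def sA0 : List (List ℕ) := [
[0x5eb260a926232686d2042]]

noncomputable def sA : List (List (List ℕ)) := [sA0]

noncomputable def nA0 : List (List ℕ) := [
[0x1c0]]

noncomputable def nA : List (List (List ℕ)) := [nA0]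

noncomputable def tA0 : List (List ℕ) := [
[0x0]]

noncomputable def tA : List (List (List ℕ)) := [tA0]

/-- The certificate data. -/
noncomputable def T : Tabs where
  K := 6
  N := 1
  N' := 1
  INF := 7
  fuel := 1
  inv := fun l => l
  tg := slotFld sA 71 14 16383 6 0 1 (fun _ => 0)
  rk := slotFld sA 71 14 16383 6 1 7
    (fun x => Nat.rec (motive := fun _ => ℕ) 0 (fun _ _ => 7) x)
  jc := slotFld sA 71 14 16383 6 4 1023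
    (fun x => Nat.rec (motive := fun _ => ℕ) 3 (fun _ _ => 0) x)
  dd := nameFld nA 111 9 511 0 1
  dl := nameFld nA 111 9 511 1 7
  qj := nameFld nA 111 9 511 4 1
  mp := nameFld nA 111 9 511 5 1
  mt := nameFld nA 111 9 511 6 7
  tb := slotFld tA 1000 1 1 6 0 1 (fun _ => 0)
  rels1 := [[5, 0, 5, 0],
    [5, 4, 5, 4],
    [5, 3, 5, 3],
    [5, 1, 5, 1],
    [5, 2, 5, 2],
    [0, 4, 0, 4, 0, 4, 0, 4, 0, 4, 0, 4, 0, 4, 0, 4, 0, 4, 0, 4],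
    [0, 3, 0, 3],
    [0, 1, 0, 1],
    [0, 2, 0, 2],
    [4, 3, 4, 3, 4, 3],
    [4, 1, 4, 1, 4, 1],
    [4, 2, 4, 2, 4, 2],
    [3, 1, 3, 1],
    [3, 2, 3, 2],
    [1, 2, 1, 2, 1, 2, 1, 2],
    [3, 1, 2, 1, 2],
    [5, 0, 4, 0, 4, 0, 4, 0, 4, 0, 4],
    [0, 4, 1, 2, 0, 4, 1, 2, 0, 4, 1, 2, 0, 4, 1, 2],
    [0, 4, 0, 4, 0, 4, 0, 4, 0, 4, 3, 4, 0, 4, 0, 4, 0, 4, 0, 4, 0, 3],
    [0, 4, 0, 4, 0, 4, 0, 4, 0, 4, 1, 4, 0, 4, 0, 4, 0, 4, 0, 4, 0, 1],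
    [0, 4, 0, 4, 0, 4, 0, 4, 0, 4, 2, 4, 0, 4, 0, 4, 0, 4, 0, 4, 0, 2],
    [0, 4, 0, 4, 3, 4, 0, 4, 0, 4, 3, 4, 0, 4, 3]]
  subs := [[0],
    [1],
    [2],
    [3],
    [4]]
  rx := [[5, 0, 5, 0],
    [5, 4, 5, 4],
    [5, 3, 5, 3],
    [5, 1, 5, 1],
    [5, 2, 5, 2],
    [0, 4, 0, 4, 0, 4, 0, 4, 0, 4, 0, 4, 0, 4, 0, 4, 0, 4, 0, 4],
    [0, 3, 0, 3],
    [0, 1, 0, 1],
    [0, 2, 0, 2],
    [4, 3, 4, 3, 4, 3],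
    [4, 1, 4, 1, 4, 1],
    [4, 2, 4, 2, 4, 2],
    [3, 1, 3, 1],
    [3, 2, 3, 2],
    [1, 2, 1, 2, 1, 2, 1, 2],
    [3, 1, 2, 1, 2],
    [5, 0, 4, 0, 4, 0, 4, 0, 4, 0, 4],
    [0, 4, 1, 2, 0, 4, 1, 2, 0, 4, 1, 2, 0, 4, 1, 2],
    [0, 4, 0, 4, 0, 4, 0, 4, 0, 4, 3, 4, 0, 4, 0, 4, 0, 4, 0, 4, 0, 3],
    [0, 4, 0, 4, 0, 4, 0, 4, 0, 4, 1, 4, 0, 4, 0, 4, 0, 4, 0, 4, 0, 1],
    [0, 4, 0, 4, 0, 4, 0, 4, 0, 4, 2, 4, 0, 4, 0, 4, 0, 4, 0, 4, 0, 2],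
    [0, 4, 0, 4, 3, 4, 0, 4, 0, 4, 3, 4, 0, 4, 3],
    [0, 6],
    [1, 7],
    [2, 8],
    [3, 9],
    [4, 10]]
  RB := 23
  tpl := fun _ => 0
  tdep := fun _ => 0
  ol := fun _ => 0
  oc := fun _ => 0
  op := fun _ => 0
  odep := fun _ => 0
  orep := fun _ => 0

end Cfsg.Agent.Lib.Helper19.HeP6
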