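import Cfsg.Agent.Lib.Helper19.HeP7D

set_option autoImplicit false
set_option maxRecDepth 1000000

namespace Cfsg.Agent.Lib.Helper19.HeP7

open Cfsg.Agent.Lib.Helper56.TC Cfsg.Agent.Lib.Helper56.TC.Tabs

theorem cN_25200 : allRange (fun x => forceN T.chkName x) 25200 300 = true := by decide +kernel
theorem cN_25500 : allRange (fun x => forceN T.chkName x) 25500 300 = true := by decide +kernel
theorem cN_25800 : allRange (fun x => forceN T.chkName x) 25800 300 = true := by decide +kernel
theorem cN_26100 : allRange (fun x => forceN T.chkName x) 26100 300 = true := by decide +kernel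
theorem cN_26400 : allRange (fun x => forceN T.chkName x) 26400 300 = true := by decide +kernel
theorem cN_26700 : allRange (fun x => forceN T.chkName x) 26700 300 = true := by decide +kernel

end Cfsg.Agent.Lib.Helper19.HeP7
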