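import Cfsg.Agent.Lib.Helper19.HeP7D

set_option autoImplicit false
set_option maxRecDepth 1000000

namespace Cfsg.Agent.Lib.Helper19.HeP7

open Cfsg.Agent.Lib.Helper56.TC Cfsg.Agent.Lib.Helper56.TC.Tabs

theorem cN_43200 : allRange (fun x => forceN T.chkName x) 43200 300 = true := by decide +kernel
theorem cN_43500 : allRange (fun x => forceN T.chkName x) 43500 300 = true := by decide +kernel
theorem cN_43800 : allRange (fun x => forceN T.chkName x) 43800 300 = true := by decide +kernel
theorem cN_44100 : allRange (fun x => forceN T.chkName x) 44100 300 = true := by decide +kernel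
theorem cN_44400 : allRange (fun x => forceN T.chkName x) 44400 300 = true := by decide +kernel
theorem cN_44700 : allRange (fun x => forceN T.chkName x) 44700 300 = true := by decide +kernel

end Cfsg.Agent.Lib.Helper19.HeP7
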