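import Cfsg.Agent.Lib.Helper19.HeP7D

set_option autoImplicit false
set_option maxRecDepth 1000000

namespace Cfsg.Agent.Lib.Helper19.HeP7

open Cfsg.Agent.Lib.Helper56.TC Cfsg.Agent.Lib.Helper56.TC.Tabs

theorem cF_1200 : allRange (fun x => forceN T.chkFinName x) 1200 1200 = true := by decide +kernel
theorem cF_2400 : allRange (fun x => forceN T.chkFinName x) 2400 1200 = true := by decide +kernel
theorem cF_3600 : allRange (fun x => forceN T.chkFinName x) 3600 1200 = true := by decide +kernel
theorem cF_4800 : allRange (fun x => forceN T.chkFinName x) 4800 1200 = true := by decide +kernel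
theorem cF_6000 : allRange (fun x => forceN T.chkFinName x) 6000 1200 = true := by decide +kernel
theorem cF_7200 : allRange (fun x => forceN T.chkFinName x) 7200 1200 = true := by decide +kernel

end Cfsg.Agent.Lib.Helper19.HeP7
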