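import Cfsg.Agent.Lib.Helper19.TCUp
import Cfsg.Agent.Lib.Helper19.HeP7C0
import Cfsg.Agent.Lib.Helper19.HeP7C1
import Cfsg.Agent.Lib.Helper19.HeP7C2
import Cfsg.Agent.Lib.Helper19.HeP7C3
import Cfsg.Agent.Lib.Helper19.HeP7C4
import Cfsg.Agent.Lib.Helper19.HeP7C5
import Cfsg.Agent.Lib.Helper19.HeP7C6
import Cfsg.Agent.Lib.Helper19.HeP7C7
import Cfsg.Agent.Lib.Helper19.HeP7C8
import Cfsg.Agent.Lib.Helper19.HeP7C9
import Cfsg.Agent.Lib.Helper19.HeP7C10
import Cfsg.Agent.Lib.Helper19.HeP7C11
import Cfsg.Agent.Lib.Helper19.HeP7C12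
import Cfsg.Agent.Lib.Helper19.HeP7C13
import Cfsg.Agent.Lib.Helper19.HeP7C14
import Cfsg.Agent.Lib.Helper19.HeP7C15
import Cfsg.Agent.Lib.Helper19.HeP7C16
import Cfsg.Agent.Lib.Helper19.HeP7C17
import Cfsg.Agent.Lib.Helper19.HeP7C18
import Cfsg.Agent.Lib.Helper19.HeP7C19
import Cfsg.Agent.Lib.Helper19.HeP7C20
import Cfsg.Agent.Lib.Helper19.HeP7C21
import Cfsg.Agent.Lib.Helper19.HeP7C22
import Cfsg.Agent.Lib.Helper19.HeP7C23
import Cfsg.Agent.Lib.Helper19.HeP7C24
import Cfsg.Agent.Lib.Helper19.HeP7C25
import Cfsg.Agent.Lib.Helper19.HeP7C26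
import Cfsg.Agent.Lib.Helper19.HeP7C27
import Cfsg.Agent.Lib.Helper19.HeP7C28
import Cfsg.Agent.Lib.Helper19.HeP7C29
import Cfsg.Agent.Lib.Helper19.HeP7C30
import Cfsg.Agent.Lib.Helper19.HeP7C31
import Cfsg.Agent.Lib.Helper19.HeP7C32
import Cfsg.Agent.Lib.Helper19.HeP7C33
import Cfsg.Agent.Lib.Helper19.HeP7C34

set_option autoImplicit false
set_option maxRecDepth 1000000

namespace Cfsg.Agent.Lib.Helper19.HeP7

open Cfsg.Agent.Lib.Helper56.TC Cfsg.Agent.Lib.Helper56.TC.Tabs

theorem uN_300 : Upto T.chkName 300 := upto_add (upto_zero T.chkName) rfl cN_0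
theorem uN_600 : Upto T.chkName 600 := upto_add uN_300 rfl cN_300
theorem uN_900 : Upto T.chkName 900 := upto_add uN_600 rfl cN_600
theorem uN_1200 : Upto T.chkName 1200 := upto_add uN_900 rfl cN_900
theorem uN_1500 : Upto T.chkName 1500 := upto_add uN_1200 rfl cN_1200
theorem uN_1800 : Upto T.chkName 1800 := upto_add uN_1500 rfl cN_1500
theorem uN_2100 : Upto T.chkName 2100 := upto_add uN_1800 rfl cN_1800
theorem uN_2400 : Upto T.chkName 2400 := upto_add uN_2100 rfl cN_2100
theorem uN_2700 : Upto T.chkName 2700 := upto_add uN_2400 rfl cN_2400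
theorem uN_3000 : Upto T.chkName 3000 := upto_add uN_2700 rfl cN_2700
theorem uN_3300 : Upto T.chkName 3300 := upto_add uN_3000 rfl cN_3000
theorem uN_3600 : Upto T.chkName 3600 := upto_add uN_3300 rfl cN_3300
theorem uN_3900 : Upto T.chkName 3900 := upto_add uN_3600 rfl cN_3600
theorem uN_4200 : Upto T.chkName 4200 := upto_add uN_3900 rfl cN_3900
theorem uN_4500 : Upto T.chkName 4500 := upto_add uN_4200 rfl cN_4200
theorem uN_4800 : Upto T.chkName 4800 := upto_add uN_4500 rfl cN_4500
theorem uN_5100 : Upto T.chkName 5100 := upto_add uN_4800 rfl cN_4800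
theorem uN_5400 : Upto T.chkName 5400 := upto_add uN_5100 rfl cN_5100
theorem uN_5700 : Upto T.chkName 5700 := upto_add uN_5400 rfl cN_5400
theorem uN_6000 : Upto T.chkName 6000 := upto_add uN_5700 rfl cN_5700
theorem uN_6300 : Upto T.chkName 6300 := upto_add uN_6000 rfl cN_6000
theorem uN_6600 : Upto T.chkName 6600 := upto_add uN_6300 rfl cN_6300
theorem uN_6900 : Upto T.chkName 6900 := upto_add uN_6600 rfl cN_6600
theorem uN_7200 : Upto T.chkName 7200 := upto_add uN_6900 rfl cN_6900
theorem uN_7500 : Upto T.chkName 7500 := upto_add uN_7200 rfl cN_7200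
theorem uN_7800 : Upto T.chkName 7800 := upto_add uN_7500 rfl cN_7500
theorem uN_8100 : Upto T.chkName 8100 := upto_add uN_7800 rfl cN_7800
theorem uN_8400 : Upto T.chkName 8400 := upto_add uN_8100 rfl cN_8100
theorem uN_8700 : Upto T.chkName 8700 := upto_add uN_8400 rfl cN_8400
theorem uN_9000 : Upto T.chkName 9000 := upto_add uN_8700 rfl cN_8700
theorem uN_9300 : Upto T.chkName 9300 := upto_add uN_9000 rfl cN_9000
theorem uN_9600 : Upto T.chkName 9600 := upto_add uN_9300 rfl cN_9300
theorem uN_9900 : Upto T.chkName 9900 := upto_add uN_9600 rfl cN_9600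
theorem uN_10200 : Upto T.chkName 10200 := upto_add uN_9900 rfl cN_9900
theorem uN_10500 : Upto T.chkName 10500 := upto_add uN_10200 rfl cN_10200
theorem uN_10800 : Upto T.chkName 10800 := upto_add uN_10500 rfl cN_10500
theorem uN_11100 : Upto T.chkName 11100 := upto_add uN_10800 rfl cN_10800
theorem uN_11400 : Upto T.chkName 11400 := upto_add uN_11100 rfl cN_11100
theorem uN_11700 : Upto T.chkName 11700 := upto_add uN_11400 rfl cN_11400
theorem uN_12000 : Upto T.chkName 12000 := upto_add uN_11700 rfl cN_11700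
theorem uN_12300 : Upto T.chkName 12300 := upto_add uN_12000 rfl cN_12000
theorem uN_12600 : Upto T.chkName 12600 := upto_add uN_12300 rfl cN_12300
theorem uN_12900 : Upto T.chkName 12900 := upto_add uN_12600 rfl cN_12600
theorem uN_13200 : Upto T.chkName 13200 := upto_add uN_12900 rfl cN_12900
theorem uN_13500 : Upto T.chkName 13500 := upto_add uN_13200 rfl cN_13200
theorem uN_13800 : Upto T.chkName 13800 := upto_add uN_13500 rfl cN_13500
theorem uN_14100 : Upto T.chkName 14100 := upto_add uN_13800 rfl cN_13800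
theorem uN_14400 : Upto T.chkName 14400 := upto_add uN_14100 rfl cN_14100
theorem uN_14700 : Upto T.chkName 14700 := upto_add uN_14400 rfl cN_14400
theorem uN_15000 : Upto T.chkName 15000 := upto_add uN_14700 rfl cN_14700
theorem uN_15300 : Upto T.chkName 15300 := upto_add uN_15000 rfl cN_15000
theorem uN_15600 : Upto T.chkName 15600 := upto_add uN_15300 rfl cN_15300
theorem uN_15900 : Upto T.chkName 15900 := upto_add uN_15600 rfl cN_15600
theorem uN_16200 : Upto T.chkName 16200 := upto_add uN_15900 rfl cN_15900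
theorem uN_16500 : Upto T.chkName 16500 := upto_add uN_16200 rfl cN_16200
theorem uN_16800 : Upto T.chkName 16800 := upto_add uN_16500 rfl cN_16500
theorem uN_17100 : Upto T.chkName 17100 := upto_add uN_16800 rfl cN_16800
theorem uN_17400 : Upto T.chkName 17400 := upto_add uN_17100 rfl cN_17100
theorem uN_17700 : Upto T.chkName 17700 := upto_add uN_17400 rfl cN_17400
theorem uN_18000 : Upto T.chkName 18000 := upto_add uN_17700 rfl cN_17700
theorem uN_18300 : Upto T.chkName 18300 := upto_add uN_18000 rfl cN_18000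
theorem uN_18600 : Upto T.chkName 18600 := upto_add uN_18300 rfl cN_18300
theorem uN_18900 : Upto T.chkName 18900 := upto_add uN_18600 rfl cN_18600
theorem uN_19200 : Upto T.chkName 19200 := upto_add uN_18900 rfl cN_18900
theorem uN_19500 : Upto T.chkName 19500 := upto_add uN_19200 rfl cN_19200
theorem uN_19800 : Upto T.chkName 19800 := upto_add uN_19500 rfl cN_19500
theorem uN_20100 : Upto T.chkName 20100 := upto_add uN_19800 rfl cN_19800
theorem uN_20400 : Upto T.chkName 20400 := upto_add uN_20100 rfl cN_20100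
theorem uN_20700 : Upto T.chkName 20700 := upto_add uN_20400 rfl cN_20400
theorem uN_21000 : Upto T.chkName 21000 := upto_add uN_20700 rfl cN_20700
theorem uN_21300 : Upto T.chkName 21300 := upto_add uN_21000 rfl cN_21000
theorem uN_21600 : Upto T.chkName 21600 := upto_add uN_21300 rfl cN_21300
theorem uN_21900 : Upto T.chkName 21900 := upto_add uN_21600 rfl cN_21600
theorem uN_22200 : Upto T.chkName 22200 := upto_add uN_21900 rfl cN_21900
theorem uN_22500 : Upto T.chkName 22500 := upto_add uN_22200 rfl cN_22200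
theorem uN_22800 : Upto T.chkName 22800 := upto_add uN_22500 rfl cN_22500
theorem uN_23100 : Upto T.chkName 23100 := upto_add uN_22800 rfl cN_22800
theorem uN_23400 : Upto T.chkName 23400 := upto_add uN_23100 rfl cN_23100
theorem uN_23700 : Upto T.chkName 23700 := upto_add uN_23400 rfl cN_23400
theorem uN_24000 : Upto T.chkName 24000 := upto_add uN_23700 rfl cN_23700
theorem uN_24300 : Upto T.chkName 24300 := upto_add uN_24000 rfl cN_24000
theorem uN_24600 : Upto T.chkName 24600 := upto_add uN_24300 rfl cN_24300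
theorem uN_24900 : Upto T.chkName 24900 := upto_add uN_24600 rfl cN_24600
theorem uN_25200 : Upto T.chkName 25200 := upto_add uN_24900 rfl cN_24900
theorem uN_25500 : Upto T.chkName 25500 := upto_add uN_25200 rfl cN_25200
theorem uN_25800 : Upto T.chkName 25800 := upto_add uN_25500 rfl cN_25500
theorem uN_26100 : Upto T.chkName 26100 := upto_add uN_25800 rfl cN_25800
theorem uN_26400 : Upto T.chkName 26400 := upto_add uN_26100 rfl cN_26100
theorem uN_26700 : Upto T.chkName 26700 := upto_add uN_26400 rfl cN_26400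
theorem uN_27000 : Upto T.chkName 27000 := upto_add uN_26700 rfl cN_26700
theorem uN_27300 : Upto T.chkName 27300 := upto_add uN_27000 rfl cN_27000
theorem uN_27600 : Upto T.chkName 27600 := upto_add uN_27300 rfl cN_27300
theorem uN_27900 : Upto T.chkName 27900 := upto_add uN_27600 rfl cN_27600
theorem uN_28200 : Upto T.chkName 28200 := upto_add uN_27900 rfl cN_27900
theorem uN_28500 : Upto T.chkName 28500 := upto_add uN_28200 rfl cN_28200
theorem uN_28800 : Upto T.chkName 28800 := upto_add uN_28500 rfl cN_28500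
theorem uN_29100 : Upto T.chkName 29100 := upto_add uN_28800 rfl cN_28800
theorem uN_29400 : Upto T.chkName 29400 := upto_add uN_29100 rfl cN_29100
theorem uN_29700 : Upto T.chkName 29700 := upto_add uN_29400 rfl cN_29400
theorem uN_30000 : Upto T.chkName 30000 := upto_add uN_29700 rfl cN_29700
theorem uN_30300 : Upto T.chkName 30300 := upto_add uN_30000 rfl cN_30000
theorem uN_30600 : Upto T.chkName 30600 := upto_add uN_30300 rfl cN_30300
theorem uN_30900 : Upto T.chkName 30900 := upto_add uN_30600 rfl cN_30600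
theorem uN_31200 : Upto T.chkName 31200 := upto_add uN_30900 rfl cN_30900
theorem uN_31500 : Upto T.chkName 31500 := upto_add uN_31200 rfl cN_31200
theorem uN_31800 : Upto T.chkName 31800 := upto_add uN_31500 rfl cN_31500
theorem uN_32100 : Upto T.chkName 32100 := upto_add uN_31800 rfl cN_31800
theorem uN_32400 : Upto T.chkName 32400 := upto_add uN_32100 rfl cN_32100
theorem uN_32700 : Upto T.chkName 32700 := upto_add uN_32400 rfl cN_32400
theorem uN_33000 : Upto T.chkName 33000 := upto_add uN_32700 rfl cN_32700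
theorem uN_33300 : Upto T.chkName 33300 := upto_add uN_33000 rfl cN_33000
theorem uN_33600 : Upto T.chkName 33600 := upto_add uN_33300 rfl cN_33300
theorem uN_33900 : Upto T.chkName 33900 := upto_add uN_33600 rfl cN_33600
theorem uN_34200 : Upto T.chkName 34200 := upto_add uN_33900 rfl cN_33900
theorem uN_34500 : Upto T.chkName 34500 := upto_add uN_34200 rfl cN_34200
theorem uN_34800 : Upto T.chkName 34800 := upto_add uN_34500 rfl cN_34500
theorem uN_35100 : Upto T.chkName 35100 := upto_add uN_34800 rfl cN_34800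
theorem uN_35400 : Upto T.chkName 35400 := upto_add uN_35100 rfl cN_35100
theorem uN_35700 : Upto T.chkName 35700 := upto_add uN_35400 rfl cN_35400
theorem uN_36000 : Upto T.chkName 36000 := upto_add uN_35700 rfl cN_35700
theorem uN_36300 : Upto T.chkName 36300 := upto_add uN_36000 rfl cN_36000
theorem uN_36600 : Upto T.chkName 36600 := upto_add uN_36300 rfl cN_36300
theorem uN_36900 : Upto T.chkName 36900 := upto_add uN_36600 rfl cN_36600
theorem uN_37200 : Upto T.chkName 37200 := upto_add uN_36900 rfl cN_36900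
theorem uN_37500 : Upto T.chkName 37500 := upto_add uN_37200 rfl cN_37200
theorem uN_37800 : Upto T.chkName 37800 := upto_add uN_37500 rfl cN_37500
theorem uN_38100 : Upto T.chkName 38100 := upto_add uN_37800 rfl cN_37800
theorem uN_38400 : Upto T.chkName 38400 := upto_add uN_38100 rfl cN_38100
theorem uN_38700 : Upto T.chkName 38700 := upto_add uN_38400 rfl cN_38400
theorem uN_39000 : Upto T.chkName 39000 := upto_add uN_38700 rfl cN_38700
theorem uN_39300 : Upto T.chkName 39300 := upto_add uN_39000 rfl cN_39000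
theorem uN_39600 : Upto T.chkName 39600 := upto_add uN_39300 rfl cN_39300
theorem uN_39900 : Upto T.chkName 39900 := upto_add uN_39600 rfl cN_39600
theorem uN_40200 : Upto T.chkName 40200 := upto_add uN_39900 rfl cN_39900
theorem uN_40500 : Upto T.chkName 40500 := upto_add uN_40200 rfl cN_40200
theorem uN_40800 : Upto T.chkName 40800 := upto_add uN_40500 rfl cN_40500
theorem uN_41100 : Upto T.chkName 41100 := upto_add uN_40800 rfl cN_40800
theorem uN_41400 : Upto T.chkName 41400 := upto_add uN_41100 rfl cN_41100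
theorem uN_41700 : Upto T.chkName 41700 := upto_add uN_41400 rfl cN_41400
theorem uN_42000 : Upto T.chkName 42000 := upto_add uN_41700 rfl cN_41700
theorem uN_42300 : Upto T.chkName 42300 := upto_add uN_42000 rfl cN_42000
theorem uN_42600 : Upto T.chkName 42600 := upto_add uN_42300 rfl cN_42300
theorem uN_42900 : Upto T.chkName 42900 := upto_add uN_42600 rfl cN_42600
theorem uN_43200 : Upto T.chkName 43200 := upto_add uN_42900 rfl cN_42900
theorem uN_43500 : Upto T.chkName 43500 := upto_add uN_43200 rfl cN_43200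
theorem uN_43800 : Upto T.chkName 43800 := upto_add uN_43500 rfl cN_43500
theorem uN_44100 : Upto T.chkName 44100 := upto_add uN_43800 rfl cN_43800
theorem uN_44400 : Upto T.chkName 44400 := upto_add uN_44100 rfl cN_44100
theorem uN_44700 : Upto T.chkName 44700 := upto_add uN_44400 rfl cN_44400
theorem uN_45000 : Upto T.chkName 45000 := upto_add uN_44700 rfl cN_44700
theorem uN_45300 : Upto T.chkName 45300 := upto_add uN_45000 rfl cN_45000
theorem uN_45600 : Upto T.chkName 45600 := upto_add uN_45300 rfl cN_45300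
theorem uN_45900 : Upto T.chkName 45900 := upto_add uN_45600 rfl cN_45600
theorem uN_46200 : Upto T.chkName 46200 := upto_add uN_45900 rfl cN_45900
theorem uN_46500 : Upto T.chkName 46500 := upto_add uN_46200 rfl cN_46200
theorem uN_46800 : Upto T.chkName 46800 := upto_add uN_46500 rfl cN_46500
theorem uN_47100 : Upto T.chkName 47100 := upto_add uN_46800 rfl cN_46800
theorem uN_47400 : Upto T.chkName 47400 := upto_add uN_47100 rfl cN_47100
theorem uN_47700 : Upto T.chkName 47700 := upto_add uN_47400 rfl cN_47400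
theorem uN_48000 : Upto T.chkName 48000 := upto_add uN_47700 rfl cN_47700
theorem uN_48300 : Upto T.chkName 48300 := upto_add uN_48000 rfl cN_48000
theorem uN_48600 : Upto T.chkName 48600 := upto_add uN_48300 rfl cN_48300
theorem uN_48900 : Upto T.chkName 48900 := upto_add uN_48600 rfl cN_48600
theorem uN_49200 : Upto T.chkName 49200 := upto_add uN_48900 rfl cN_48900
theorem uN_49500 : Upto T.chkName 49500 := upto_add uN_49200 rfl cN_49200
theorem uN_49800 : Upto T.chkName 49800 := upto_add uN_49500 rfl cN_49500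
theorem uN_49980 : Upto T.chkName 49980 := upto_add uN_49800 rfl cN_49800
theorem uF_1200 : Upto T.chkFinName 1200 := upto_add (upto_zero T.chkFinName) rfl cF_0
theorem uF_2400 : Upto T.chkFinName 2400 := upto_add uF_1200 rfl cF_1200
theorem uF_3600 : Upto T.chkFinName 3600 := upto_add uF_2400 rfl cF_2400
theorem uF_4800 : Upto T.chkFinName 4800 := upto_add uF_3600 rfl cF_3600
theorem uF_6000 : Upto T.chkFinName 6000 := upto_add uF_4800 rfl cF_4800
theorem uF_7200 : Upto T.chkFinName 7200 := upto_add uF_6000 rfl cF_6000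
theorem uF_8400 : Upto T.chkFinName 8400 := upto_add uF_7200 rfl cF_7200
theorem uF_9600 : Upto T.chkFinName 9600 := upto_add uF_8400 rfl cF_8400
theorem uF_10800 : Upto T.chkFinName 10800 := upto_add uF_9600 rfl cF_9600
theorem uF_12000 : Upto T.chkFinName 12000 := upto_add uF_10800 rfl cF_10800
theorem uF_13200 : Upto T.chkFinName 13200 := upto_add uF_12000 rfl cF_12000
theorem uF_14400 : Upto T.chkFinName 14400 := upto_add uF_13200 rfl cF_13200
theorem uF_15600 : Upto T.chkFinName 15600 := upto_add uF_14400 rfl cF_14400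
theorem uF_16800 : Upto T.chkFinName 16800 := upto_add uF_15600 rfl cF_15600
theorem uF_18000 : Upto T.chkFinName 18000 := upto_add uF_16800 rfl cF_16800
theorem uF_19200 : Upto T.chkFinName 19200 := upto_add uF_18000 rfl cF_18000
theorem uF_20400 : Upto T.chkFinName 20400 := upto_add uF_19200 rfl cF_19200
theorem uF_21600 : Upto T.chkFinName 21600 := upto_add uF_20400 rfl cF_20400
theorem uF_22800 : Upto T.chkFinName 22800 := upto_add uF_21600 rfl cF_21600
theorem uF_24000 : Upto T.chkFinName 24000 := upto_add uF_22800 rfl cF_22800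
theorem uF_25200 : Upto T.chkFinName 25200 := upto_add uF_24000 rfl cF_24000
theorem uF_26400 : Upto T.chkFinName 26400 := upto_add uF_25200 rfl cF_25200
theorem uF_27600 : Upto T.chkFinName 27600 := upto_add uF_26400 rfl cF_26400
theorem uF_28800 : Upto T.chkFinName 28800 := upto_add uF_27600 rfl cF_27600
theorem uF_30000 : Upto T.chkFinName 30000 := upto_add uF_28800 rfl cF_28800
theorem uF_31200 : Upto T.chkFinName 31200 := upto_add uF_30000 rfl cF_30000
theorem uF_32400 : Upto T.chkFinName 32400 := upto_add uF_31200 rfl cF_31200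
theorem uF_33600 : Upto T.chkFinName 33600 := upto_add uF_32400 rfl cF_32400
theorem uF_34800 : Upto T.chkFinName 34800 := upto_add uF_33600 rfl cF_33600
theorem uF_36000 : Upto T.chkFinName 36000 := upto_add uF_34800 rfl cF_34800
theorem uF_37200 : Upto T.chkFinName 37200 := upto_add uF_36000 rfl cF_36000
theorem uF_38400 : Upto T.chkFinName 38400 := upto_add uF_37200 rfl cF_37200
theorem uF_39600 : Upto T.chkFinName 39600 := upto_add uF_38400 rfl cF_38400
theorem uF_40800 : Upto T.chkFinName 40800 := upto_add uF_39600 rfl cF_39600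
theorem uF_42000 : Upto T.chkFinName 42000 := upto_add uF_40800 rfl cF_40800
theorem uF_43200 : Upto T.chkFinName 43200 := upto_add uF_42000 rfl cF_42000
theorem uF_44400 : Upto T.chkFinName 44400 := upto_add uF_43200 rfl cF_43200
theorem uF_45600 : Upto T.chkFinName 45600 := upto_add uF_44400 rfl cF_44400
theorem uF_46800 : Upto T.chkFinName 46800 := upto_add uF_45600 rfl cF_45600
theorem uF_48000 : Upto T.chkFinName 48000 := upto_add uF_46800 rfl cF_46800
theorem uF_49200 : Upto T.chkFinName 49200 := upto_add uF_48000 rfl cF_48000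
theorem uF_49980 : Upto T.chkFinName 49980 := upto_add uF_49200 rfl cF_49200

/-- The certificate is valid. -/
theorem checked : Cfsg.Agent.Lib.Helper19.TCU.Checked T 6 where
  hK := by decide +kernel
  hN := by decide +kernel
  hNN := by decide +kernel
  hinv := fun _ _ => rfl
  hsubs := by decide +kernel
  hrelK := by decide +kernel
  hrx := by decide +kernel
  hchk := uN_49980
  hfin := uF_49980

end Cfsg.Agent.Lib.Helper19.HeP7
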