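import Cfsg.Prelude.Def_Spor_He
import Cfsg.Agent.Lib.Helper19.HeMain
import Cfsg.Agent.Lib.Helper19.HeP1
import Cfsg.Agent.Lib.Helper19.HeP2
import Cfsg.Agent.Lib.Helper19.HeP3
import Cfsg.Agent.Lib.Helper19.HeP4
import Cfsg.Agent.Lib.Helper19.HeP5
import Cfsg.Agent.Lib.Helper19.HeP6
import Cfsg.Agent.Lib.Helper19.HeP7
import Cfsg.Agent.Lib.Helper19.HeM1
import Cfsg.Agent.Lib.Helper19.HeM2
import Cfsg.Agent.Lib.Helper19.HeM3
import Cfsg.Agent.Lib.Helper19.HeM4
import Cfsg.Agent.Lib.Helper19.HeM5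

/-!
# The presented Held group is the Held group on 2058 points

The presented group `P` maps onto `G = ⟨s 0, …, s 6⟩ ≤ Sym(2058)`, and `4030387200 ≤ |G|`
(`HeG.lower`).  Conversely `|P| ≤ 2 · 2 · 4 · 1 · 5040 · 1 · 49980 = 4030387200` by Todd–Coxeter
certificates for the chain `⟨c⟩ ≤ ⟨c, f⟩ ≤ ⟨c, f, g⟩ ≤ ⟨c, f, g, e⟩ ≤ ⟨c, f, g, e, d⟩ ≤
⟨c, f, g, e, d, a⟩ ≤ P`.  The certificate for `⟨c, f, g, e⟩ ≤ ⟨c, f, g, e, d⟩` uses, besides
the relators of the presentation and the consequences `[(cd)^5, x] = 1` (`x = e, f, g`) of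
`a = (cd)^5`, the relation `cdcdedcdcdedcde = 1`.  That relation holds in `P` because
`⟨a, b, c, d, e⟩ ≤ P` has order at most `2 · 4 · 6 · 1 · 315 = 15120` (certificates again), while
its image in `Sym(2058)` has order at least `15120`, so `P → Sym(2058)` is injective on it.
-/

set_option autoImplicit false

namespace Cfsg.Agent.Lib.Helper19.HePres

open Cfsg.Spor
open Cfsg.Agent.Lib.Helper56.TC (ew ew_cons ew_nil ew_append)
open Cfsg.Agent.Lib.Helper19.Cox (L L_mono mem_L L_zero)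

/-- the relators of the presentation -/
abbrev R : Set (FreeGroup He.Gen) := coxRelators He.edges ∪ {r | r ∈ He.extra}

theorem node (x : He.Gen) : x ∈ coxNodes He.edges := by cases x <;> decide

/-- abbreviation for the generators of the presented group -/
noncomputable abbrev o (x : He.Gen) : PresentedGroup R := PresentedGroup.of x

theorem pairP (x y : He.Gen) (m : ℕ) (hm : coxLabel He.edges x y = m) : (o x * o y) ^ m = 1 := by
  have hmem : (FreeGroup.of x * FreeGroup.of y) ^ m ∈ R :=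
    Or.inl ⟨x, node x, y, node y, by rw [hm]⟩
  have h := PresentedGroup.one_of_mem hmem
  rw [map_pow, map_mul] at h
  exact h

theorem extraP (r : FreeGroup He.Gen) (hr : r ∈ He.extra) : PresentedGroup.mk R r = 1 :=
  PresentedGroup.one_of_mem (Or.inr hr)

/-- the generators in the order a, …, g -/
def gn : ℕ → He.Gen
  | 0 => .a
  | 1 => .b
  | 2 => .c
  | 3 => .d
  | 4 => .e
  | 5 => .f
  | _ => .g

/-- the generators of the presented group, in the order a, …, g -/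
noncomputable def gP (i : ℕ) : PresentedGroup R := PresentedGroup.of (gn i)

theorem hgP (i : ℕ) : gP i * gP i = 1 := by
  have h := pairP (gn i) (gn i) 1 (by unfold coxLabel; rw [if_pos rfl])
  rwa [pow_one] at h

theorem ew_rev (w : List ℕ) : ew gP w.reverse = (ew gP w)⁻¹ :=
  Cfsg.Agent.Lib.Helper19.RC.rev_prod gP hgP w

/-! ### The relators, as words in the generators -/

theorem relN_0 : ew gP [0, 1, 0, 1, 0, 1, 0, 1] = 1 := by
  have h := pairP .a .b 4 (by decide)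
  simpa [ew, gP, gn, pow_succ, mul_assoc] using h

theorem relN_1 : ew gP [0, 2, 0, 2] = 1 := by
  have h := pairP .a .c 2 (by decide)
  simpa [ew, gP, gn, pow_succ, mul_assoc] using h

theorem relN_2 : ew gP [0, 3, 0, 3] = 1 := by
  have h := pairP .a .d 2 (by decide)
  simpa [ew, gP, gn, pow_succ, mul_assoc] using h

theorem relN_3 : ew gP [0, 4, 0, 4] = 1 := by
  have h := pairP .a .e 2 (by decide)
  simpa [ew, gP, gn, pow_succ, mul_assoc] using h

theorem relN_4 : ew gP [0, 5, 0, 5] = 1 := by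
  have h := pairP .a .f 2 (by decide)
  simpa [ew, gP, gn, pow_succ, mul_assoc] using h

theorem relN_5 : ew gP [0, 6, 0, 6] = 1 := by
  have h := pairP .a .g 2 (by decide)
  simpa [ew, gP, gn, pow_succ, mul_assoc] using h

theorem relN_6 : ew gP [1, 2, 1, 2, 1, 2] = 1 := by
  have h := pairP .b .c 3 (by decide)
  simpa [ew, gP, gn, pow_succ, mul_assoc] using h

theorem relN_7 : ew gP [1, 3, 1, 3] = 1 := by
  have h := pairP .b .d 2 (by decide)
  simpa [ew, gP, gn, pow_succ, mul_assoc] using h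

theorem relN_8 : ew gP [1, 4, 1, 4] = 1 := by
  have h := pairP .b .e 2 (by decide)
  simpa [ew, gP, gn, pow_succ, mul_assoc] using h

theorem relN_9 : ew gP [1, 5, 1, 5] = 1 := by
  have h := pairP .b .f 2 (by decide)
  simpa [ew, gP, gn, pow_succ, mul_assoc] using h

theorem relN_10 : ew gP [1, 6, 1, 6] = 1 := by
  have h := pairP .b .g 2 (by decide)
  simpa [ew, gP, gn, pow_succ, mul_assoc] using h

theorem relN_11 : ew gP [2, 3, 2, 3, 2, 3, 2, 3, 2, 3, 2, 3, 2, 3, 2, 3, 2, 3, 2, 3] = 1 := by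
  have h := pairP .c .d 10 (by decide)
  simpa [ew, gP, gn, pow_succ, mul_assoc] using h

theorem relN_12 : ew gP [2, 4, 2, 4] = 1 := by
  have h := pairP .c .e 2 (by decide)
  simpa [ew, gP, gn, pow_succ, mul_assoc] using h

theorem relN_13 : ew gP [2, 5, 2, 5] = 1 := by
  have h := pairP .c .f 2 (by decide)
  simpa [ew, gP, gn, pow_succ, mul_assoc] using h

theorem relN_14 : ew gP [2, 6, 2, 6] = 1 := by
  have h := pairP .c .g 2 (by decide)
  simpa [ew, gP, gn, pow_succ, mul_assoc] using h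

theorem relN_15 : ew gP [3, 4, 3, 4, 3, 4] = 1 := by
  have h := pairP .d .e 3 (by decide)
  simpa [ew, gP, gn, pow_succ, mul_assoc] using h

theorem relN_16 : ew gP [3, 5, 3, 5, 3, 5] = 1 := by
  have h := pairP .d .f 3 (by decide)
  simpa [ew, gP, gn, pow_succ, mul_assoc] using h

theorem relN_17 : ew gP [3, 6, 3, 6, 3, 6] = 1 := by
  have h := pairP .d .g 3 (by decide)
  simpa [ew, gP, gn, pow_succ, mul_assoc] using h

theorem relN_18 : ew gP [4, 5, 4, 5] = 1 := by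
  have h := pairP .e .f 2 (by decide)
  simpa [ew, gP, gn, pow_succ, mul_assoc] using h

theorem relN_19 : ew gP [4, 6, 4, 6] = 1 := by
  have h := pairP .e .g 2 (by decide)
  simpa [ew, gP, gn, pow_succ, mul_assoc] using h

theorem relN_20 : ew gP [5, 6, 5, 6, 5, 6, 5, 6] = 1 := by
  have h := pairP .f .g 4 (by decide)
  simpa [ew, gP, gn, pow_succ, mul_assoc] using h

theorem relN_21 : ew gP [4, 5, 6, 5, 6] = 1 := by
  have h := extraP (He.e * ((He.f * He.g) ^ 2)⁻¹) (by simp [He.extra])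
  rw [map_mul, map_inv, map_pow, map_mul, mul_inv_eq_one] at h
  have h' : o .e = (o .f * o .g) ^ 2 := h
  have e : ew gP [4, 5, 6, 5, 6] = o .e * (o .f * o .g) ^ 2 := by
    simp [ew, gP, gn, pow_succ, mul_assoc]
  rw [e, ← h']
  exact hgP 4

theorem relN_22 : ew gP [4, 0, 1, 2, 0, 1, 2, 0, 1, 2] = 1 := by
  have h := extraP (He.e * ((He.a * He.b * He.c) ^ 3)⁻¹) (by simp [He.extra])
  rw [map_mul, map_inv, map_pow, map_mul, map_mul, mul_inv_eq_one] at h
  have h' : o .e = (o .a * o .b * o .c) ^ 3 := h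
  have e : ew gP [4, 0, 1, 2, 0, 1, 2, 0, 1, 2] = o .e * (o .a * o .b * o .c) ^ 3 := by
    simp [ew, gP, gn, pow_succ, mul_assoc]
  rw [e, ← h']
  exact hgP 4

theorem relN_23 : ew gP [0, 2, 3, 2, 3, 2, 3, 2, 3, 2, 3] = 1 := by
  have h := extraP (He.a * ((He.c * He.d) ^ 5)⁻¹) (by simp [He.extra])
  rw [map_mul, map_inv, map_pow, map_mul, mul_inv_eq_one] at h
  have h' : o .a = (o .c * o .d) ^ 5 := h
  have e : ew gP [0, 2, 3, 2, 3, 2, 3, 2, 3, 2, 3] = o .a * (o .c * o .d) ^ 5 := by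
    simp [ew, gP, gn, pow_succ, mul_assoc]
  rw [e, ← h']
  exact hgP 0

theorem relN_24 : ew gP [2, 3, 5, 6, 2, 3, 5, 6, 2, 3, 5, 6, 2, 3, 5, 6] = 1 := by
  have h := extraP ((He.c * He.d * He.f * He.g) ^ 4) (by simp [He.extra])
  simp only [map_pow, map_mul] at h
  have h' : ((o .c * o .d * o .f * o .g) ^ 4 : PresentedGroup R) = 1 := h
  simpa [ew, gP, gn, pow_succ, mul_assoc] using h'

/-- `(cd)^5 = a` -/
theorem cd5 : ew gP [2, 3, 2, 3, 2, 3, 2, 3, 2, 3] = gP 0 := by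
  have h := relN_23
  have e : ew gP [0, 2, 3, 2, 3, 2, 3, 2, 3, 2, 3] = gP 0 * ew gP [2, 3, 2, 3, 2, 3, 2, 3, 2, 3] := ew_cons gP 0 _
  rw [e] at h
  have h2 : ew gP [2, 3, 2, 3, 2, 3, 2, 3, 2, 3] = (gP 0)⁻¹ := eq_inv_of_mul_eq_one_right h
  rw [h2]
  exact inv_eq_of_mul_eq_one_left (hgP 0)

/-- `(dc)^5 = a` -/
theorem dc5 : ew gP [3, 2, 3, 2, 3, 2, 3, 2, 3, 2] = gP 0 := by
  have h := ew_rev [2, 3, 2, 3, 2, 3, 2, 3, 2, 3]
  have e : ([2, 3, 2, 3, 2, 3, 2, 3, 2, 3] : List ℕ).reverse = [3, 2, 3, 2, 3, 2, 3, 2, 3, 2] := by decide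
  rw [e, cd5] at h
  rw [h]
  exact inv_eq_of_mul_eq_one_left (hgP 0)

theorem relN_25 : ew gP [2, 3, 2, 3, 2, 3, 2, 3, 2, 3, 4, 3, 2, 3, 2, 3, 2, 3, 2, 3, 2, 4] = 1 := by
  have e : ([2, 3, 2, 3, 2, 3, 2, 3, 2, 3, 4, 3, 2, 3, 2, 3, 2, 3, 2, 3, 2, 4] : List ℕ) =
      [2, 3, 2, 3, 2, 3, 2, 3, 2, 3] ++ ([4] ++ ([3, 2, 3, 2, 3, 2, 3, 2, 3, 2] ++ [4])) := by decide
  rw [e, ew_append, ew_append, ew_append, cd5, dc5]
  have h := relN_3
  simpa [ew, mul_assoc] using h

theorem relN_26 : ew gP [2, 3, 2, 3, 2, 3, 2, 3, 2, 3, 5, 3, 2, 3, 2, 3, 2, 3, 2, 3, 2, 5] = 1 := by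
  have e : ([2, 3, 2, 3, 2, 3, 2, 3, 2, 3, 5, 3, 2, 3, 2, 3, 2, 3, 2, 3, 2, 5] : List ℕ) =
      [2, 3, 2, 3, 2, 3, 2, 3, 2, 3] ++ ([5] ++ ([3, 2, 3, 2, 3, 2, 3, 2, 3, 2] ++ [5])) := by decide
  rw [e, ew_append, ew_append, ew_append, cd5, dc5]
  have h := relN_4
  simpa [ew, mul_assoc] using h

theorem relN_27 : ew gP [2, 3, 2, 3, 2, 3, 2, 3, 2, 3, 6, 3, 2, 3, 2, 3, 2, 3, 2, 3, 2, 6] = 1 := by
  have e : ([2, 3, 2, 3, 2, 3, 2, 3, 2, 3, 6, 3, 2, 3, 2, 3, 2, 3, 2, 3, 2, 6] : List ℕ) =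
      [2, 3, 2, 3, 2, 3, 2, 3, 2, 3] ++ ([6] ++ ([3, 2, 3, 2, 3, 2, 3, 2, 3, 2] ++ [6])) := by decide
  rw [e, ew_append, ew_append, ew_append, cd5, dc5]
  have h := relN_5
  simpa [ew, mul_assoc] using h

/-- the relators of the presentation and three consequences, as words in the generators -/
def RN0 : List (List ℕ) :=
  [[0, 1, 0, 1, 0, 1, 0, 1],
   [0, 2, 0, 2],
   [0, 3, 0, 3],
   [0, 4, 0, 4],
   [0, 5, 0, 5],
   [0, 6, 0, 6],
   [1, 2, 1, 2, 1, 2],
   [1, 3, 1, 3],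
   [1, 4, 1, 4],
   [1, 5, 1, 5],
   [1, 6, 1, 6],
   [2, 3, 2, 3, 2, 3, 2, 3, 2, 3, 2, 3, 2, 3, 2, 3, 2, 3, 2, 3],
   [2, 4, 2, 4],
   [2, 5, 2, 5],
   [2, 6, 2, 6],
   [3, 4, 3, 4, 3, 4],
   [3, 5, 3, 5, 3, 5],
   [3, 6, 3, 6, 3, 6],
   [4, 5, 4, 5],
   [4, 6, 4, 6],
   [5, 6, 5, 6, 5, 6, 5, 6],
   [4, 5, 6, 5, 6],
   [4, 0, 1, 2, 0, 1, 2, 0, 1, 2],
   [0, 2, 3, 2, 3, 2, 3, 2, 3, 2, 3],
   [2, 3, 5, 6, 2, 3, 5, 6, 2, 3, 5, 6, 2, 3, 5, 6],
   [2, 3, 2, 3, 2, 3, 2, 3, 2, 3, 4, 3, 2, 3, 2, 3, 2, 3, 2, 3, 2, 4],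
   [2, 3, 2, 3, 2, 3, 2, 3, 2, 3, 5, 3, 2, 3, 2, 3, 2, 3, 2, 3, 2, 5],
   [2, 3, 2, 3, 2, 3, 2, 3, 2, 3, 6, 3, 2, 3, 2, 3, 2, 3, 2, 3, 2, 6]]

theorem relN0 : ∀ w ∈ RN0, ew gP w = 1 := by
  intro w hw
  simp only [RN0, List.mem_cons, List.not_mem_nil, or_false] at hw
  rcases hw with rfl | rfl | rfl | rfl | rfl | rfl | rfl | rfl | rfl | rfl | rfl | rfl | rfl | rfl | rfl | rfl | rfl | rfl | rfl | rfl | rfl | rfl | rfl | rfl | rfl | rfl | rfl | rfl
  · exact relN_0
  · exact relN_1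
  · exact relN_2
  · exact relN_3
  · exact relN_4
  · exact relN_5
  · exact relN_6
  · exact relN_7
  · exact relN_8
  · exact relN_9
  · exact relN_10
  · exact relN_11
  · exact relN_12
  · exact relN_13
  · exact relN_14
  · exact relN_15
  · exact relN_16
  · exact relN_17
  · exact relN_18
  · exact relN_19
  · exact relN_20
  · exact relN_21
  · exact relN_22
  · exact relN_23
  · exact relN_24
  · exact relN_25
  · exact relN_26
  · exact relN_27

/-! ### The relators in the permutation group -/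

open Cfsg.Agent.Lib.Helper19.HeG (s hs hrel rels)

theorem pairG_0_1 : (s 0 * s 1) ^ 4 = 1 := by
  have h : (([0, 1, 0, 1, 0, 1, 0, 1] : List ℕ).map s).prod = 1 := hrel 0
  simpa [pow_succ, mul_assoc] using h

theorem pairG_0_2 : (s 0 * s 2) ^ 2 = 1 := by
  have h : (([0, 2, 0, 2] : List ℕ).map s).prod = 1 := hrel 1
  simpa [pow_succ, mul_assoc] using h

theorem pairG_0_3 : (s 0 * s 3) ^ 2 = 1 := by
  have h : (([0, 3, 0, 3] : List ℕ).map s).prod = 1 := hrel 2
  simpa [pow_succ, mul_assoc] using h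

theorem pairG_0_4 : (s 0 * s 4) ^ 2 = 1 := by
  have h : (([0, 4, 0, 4] : List ℕ).map s).prod = 1 := hrel 3
  simpa [pow_succ, mul_assoc] using h

theorem pairG_0_5 : (s 0 * s 5) ^ 2 = 1 := by
  have h : (([0, 5, 0, 5] : List ℕ).map s).prod = 1 := hrel 4
  simpa [pow_succ, mul_assoc] using h

theorem pairG_0_6 : (s 0 * s 6) ^ 2 = 1 := by
  have h : (([0, 6, 0, 6] : List ℕ).map s).prod = 1 := hrel 5
  simpa [pow_succ, mul_assoc] using h

theorem pairG_1_2 : (s 1 * s 2) ^ 3 = 1 := by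
  have h : (([1, 2, 1, 2, 1, 2] : List ℕ).map s).prod = 1 := hrel 6
  simpa [pow_succ, mul_assoc] using h

theorem pairG_1_3 : (s 1 * s 3) ^ 2 = 1 := by
  have h : (([1, 3, 1, 3] : List ℕ).map s).prod = 1 := hrel 7
  simpa [pow_succ, mul_assoc] using h

theorem pairG_1_4 : (s 1 * s 4) ^ 2 = 1 := by
  have h : (([1, 4, 1, 4] : List ℕ).map s).prod = 1 := hrel 8
  simpa [pow_succ, mul_assoc] using h

theorem pairG_1_5 : (s 1 * s 5) ^ 2 = 1 := by
  have h : (([1, 5, 1, 5] : List ℕ).map s).prod = 1 := hrel 9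
  simpa [pow_succ, mul_assoc] using h

theorem pairG_1_6 : (s 1 * s 6) ^ 2 = 1 := by
  have h : (([1, 6, 1, 6] : List ℕ).map s).prod = 1 := hrel 10
  simpa [pow_succ, mul_assoc] using h

theorem pairG_2_3 : (s 2 * s 3) ^ 10 = 1 := by
  have h : (([2, 3, 2, 3, 2, 3, 2, 3, 2, 3, 2, 3, 2, 3, 2, 3, 2, 3, 2, 3] : List ℕ).map s).prod = 1 := hrel 11
  simpa [pow_succ, mul_assoc] using h

theorem pairG_2_4 : (s 2 * s 4) ^ 2 = 1 := by
  have h : (([2, 4, 2, 4] : List ℕ).map s).prod = 1 := hrel 12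
  simpa [pow_succ, mul_assoc] using h

theorem pairG_2_5 : (s 2 * s 5) ^ 2 = 1 := by
  have h : (([2, 5, 2, 5] : List ℕ).map s).prod = 1 := hrel 13
  simpa [pow_succ, mul_assoc] using h

theorem pairG_2_6 : (s 2 * s 6) ^ 2 = 1 := by
  have h : (([2, 6, 2, 6] : List ℕ).map s).prod = 1 := hrel 14
  simpa [pow_succ, mul_assoc] using h

theorem pairG_3_4 : (s 3 * s 4) ^ 3 = 1 := by
  have h : (([3, 4, 3, 4, 3, 4] : List ℕ).map s).prod = 1 := hrel 15
  simpa [pow_succ, mul_assoc] using h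

theorem pairG_3_5 : (s 3 * s 5) ^ 3 = 1 := by
  have h : (([3, 5, 3, 5, 3, 5] : List ℕ).map s).prod = 1 := hrel 16
  simpa [pow_succ, mul_assoc] using h

theorem pairG_3_6 : (s 3 * s 6) ^ 3 = 1 := by
  have h : (([3, 6, 3, 6, 3, 6] : List ℕ).map s).prod = 1 := hrel 17
  simpa [pow_succ, mul_assoc] using h

theorem pairG_4_5 : (s 4 * s 5) ^ 2 = 1 := by
  have h : (([4, 5, 4, 5] : List ℕ).map s).prod = 1 := hrel 18
  simpa [pow_succ, mul_assoc] using h

theorem pairG_4_6 : (s 4 * s 6) ^ 2 = 1 := by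
  have h : (([4, 6, 4, 6] : List ℕ).map s).prod = 1 := hrel 19
  simpa [pow_succ, mul_assoc] using h

theorem pairG_5_6 : (s 5 * s 6) ^ 4 = 1 := by
  have h : (([5, 6, 5, 6, 5, 6, 5, 6] : List ℕ).map s).prod = 1 := hrel 20
  simpa [pow_succ, mul_assoc] using h

/-- the index of a generator -/
def idx : He.Gen → ℕ
  | .a => 0
  | .b => 1
  | .c => 2
  | .d => 3
  | .e => 4
  | .f => 5
  | .g => 6

theorem pow_comm_one {G : Type*} [Group G] (a b : G) (m : ℕ) (h : (b * a) ^ m = 1) :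
    (a * b) ^ m = 1 := by
  have h1 : a * b = a * (b * a) * a⁻¹ := by group
  rw [h1, conj_pow, h]
  group

theorem pairG : ∀ x y : He.Gen, (s (idx x) * s (idx y)) ^ coxLabel He.edges x y = 1
  | .a, .a => by
    rw [show coxLabel He.edges He.Gen.a He.Gen.a = 1 from by decide, pow_one]
    exact hs 0
  | .a, .b => by
    rw [show coxLabel He.edges He.Gen.a He.Gen.b = 4 from by decide]
    exact pairG_0_1
  | .a, .c => by
    rw [show coxLabel He.edges He.Gen.a He.Gen.c = 2 from by decide]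
    exact pairG_0_2
  | .a, .d => by
    rw [show coxLabel He.edges He.Gen.a He.Gen.d = 2 from by decide]
    exact pairG_0_3
  | .a, .e => by
    rw [show coxLabel He.edges He.Gen.a He.Gen.e = 2 from by decide]
    exact pairG_0_4
  | .a, .f => by
    rw [show coxLabel He.edges He.Gen.a He.Gen.f = 2 from by decide]
    exact pairG_0_5
  | .a, .g => by
    rw [show coxLabel He.edges He.Gen.a He.Gen.g = 2 from by decide]
    exact pairG_0_6
  | .b, .a => by
    rw [show coxLabel He.edges He.Gen.b He.Gen.a = 4 from by decide]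
    exact pow_comm_one _ _ _ pairG_0_1
  | .b, .b => by
    rw [show coxLabel He.edges He.Gen.b He.Gen.b = 1 from by decide, pow_one]
    exact hs 1
  | .b, .c => by
    rw [show coxLabel He.edges He.Gen.b He.Gen.c = 3 from by decide]
    exact pairG_1_2
  | .b, .d => by
    rw [show coxLabel He.edges He.Gen.b He.Gen.d = 2 from by decide]
    exact pairG_1_3
  | .b, .e => by
    rw [show coxLabel He.edges He.Gen.b He.Gen.e = 2 from by decide]
    exact pairG_1_4
  | .b, .f => by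
    rw [show coxLabel He.edges He.Gen.b He.Gen.f = 2 from by decide]
    exact pairG_1_5
  | .b, .g => by
    rw [show coxLabel He.edges He.Gen.b He.Gen.g = 2 from by decide]
    exact pairG_1_6
  | .c, .a => by
    rw [show coxLabel He.edges He.Gen.c He.Gen.a = 2 from by decide]
    exact pow_comm_one _ _ _ pairG_0_2
  | .c, .b => by
    rw [show coxLabel He.edges He.Gen.c He.Gen.b = 3 from by decide]
    exact pow_comm_one _ _ _ pairG_1_2
  | .c, .c => by
    rw [show coxLabel He.edges He.Gen.c He.Gen.c = 1 from by decide, pow_one]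
    exact hs 2
  | .c, .d => by
    rw [show coxLabel He.edges He.Gen.c He.Gen.d = 10 from by decide]
    exact pairG_2_3
  | .c, .e => by
    rw [show coxLabel He.edges He.Gen.c He.Gen.e = 2 from by decide]
    exact pairG_2_4
  | .c, .f => by
    rw [show coxLabel He.edges He.Gen.c He.Gen.f = 2 from by decide]
    exact pairG_2_5
  | .c, .g => by
    rw [show coxLabel He.edges He.Gen.c He.Gen.g = 2 from by decide]
    exact pairG_2_6
  | .d, .a => by
    rw [show coxLabel He.edges He.Gen.d He.Gen.a = 2 from by decide]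
    exact pow_comm_one _ _ _ pairG_0_3
  | .d, .b => by
    rw [show coxLabel He.edges He.Gen.d He.Gen.b = 2 from by decide]
    exact pow_comm_one _ _ _ pairG_1_3
  | .d, .c => by
    rw [show coxLabel He.edges He.Gen.d He.Gen.c = 10 from by decide]
    exact pow_comm_one _ _ _ pairG_2_3
  | .d, .d => by
    rw [show coxLabel He.edges He.Gen.d He.Gen.d = 1 from by decide, pow_one]
    exact hs 3
  | .d, .e => by
    rw [show coxLabel He.edges He.Gen.d He.Gen.e = 3 from by decide]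
    exact pairG_3_4
  | .d, .f => by
    rw [show coxLabel He.edges He.Gen.d He.Gen.f = 3 from by decide]
    exact pairG_3_5
  | .d, .g => by
    rw [show coxLabel He.edges He.Gen.d He.Gen.g = 3 from by decide]
    exact pairG_3_6
  | .e, .a => by
    rw [show coxLabel He.edges He.Gen.e He.Gen.a = 2 from by decide]
    exact pow_comm_one _ _ _ pairG_0_4
  | .e, .b => by
    rw [show coxLabel He.edges He.Gen.e He.Gen.b = 2 from by decide]
    exact pow_comm_one _ _ _ pairG_1_4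
  | .e, .c => by
    rw [show coxLabel He.edges He.Gen.e He.Gen.c = 2 from by decide]
    exact pow_comm_one _ _ _ pairG_2_4
  | .e, .d => by
    rw [show coxLabel He.edges He.Gen.e He.Gen.d = 3 from by decide]
    exact pow_comm_one _ _ _ pairG_3_4
  | .e, .e => by
    rw [show coxLabel He.edges He.Gen.e He.Gen.e = 1 from by decide, pow_one]
    exact hs 4
  | .e, .f => by
    rw [show coxLabel He.edges He.Gen.e He.Gen.f = 2 from by decide]
    exact pairG_4_5
  | .e, .g => by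
    rw [show coxLabel He.edges He.Gen.e He.Gen.g = 2 from by decide]
    exact pairG_4_6
  | .f, .a => by
    rw [show coxLabel He.edges He.Gen.f He.Gen.a = 2 from by decide]
    exact pow_comm_one _ _ _ pairG_0_5
  | .f, .b => by
    rw [show coxLabel He.edges He.Gen.f He.Gen.b = 2 from by decide]
    exact pow_comm_one _ _ _ pairG_1_5
  | .f, .c => by
    rw [show coxLabel He.edges He.Gen.f He.Gen.c = 2 from by decide]
    exact pow_comm_one _ _ _ pairG_2_5
  | .f, .d => by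
    rw [show coxLabel He.edges He.Gen.f He.Gen.d = 3 from by decide]
    exact pow_comm_one _ _ _ pairG_3_5
  | .f, .e => by
    rw [show coxLabel He.edges He.Gen.f He.Gen.e = 2 from by decide]
    exact pow_comm_one _ _ _ pairG_4_5
  | .f, .f => by
    rw [show coxLabel He.edges He.Gen.f He.Gen.f = 1 from by decide, pow_one]
    exact hs 5
  | .f, .g => by
    rw [show coxLabel He.edges He.Gen.f He.Gen.g = 4 from by decide]
    exact pairG_5_6
  | .g, .a => by
    rw [show coxLabel He.edges He.Gen.g He.Gen.a = 2 from by decide]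
    exact pow_comm_one _ _ _ pairG_0_6
  | .g, .b => by
    rw [show coxLabel He.edges He.Gen.g He.Gen.b = 2 from by decide]
    exact pow_comm_one _ _ _ pairG_1_6
  | .g, .c => by
    rw [show coxLabel He.edges He.Gen.g He.Gen.c = 2 from by decide]
    exact pow_comm_one _ _ _ pairG_2_6
  | .g, .d => by
    rw [show coxLabel He.edges He.Gen.g He.Gen.d = 3 from by decide]
    exact pow_comm_one _ _ _ pairG_3_6
  | .g, .e => by
    rw [show coxLabel He.edges He.Gen.g He.Gen.e = 2 from by decide]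
    exact pow_comm_one _ _ _ pairG_4_6
  | .g, .f => by
    rw [show coxLabel He.edges He.Gen.g He.Gen.f = 4 from by decide]
    exact pow_comm_one _ _ _ pairG_5_6
  | .g, .g => by
    rw [show coxLabel He.edges He.Gen.g He.Gen.g = 1 from by decide, pow_one]
    exact hs 6

/-! ### The homomorphism onto the permutation group -/

theorem relG : ∀ r ∈ R, FreeGroup.lift (fun x => s (idx x)) r = 1 := by
  rintro r (⟨x, _, y, _, rfl⟩ | hr)
  · rw [map_pow, map_mul, FreeGroup.lift_apply_of, FreeGroup.lift_apply_of]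
    exact pairG x y
  · simp only [Set.mem_ofPred_eq, He.extra, List.mem_cons, List.not_mem_nil, or_false] at hr
    rcases hr with rfl | rfl | rfl | rfl
    · simp only [map_mul, map_inv, map_pow, FreeGroup.lift_apply_of]
      show s 4 * ((s 5 * s 6) ^ 2)⁻¹ = 1
      have h : (([4, 5, 6, 5, 6] : List ℕ).map s).prod = 1 := hrel 21
      have h' : s 4 * (s 5 * s 6) ^ 2 = 1 := by simpa [pow_succ, mul_assoc] using h
      have h2 : (s 5 * s 6) ^ 2 = (s 4)⁻¹ := eq_inv_of_mul_eq_one_right h'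
      rw [h2, inv_inv]
      exact hs 4
    · simp only [map_mul, map_inv, map_pow, FreeGroup.lift_apply_of]
      show s 4 * ((s 0 * s 1 * s 2) ^ 3)⁻¹ = 1
      have h : (([4, 0, 1, 2, 0, 1, 2, 0, 1, 2] : List ℕ).map s).prod = 1 := hrel 22
      have h' : s 4 * (s 0 * s 1 * s 2) ^ 3 = 1 := by simpa [pow_succ, mul_assoc] using h
      have h2 : (s 0 * s 1 * s 2) ^ 3 = (s 4)⁻¹ := eq_inv_of_mul_eq_one_right h'
      rw [h2, inv_inv]
      exact hs 4
    · simp only [map_mul, map_inv, map_pow, FreeGroup.lift_apply_of]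
      show s 0 * ((s 2 * s 3) ^ 5)⁻¹ = 1
      have h : (([0, 2, 3, 2, 3, 2, 3, 2, 3, 2, 3] : List ℕ).map s).prod = 1 := hrel 23
      have h' : s 0 * (s 2 * s 3) ^ 5 = 1 := by simpa [pow_succ, mul_assoc] using h
      have h2 : (s 2 * s 3) ^ 5 = (s 0)⁻¹ := eq_inv_of_mul_eq_one_right h'
      rw [h2, inv_inv]
      exact hs 0
    · simp only [map_mul, map_pow, FreeGroup.lift_apply_of]
      show (s 2 * s 3 * s 5 * s 6) ^ 4 = 1
      have h : (([2, 3, 5, 6, 2, 3, 5, 6, 2, 3, 5, 6, 2, 3, 5, 6] : List ℕ).map s).prod = 1 :=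
        hrel 24
      simpa [pow_succ, mul_assoc] using h

/-- the homomorphism from the presented group to `Sym(2058)` -/
noncomputable def φ : PresentedGroup R →* Equiv.Perm (Fin Cfsg.Agent.Lib.Helper19.HeG.P.d) :=
  PresentedGroup.toGroup relG

theorem φ_of (x : He.Gen) : φ (PresentedGroup.of x) = s (idx x) := PresentedGroup.toGroup.of relG

theorem φ_gP (i : ℕ) (hi : i < 7) : φ (gP i) = s i := by
  unfold gP
  rw [φ_of]
  interval_cases i <;> rfl

theorem φ_ew (w : List ℕ) (hw : ∀ a ∈ w, a < 7) : φ (ew gP w) = (w.map s).prod := by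
  induction w with
  | nil => rw [ew_nil, map_one]; rfl
  | cons a t ih =>
    rw [ew_cons, map_mul, φ_gP a (hw a List.mem_cons_self),
      ih (fun b hb => hw b (List.mem_cons_of_mem _ hb)), List.map_cons, List.prod_cons]

theorem range_φ : φ.range = L s 7 := by
  rw [MonoidHom.range_eq_map, ← PresentedGroup.closure_range_of R, MonoidHom.map_closure]
  unfold L
  congr 1
  ext y
  constructor
  · rintro ⟨_, ⟨x, rfl⟩, rfl⟩
    refine ⟨idx x, ?_, (φ_of x).symm⟩
    cases x <;> simp [idx]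
  · rintro ⟨i, hi, rfl⟩
    have hi' : i < 7 := hi
    exact ⟨gP i, ⟨gn i, rfl⟩, φ_gP i hi'⟩

theorem ew_comp (σ : ℕ → ℕ) (w : List ℕ) : ew (fun i => gP (σ i)) w = ew gP (w.map σ) := by
  unfold ew
  rw [List.map_map]
  rfl

theorem ew_mem_L {G : Type*} [Group G] (g : ℕ → G) (k : ℕ) (w : List ℕ) (hw : ∀ a ∈ w, a < k) :
    ew g w ∈ L g k := by
  unfold ew
  apply Subgroup.list_prod_mem
  intro x hx
  rw [List.mem_map] at hx
  obtain ⟨i, hi, rfl⟩ := hx
  exact mem_L g (hw i hi)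

open Cfsg.Agent.Lib.Helper19.TCU (tc_step_upper)

/-! ### The subgroup generated by a, b, c, d, e -/

/-- the order a, b, c, e, d -/
def σv : ℕ → ℕ
  | 0 => 0
  | 1 => 1
  | 2 => 2
  | 3 => 4
  | 4 => 3
  | _ => 3

/-- the generators in the order a, b, c, e, d -/
noncomputable def v (i : ℕ) : PresentedGroup R := gP (σv i)

theorem hv (i : ℕ) : v i * v i = 1 := hgP _

theorem relV (w : List ℕ) (h : w.map σv ∈ RN0) : ew v w = 1 := by
  have e : ew v w = ew gP (w.map σv) := ew_comp σv w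
  rw [e]
  exact relN0 _ h

theorem subM1 : ∀ w ∈ HeM1.T.rels1, w.map σv ∈ RN0 := by decide +kernel
theorem subM2 : ∀ w ∈ HeM2.T.rels1, w.map σv ∈ RN0 := by decide +kernel
theorem subM3 : ∀ w ∈ HeM3.T.rels1, w.map σv ∈ RN0 := by decide +kernel
theorem subM4 : ∀ w ∈ HeM4.T.rels1, w.map σv ∈ RN0 := by decide +kernel
theorem subM5 : ∀ w ∈ HeM5.T.rels1, w.map σv ∈ RN0 := by decide +kernel

theorem upperM : Finite (L v 5) ∧ Nat.card (L v 5) ≤ 15120 := by
  have : Finite (L v 0) := by rw [L_zero]; infer_instance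
  have h0 : Nat.card (L v 0) = 1 := by rw [L_zero]; exact Subgroup.card_bot
  obtain ⟨f1, h1⟩ : Finite (L v 1) ∧ Nat.card (L v 1) ≤ HeM1.T.N * Nat.card (L v 0) :=
    tc_step_upper v HeM1.T 0 HeM1.checked hv (fun w hw => relV w (subM1 w hw))
  have := f1
  obtain ⟨f2, h2⟩ : Finite (L v 2) ∧ Nat.card (L v 2) ≤ HeM2.T.N * Nat.card (L v 1) :=
    tc_step_upper v HeM2.T 1 HeM2.checked hv (fun w hw => relV w (subM2 w hw))
  have := f2
  obtain ⟨f3, h3⟩ : Finite (L v 3) ∧ Nat.card (L v 3) ≤ HeM3.T.N * Nat.card (L v 2) :=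
    tc_step_upper v HeM3.T 2 HeM3.checked hv (fun w hw => relV w (subM3 w hw))
  have := f3
  obtain ⟨f4, h4⟩ : Finite (L v 4) ∧ Nat.card (L v 4) ≤ HeM4.T.N * Nat.card (L v 3) :=
    tc_step_upper v HeM4.T 3 HeM4.checked hv (fun w hw => relV w (subM4 w hw))
  have := f4
  obtain ⟨f5, h5⟩ : Finite (L v 5) ∧ Nat.card (L v 5) ≤ HeM5.T.N * Nat.card (L v 4) :=
    tc_step_upper v HeM5.T 4 HeM5.checked hv (fun w hw => relV w (subM5 w hw))
  have e1 : HeM1.T.N = 2 := rfl
  have e2 : HeM2.T.N = 4 := rfl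
  have e3 : HeM3.T.N = 6 := rfl
  have e4 : HeM4.T.N = 1 := rfl
  have e5 : HeM5.T.N = 315 := rfl
  rw [e1, h0] at h1
  rw [e2] at h2
  rw [e3] at h3
  rw [e4] at h4
  rw [e5] at h5
  exact ⟨f5, by omega⟩

theorem map_Lv : (L v 5).map φ = L s 5 := by
  unfold L
  rw [MonoidHom.map_closure]
  congr 1
  ext y
  simp only [Set.mem_image, Set.mem_Iio]
  constructor
  · rintro ⟨_, ⟨i, hi, rfl⟩, rfl⟩
    refine ⟨σv i, ?_, ?_⟩
    · interval_cases i <;> decide
    · have h7 : σv i < 7 := by interval_cases i <;> decide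
      exact (φ_gP (σv i) h7).symm
  · rintro ⟨i, hi, rfl⟩
    refine ⟨v (σv i), ⟨σv i, ?_, rfl⟩, ?_⟩
    · interval_cases i <;> decide
    · have h : σv (σv i) = i := by interval_cases i <;> rfl
      show φ (gP (σv (σv i))) = s i
      rw [h]
      exact φ_gP i (by omega)

/-- `φ` is injective on `⟨a, b, c, d, e⟩` -/
theorem φ_inj_Lv : ∀ x ∈ L v 5, φ x = 1 → x = 1 := by
  obtain ⟨hfin, hle⟩ := upperM
  have := hfin
  have hsurj : Function.Surjective (φ.subgroupMap (L v 5)) := φ.subgroupMap_surjective (L v 5)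
  have hcard : Nat.card (L v 5) ≤ Nat.card ((L v 5).map φ) := by
    rw [map_Lv]
    exact le_trans hle Cfsg.Agent.Lib.Helper19.HeG.lower5
  have hbij : Function.Bijective (φ.subgroupMap (L v 5)) := hsurj.bijective_of_nat_card_le hcard
  intro x hx hφ
  have h1 : φ.subgroupMap (L v 5) ⟨x, hx⟩ = φ.subgroupMap (L v 5) 1 := by
    apply Subtype.ext
    rw [map_one]
    exact hφ
  exact congrArg Subtype.val (hbij.1 h1)

/-- the relation `cdcdedcdcdedcde = 1` -/
theorem relZ : ew gP Cfsg.Agent.Lib.Helper19.HeG.zw = 1 := by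
  apply φ_inj_Lv
  · have e : ew gP Cfsg.Agent.Lib.Helper19.HeG.zw =
        ew v [2, 4, 2, 4, 3, 4, 2, 4, 2, 4, 3, 4, 2, 4, 3] :=
      (ew_comp σv [2, 4, 2, 4, 3, 4, 2, 4, 2, 4, 3, 4, 2, 4, 3]).symm
    rw [e]
    exact ew_mem_L v 5 _ (by decide)
  · rw [φ_ew _ (by decide)]
    exact Cfsg.Agent.Lib.Helper19.HeG.hzw

/-! ### The upper bound -/

/-- the relators used by the certificates -/
def RN : List (List ℕ) := Cfsg.Agent.Lib.Helper19.HeG.zw :: RN0

theorem relN : ∀ w ∈ RN, ew gP w = 1 := by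
  intro w hw
  rcases List.mem_cons.mp hw with rfl | h
  · exact relZ
  · exact relN0 w h

/-- the order c, f, g, e, d, a, b -/
def σu : ℕ → ℕ
  | 0 => 2
  | 1 => 5
  | 2 => 6
  | 3 => 4
  | 4 => 3
  | 5 => 0
  | _ => 1

/-- the generators in the order c, f, g, e, d, a, b -/
noncomputable def u (i : ℕ) : PresentedGroup R := gP (σu i)

theorem hu (i : ℕ) : u i * u i = 1 := hgP _

theorem relU (w : List ℕ) (h : w.map σu ∈ RN) : ew u w = 1 := by
  have e : ew u w = ew gP (w.map σu) := ew_comp σu w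
  rw [e]
  exact relN _ h

theorem subP1 : ∀ w ∈ HeP1.T.rels1, w.map σu ∈ RN := by decide +kernel
theorem subP2 : ∀ w ∈ HeP2.T.rels1, w.map σu ∈ RN := by decide +kernel
theorem subP3 : ∀ w ∈ HeP3.T.rels1, w.map σu ∈ RN := by decide +kernel
theorem subP4 : ∀ w ∈ HeP4.T.rels1, w.map σu ∈ RN := by decide +kernel
theorem subP5 : ∀ w ∈ HeP5.T.rels1, w.map σu ∈ RN := by decide +kernel
theorem subP6 : ∀ w ∈ HeP6.T.rels1, w.map σu ∈ RN := by decide +kernel
theorem subP7 : ∀ w ∈ HeP7.T.rels1, w.map σu ∈ RN := by decide +kernel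

theorem upperP : Finite (L u 7) ∧ Nat.card (L u 7) ≤ 4030387200 := by
  have : Finite (L u 0) := by rw [L_zero]; infer_instance
  have h0 : Nat.card (L u 0) = 1 := by rw [L_zero]; exact Subgroup.card_bot
  obtain ⟨f1, h1⟩ : Finite (L u 1) ∧ Nat.card (L u 1) ≤ HeP1.T.N * Nat.card (L u 0) :=
    tc_step_upper u HeP1.T 0 HeP1.checked hu (fun w hw => relU w (subP1 w hw))
  have := f1
  obtain ⟨f2, h2⟩ : Finite (L u 2) ∧ Nat.card (L u 2) ≤ HeP2.T.N * Nat.card (L u 1) :=
    tc_step_upper u HeP2.T 1 HeP2.checked hu (fun w hw => relU w (subP2 w hw))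
  have := f2
  obtain ⟨f3, h3⟩ : Finite (L u 3) ∧ Nat.card (L u 3) ≤ HeP3.T.N * Nat.card (L u 2) :=
    tc_step_upper u HeP3.T 2 HeP3.checked hu (fun w hw => relU w (subP3 w hw))
  have := f3
  obtain ⟨f4, h4⟩ : Finite (L u 4) ∧ Nat.card (L u 4) ≤ HeP4.T.N * Nat.card (L u 3) :=
    tc_step_upper u HeP4.T 3 HeP4.checked hu (fun w hw => relU w (subP4 w hw))
  have := f4
  obtain ⟨f5, h5⟩ : Finite (L u 5) ∧ Nat.card (L u 5) ≤ HeP5.T.N * Nat.card (L u 4) :=
    tc_step_upper u HeP5.T 4 HeP5.checked hu (fun w hw => relU w (subP5 w hw))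
  have := f5
  obtain ⟨f6, h6⟩ : Finite (L u 6) ∧ Nat.card (L u 6) ≤ HeP6.T.N * Nat.card (L u 5) :=
    tc_step_upper u HeP6.T 5 HeP6.checked hu (fun w hw => relU w (subP6 w hw))
  have := f6
  obtain ⟨f7, h7⟩ : Finite (L u 7) ∧ Nat.card (L u 7) ≤ HeP7.T.N * Nat.card (L u 6) :=
    tc_step_upper u HeP7.T 6 HeP7.checked hu (fun w hw => relU w (subP7 w hw))
  have e1 : HeP1.T.N = 2 := rfl
  have e2 : HeP2.T.N = 2 := rfl
  have e3 : HeP3.T.N = 4 := rfl
  have e4 : HeP4.T.N = 1 := rfl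
  have e5 : HeP5.T.N = 5040 := rfl
  have e6 : HeP6.T.N = 1 := rfl
  have e7 : HeP7.T.N = 49980 := rfl
  rw [e1, h0] at h1
  rw [e2] at h2
  rw [e3] at h3
  rw [e4] at h4
  rw [e5] at h5
  rw [e6] at h6
  rw [e7] at h7
  exact ⟨f7, by omega⟩

theorem Lu_top : L u 7 = ⊤ := by
  unfold L
  rw [← PresentedGroup.closure_range_of R]
  congr 1
  ext y
  constructor
  · rintro ⟨i, _, rfl⟩
    exact ⟨gn (σu i), rfl⟩
  · rintro ⟨x, rfl⟩
    cases x
    · exact ⟨5, by norm_num, rfl⟩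
    · exact ⟨6, by norm_num, rfl⟩
    · exact ⟨0, by norm_num, rfl⟩
    · exact ⟨4, by norm_num, rfl⟩
    · exact ⟨3, by norm_num, rfl⟩
    · exact ⟨1, by norm_num, rfl⟩
    · exact ⟨2, by norm_num, rfl⟩

theorem card_le : Finite (PresentedGroup R) ∧ Nat.card (PresentedGroup R) ≤ 4030387200 := by
  obtain ⟨f7, h7⟩ := upperP
  rw [Lu_top] at f7 h7
  have hfin : Finite (PresentedGroup R) :=
    Finite.of_equiv _ (Subgroup.topEquiv (G := PresentedGroup R)).toEquiv
  refine ⟨hfin, ?_⟩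
  rwa [Subgroup.card_top] at h7

/-- The presented Held group is simple of order `4030387200`. -/
theorem main : IsSimpleGroup (PresentedGroup R) ∧ Nat.card (PresentedGroup R) = 4030387200 := by
  obtain ⟨hfin, hle⟩ := card_le
  have := hfin
  have hsurj : Function.Surjective φ.rangeRestrict := φ.rangeRestrict_surjective
  have hlow : 4030387200 ≤ Nat.card φ.range := by
    rw [range_φ]
    exact Cfsg.Agent.Lib.Helper19.HeG.lower
  have hbij : Function.Bijective φ.rangeRestrict :=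
    hsurj.bijective_of_nat_card_le (le_trans hle hlow)
  let e : PresentedGroup R ≃* φ.range := MulEquiv.ofBijective φ.rangeRestrict hbij
  have hcard : Nat.card (PresentedGroup R) = 4030387200 := by
    have h1 : Nat.card (PresentedGroup R) = Nat.card φ.range := Nat.card_congr e.toEquiv
    omega
  let e' : PresentedGroup R ≃* L s 7 := e.trans (MulEquiv.subgroupCongr range_φ)
  have hG : Nat.card (L s 7) = 4030387200 := by
    rw [← Nat.card_congr e'.toEquiv]
    exact hcard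
  have := Cfsg.Agent.Lib.Helper19.HeG.simple hG
  exact ⟨e'.isSimpleGroup, hcard⟩

end Cfsg.Agent.Lib.Helper19.HePres
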