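import Cfsg.Agent.Lib.Helper19.BSGS

/-!
# Certificates for explicit permutation groups on `Fin n`: tables, orbits, primitivity, simplicity

* `mkPerm`: a permutation of `Fin n` from a table of images and the table of the inverse.
* `OrbCert`: orbit certificates.
* `NclCheck`: certificate that the normal closure of one generator is the whole group.
* `preprimitive_rank3`: primitivity from two suborbits whose sizes do not fit a block.
* `isSimpleGroup_of_primitive`: a primitive group `G` on `α` such that the full `p`-part of `|G|`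
  divides `|α|` and the normal closure of some element of order `p` is `G`, is simple.
-/

set_option autoImplicit false

namespace Cfsg.Agent.Lib.Helper19.BSGS

open Equiv MulAction
open scoped Pointwise

section tables

/-- function on `Fin n` given by a table of images -/
def tblFun (n : ℕ) (hn : 0 < n) (t : List ℕ) (x : Fin n) : Fin n :=
  ⟨t.getD x.val 0 % n, Nat.mod_lt _ hn⟩

/-- the two tables are mutually inverse -/
def TblInv (n : ℕ) (hn : 0 < n) (f g : List ℕ) : Prop :=
  ∀ x ∈ List.finRange n,
    tblFun n hn g (tblFun n hn f x) = x ∧ tblFun n hn f (tblFun n hn g x) = x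

instance (n : ℕ) (hn : 0 < n) (f g : List ℕ) : Decidable (TblInv n hn f g) := by
  unfold TblInv; infer_instance

/-- the permutation with table of images `f` and inverse table `g` -/
def mkPerm (n : ℕ) (hn : 0 < n) (f g : List ℕ) (h : TblInv n hn f g) : Perm (Fin n) where
  toFun := tblFun n hn f
  invFun := tblFun n hn g
  left_inv := fun x => (h x (List.mem_finRange x)).1
  right_inv := fun x => (h x (List.mem_finRange x)).2

end tables

section words

variable {n : ℕ} {gens : List (Perm (Fin n))}

/-- a signed letter: `(i, true)` is the `i`-th generator, `(i, false)` its inverse -/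
def letter (gens : List (Perm (Fin n))) (l : ℕ × Bool) : Perm (Fin n) :=
  if l.2 then gens.getD l.1 1 else (gens.getD l.1 1)⁻¹

/-- apply a signed word to a point (leftmost letter applied last) -/
def applys (gens : List (Perm (Fin n))) (w : List (ℕ × Bool)) (x : Fin n) : Fin n :=
  w.foldr (fun l y => letter gens l y) x

/-- the permutation given by a signed word -/
def evals (gens : List (Perm (Fin n))) (w : List (ℕ × Bool)) : Perm (Fin n) :=
  (w.map (letter gens)).prod

theorem evals_apply (w : List (ℕ × Bool)) (x : Fin n) :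
    evals gens w x = applys gens w x := by
  induction w with
  | nil => simp [evals, applys]
  | cons l w ih =>
    simp only [evals, applys, List.map_cons, List.prod_cons, Perm.mul_apply, List.foldr_cons]
      at ih ⊢
    rw [ih]

theorem evals_append (w w' : List (ℕ × Bool)) :
    evals gens (w ++ w') = evals gens w * evals gens w' := by
  simp [evals]

/-- the inverse word -/
def invw (w : List (ℕ × Bool)) : List (ℕ × Bool) := w.reverse.map fun l => (l.1, !l.2)

theorem letter_not (l : ℕ × Bool) : letter gens (l.1, !l.2) = (letter gens l)⁻¹ := by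
  rcases l with ⟨i, _ | _⟩ <;> simp [letter]

theorem evals_invw (w : List (ℕ × Bool)) : evals gens (invw w) = (evals gens w)⁻¹ := by
  induction w with
  | nil => simp [evals, invw]
  | cons l w ih =>
    have h1 : invw (l :: w) = invw w ++ [(l.1, !l.2)] := by simp [invw]
    have h2 : evals gens (l :: w) = letter gens l * evals gens w := by simp [evals]
    have h3 : evals gens [(l.1, !l.2)] = (letter gens l)⁻¹ := by
      simp [evals, letter_not]
    rw [h1, evals_append, ih, h2, h3, mul_inv_rev]

theorem letter_mem (k : ℕ) (l : ℕ × Bool) (hl : l.1 < k) :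
    letter gens l ∈ Subgroup.closure (gset gens k) := by
  have : gens.getD l.1 1 ∈ Subgroup.closure (gset gens k) :=
    Subgroup.subset_closure ⟨l.1, hl, rfl⟩
  unfold letter
  split_ifs
  · exact this
  · exact inv_mem this

theorem evals_mem (k : ℕ) (w : List (ℕ × Bool)) (hw : ∀ l ∈ w, l.1 < k) :
    evals gens w ∈ Subgroup.closure (gset gens k) := by
  unfold evals
  apply Subgroup.list_prod_mem
  intro x hx
  rw [List.mem_map] at hx
  obtain ⟨l, hl, rfl⟩ := hx
  exact letter_mem k l (hw l hl)

/-- the word `∏ w * x * w⁻¹` over the conjugating words `ws`, where `x` is generator `xi` -/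
def conjWord (xi : ℕ) (ws : List (List (ℕ × Bool))) : List (ℕ × Bool) :=
  ws.flatMap fun w => w ++ (xi, true) :: invw w

theorem evals_conjWord_mem (M : Subgroup (Perm (Fin n))) (k xi : ℕ)
    (hM : ∀ g ∈ Subgroup.closure (gset gens k), ∀ y ∈ M, g * y * g⁻¹ ∈ M)
    (hx : gens.getD xi 1 ∈ M) (ws : List (List (ℕ × Bool)))
    (hws : ∀ w ∈ ws, ∀ l ∈ w, l.1 < k) : evals gens (conjWord xi ws) ∈ M := by
  induction ws with
  | nil => simp [conjWord, evals]
  | cons w ws ih =>
    have h1 : conjWord xi (w :: ws) = (w ++ (xi, true) :: invw w) ++ conjWord xi ws := by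
      simp [conjWord]
    rw [h1, evals_append]
    refine M.mul_mem ?_ (ih (fun w' hw' => hws w' (List.mem_cons_of_mem _ hw')))
    have h2 : evals gens (w ++ (xi, true) :: invw w) =
        evals gens w * gens.getD xi 1 * (evals gens w)⁻¹ := by
      have h3 : (xi, true) :: invw w = [(xi, true)] ++ invw w := rfl
      rw [h3, evals_append, evals_append, evals_invw]
      simp [evals, letter, mul_assoc]
    rw [h2]
    exact hM _ (evals_mem k w (hws w List.mem_cons_self)) _ hx

/-- the normal-closure certificate for one generator -/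
def NclGen (gens : List (Perm (Fin n))) (k xi : ℕ) (ws : List (List (ℕ × Bool))) (j : ℕ) :
    Prop :=
  (∀ w ∈ ws, ∀ l ∈ w, l.1 < k) ∧
    ∀ pt ∈ List.finRange n, applys gens (conjWord xi ws) pt = gens.getD j 1 pt

instance (gens : List (Perm (Fin n))) (k xi : ℕ) (ws : List (List (ℕ × Bool))) (j : ℕ) :
    Decidable (NclGen gens k xi ws j) := by
  unfold NclGen; infer_instance

/-- certificate: each of the first `k` generators is a product of conjugates of generator `xi` -/
def NclCheck (gens : List (Perm (Fin n))) (k xi : ℕ) (ncl : List (List (List (ℕ × Bool)))) :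
    Prop :=
  ∀ j, j < k → NclGen gens k xi (ncl.getD j []) j

instance (gens : List (Perm (Fin n))) (k xi : ℕ) (ncl : List (List (List (ℕ × Bool)))) :
    Decidable (NclCheck gens k xi ncl) := by
  unfold NclCheck; infer_instance

theorem ncl_le {k xi : ℕ} {ncl : List (List (List (ℕ × Bool)))}
    (h : NclCheck gens k xi ncl) (M : Subgroup (Perm (Fin n)))
    (hM : ∀ g ∈ Subgroup.closure (gset gens k), ∀ y ∈ M, g * y * g⁻¹ ∈ M)
    (hx : gens.getD xi 1 ∈ M) : Subgroup.closure (gset gens k) ≤ M := by
  rw [Subgroup.closure_le]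
  rintro g ⟨j, hj, rfl⟩
  obtain ⟨h1, h2⟩ := h j hj
  have : gens.getD j 1 = evals gens (conjWord xi (ncl.getD j [])) := by
    ext pt
    rw [evals_apply, h2 pt (List.mem_finRange pt)]
  rw [SetLike.mem_coe, this]
  exact evals_conjWord_mem M k xi hM hx _ h1

end words

section orbits

variable {n : ℕ} {gens : List (Perm (Fin n))}

/-- an orbit certificate: every point of `O` is the image of `r` under a word in the first `k`
generators -/
structure OrbCert (n : ℕ) where
  k : ℕ
  r : Fin n
  O : List (Fin n)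
  tree : List (List ℕ)

/-- the word for the point `c` -/
def OrbCert.tr (C : OrbCert n) (c : Fin n) : List ℕ := C.tree.getD c.val []

/-- the decidable check of an orbit certificate -/
def OrbCert.Check (gens : List (Perm (Fin n))) (C : OrbCert n) : Prop :=
  ∀ c ∈ C.O, (∀ i ∈ C.tr c, i < C.k) ∧ applyw gens (C.tr c) C.r = c

instance (gens : List (Perm (Fin n))) (C : OrbCert n) : Decidable (C.Check gens) := by
  unfold OrbCert.Check; infer_instance

theorem OrbCert.trans {C : OrbCert n} (h : C.Check gens) :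
    ∀ y ∈ C.O, ∀ z ∈ C.O, ∃ g ∈ Subgroup.closure (gset gens C.k), g y = z := by
  intro y hy z hz
  obtain ⟨hy1, hy2⟩ := h y hy
  obtain ⟨hz1, hz2⟩ := h z hz
  refine ⟨evalw gens (C.tr z) * (evalw gens (C.tr y))⁻¹,
    mul_mem (evalw_mem gens C.k _ hz1) (inv_mem (evalw_mem gens C.k _ hy1)), ?_⟩
  rw [Perm.mul_apply]
  have : (evalw gens (C.tr y))⁻¹ y = C.r := by
    rw [Perm.inv_eq_iff_eq, evalw_apply, hy2]
  rw [this, evalw_apply, hz2]

theorem Level.trans2 {L : Level n} (h : L.Check gens) :
    ∀ y ∈ L.O, ∀ z ∈ L.O, ∃ g ∈ Subgroup.closure (gset gens L.k), g y = z := by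
  intro y hy z hz
  obtain ⟨g1, hg1, hg1y⟩ := Level.trans h y hy
  obtain ⟨g2, hg2, hg2z⟩ := Level.trans h z hz
  refine ⟨g2⁻¹ * g1, mul_mem (inv_mem hg2) hg1, ?_⟩
  rw [Perm.mul_apply, hg1y, Perm.inv_eq_iff_eq, hg2z]

end orbits

section primitive

/-- Primitivity of a transitive group of rank (at most) 3: the point stabiliser is transitive
on `O1` and on `O2`, and neither `1 + |O1|` nor `1 + |O2|` divides the degree. -/
theorem preprimitive_rank3 {n : ℕ} (G : Subgroup (Perm (Fin n))) (b : Fin n)
    (O1 O2 : List (Fin n))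
    (hcover : ∀ y : Fin n, y = b ∨ y ∈ O1 ∨ y ∈ O2)
    (hb1 : b ∉ O1) (hb2 : b ∉ O2) (hnd1 : O1.Nodup) (hnd2 : O2.Nodup)
    (htr : ∀ y, ∃ g ∈ G, g b = y)
    (h1 : ∀ y ∈ O1, ∀ z ∈ O1, ∃ h ∈ G, h b = b ∧ h y = z)
    (h2 : ∀ y ∈ O2, ∀ z ∈ O2, ∃ h ∈ G, h b = b ∧ h y = z)
    (hd1 : ¬ (O1.length + 1) ∣ n) (hd2 : ¬ (O2.length + 1) ∣ n) :
    IsPreprimitive G (Fin n) := by
  have : IsPretransitive G (Fin n) := by
    refine ⟨fun x y => ?_⟩
    obtain ⟨g1, hg1, hg1x⟩ := htr x
    obtain ⟨g2, hg2, hg2y⟩ := htr y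
    refine ⟨⟨g2 * g1⁻¹, mul_mem hg2 (inv_mem hg1)⟩, ?_⟩
    show (g2 * g1⁻¹) x = y
    rw [Perm.mul_apply, ← hg1x, ← hg2y]
    congr 1
    rw [Perm.inv_eq_iff_eq]
  apply IsPreprimitive.of_isTrivialBlock_base b
  intro B hbB hB
  have key : ∀ (O : List (Fin n)), (∀ y ∈ O, ∀ z ∈ O, ∃ h ∈ G, h b = b ∧ h y = z) →
      ∀ y ∈ O, y ∈ B → ∀ z ∈ O, z ∈ B := by
    intro O hO y hy hyB z hz
    obtain ⟨h, hh, hhb, hhy⟩ := hO y hy z hz
    have hsm : (⟨h, hh⟩ : G) • B = B := by
      apply hB.smul_eq_of_mem hbB
      show h b ∈ B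
      rw [hhb]; exact hbB
    rw [← hsm]
    exact ⟨y, hyB, hhy⟩
  have hcard : ∀ (O : List (Fin n)), O.Nodup → b ∉ O →
      B = insert b (O.toFinset : Set (Fin n)) → (O.length + 1) ∣ n := by
    intro O hnd hbO hBeq
    have h := hB.ncard_dvd_card ⟨b, hbB⟩
    rw [hBeq, Set.ncard_insert_of_notMem (by simpa using hbO), Set.ncard_coe_finset,
      List.toFinset_card_of_nodup hnd, Nat.card_eq_fintype_card, Fintype.card_fin] at h
    exact h
  by_cases c1 : ∃ y ∈ O1, y ∈ B <;> by_cases c2 : ∃ y ∈ O2, y ∈ B
  · right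
    ext y
    simp only [Set.mem_univ, iff_true]
    obtain ⟨y1, hy1, hy1B⟩ := c1
    obtain ⟨y2, hy2, hy2B⟩ := c2
    rcases hcover y with rfl | hy | hy
    · exact hbB
    · exact key O1 h1 y1 hy1 hy1B y hy
    · exact key O2 h2 y2 hy2 hy2B y hy
  · exfalso
    apply hd1
    apply hcard O1 hnd1 hb1
    obtain ⟨y1, hy1, hy1B⟩ := c1
    ext y
    simp only [Set.mem_insert_iff, Finset.mem_coe, List.mem_toFinset]
    constructor
    · intro hy
      rcases hcover y with rfl | hy' | hy'
      · exact Or.inl rfl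
      · exact Or.inr hy'
      · exact absurd ⟨y, hy', hy⟩ c2
    · rintro (rfl | hy)
      · exact hbB
      · exact key O1 h1 y1 hy1 hy1B y hy
  · exfalso
    apply hd2
    apply hcard O2 hnd2 hb2
    obtain ⟨y2, hy2, hy2B⟩ := c2
    ext y
    simp only [Set.mem_insert_iff, Finset.mem_coe, List.mem_toFinset]
    constructor
    · intro hy
      rcases hcover y with rfl | hy' | hy'
      · exact Or.inl rfl
      · exact absurd ⟨y, hy', hy⟩ c1
      · exact Or.inr hy'
    · rintro (rfl | hy)
      · exact hbB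
      · exact key O2 h2 y2 hy2 hy2B y hy
  · left
    have hsub : ∀ y ∈ B, y = b := by
      intro y hy
      rcases hcover y with rfl | hy' | hy'
      · rfl
      · exact absurd ⟨y, hy', hy⟩ c1
      · exact absurd ⟨y, hy', hy⟩ c2
    intro y hy z hz
    rw [hsub y hy, hsub z hz]

end primitive

section simple

variable {α : Type*} [Finite α]

omit [Finite α] in
/-- In a primitive permutation group, the degree divides the order of every nontrivial normal
subgroup. -/
theorem card_dvd_of_normal (G : Subgroup (Perm α)) [IsPreprimitive G α] (N : Subgroup G)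
    [N.Normal] (hN : N ≠ ⊥) : Nat.card α ∣ Nat.card N := by
  obtain ⟨m, hm1⟩ := (Subgroup.ne_bot_iff_exists_ne_one).mp hN
  have hne : (m.1.1 : Perm α) ≠ 1 := by
    intro h
    apply hm1
    apply Subtype.ext
    apply Subtype.ext
    exact h
  obtain ⟨a, ha⟩ : ∃ a, (m.1.1 : Perm α) a ≠ a := by
    by_contra hcon
    push Not at hcon
    exact hne (Equiv.ext hcon)
  have hfix : fixedPoints N α ≠ Set.univ := by
    intro h
    have : a ∈ fixedPoints N α := by rw [h]; trivial
    exact ha (this m)
  have : IsPretransitive N α := IsQuasiPreprimitive.isPretransitive_of_normal hfix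
  have h1 := MulAction.index_stabilizer N a
  have h2 : orbit N a = Set.univ := MulAction.orbit_eq_univ N a
  rw [h2, Set.ncard_univ] at h1
  rw [← h1]
  exact Subgroup.index_dvd_card _

/-- An element of order dividing the prime `p` lies in every normal subgroup of index prime
to `p`. -/
theorem mem_of_pow_eq_one {G : Type*} [Group G] [Finite G] (N : Subgroup G) [N.Normal] (p : ℕ)
    (hp : p.Prime) (hN : ¬ p ∣ N.index) (x : G) (hx : x ^ p = 1) : x ∈ N := by
  rw [← QuotientGroup.eq_one_iff (N := N)]
  have h1 : orderOf (QuotientGroup.mk x : G ⧸ N) ∣ p :=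
    orderOf_dvd_of_pow_eq_one (by rw [← QuotientGroup.mk_pow, hx]; rfl)
  have h2 : orderOf (QuotientGroup.mk x : G ⧸ N) ∣ N.index := by
    rw [Subgroup.index_eq_card]; exact orderOf_dvd_natCard _
  rcases (Nat.dvd_prime hp).mp h1 with h | h
  · exact orderOf_eq_one_iff.mp h
  · exact absurd (h ▸ h2) hN

/-- A primitive permutation group `G` on `α` such that the full `p`-part of `|G|` divides `|α|`
and the normal closure of some element of order `p` is `G`, is simple. -/
theorem isSimpleGroup_of_primitive (G : Subgroup (Perm α)) [IsPreprimitive G α]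
    (p a : ℕ) (hp : p.Prime) (hα : p ^ a ∣ Nat.card α) (hG : ¬ p ^ (a + 1) ∣ Nat.card G)
    (x : G) (hx : x ^ p = 1) (hncl : ∀ N : Subgroup G, N.Normal → x ∈ N → N = ⊤)
    (hnt : Nontrivial G) : IsSimpleGroup G := by
  refine { exists_pair_ne := hnt.exists_pair_ne, eq_bot_or_eq_top_of_normal := ?_ }
  intro N hN
  by_cases hbot : N = ⊥
  · exact Or.inl hbot
  · right
    apply hncl N hN
    apply mem_of_pow_eq_one N p hp _ x hx
    intro hdvd
    apply hG
    have h1 : p ^ a ∣ Nat.card N := dvd_trans hα (card_dvd_of_normal G N hbot)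
    have h2 := Subgroup.card_mul_index N
    rw [← h2, pow_succ]
    exact mul_dvd_mul h1 hdvd

/-- Simplicity certificate for a group generated by the first `k` generators of a list. -/
theorem isSimpleGroup_of_cert {n : ℕ} {gens : List (Perm (Fin n))} {k xi : ℕ}
    {ncl : List (List (List (ℕ × Bool)))}
    [IsPreprimitive (Subgroup.closure (gset gens k)) (Fin n)]
    (p a : ℕ) (hp : p.Prime) (hα : p ^ a ∣ n)
    (hG : ¬ p ^ (a + 1) ∣ Nat.card (Subgroup.closure (gset gens k)))
    (hxi : xi < k) (hx : ∀ pt ∈ List.finRange n, applyw gens (List.replicate p xi) pt = pt)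
    (hncl : NclCheck gens k xi ncl)
    (hnt : ∃ j, j < k ∧ gens.getD j 1 ≠ 1) :
    IsSimpleGroup (Subgroup.closure (gset gens k)) := by
  set G := Subgroup.closure (gset gens k) with hGdef
  have hxG : gens.getD xi 1 ∈ G := Subgroup.subset_closure ⟨xi, hxi, rfl⟩
  apply isSimpleGroup_of_primitive G p a hp (by simpa using hα) hG ⟨gens.getD xi 1, hxG⟩
  · apply Subtype.ext
    rw [Subgroup.coe_pow, Subgroup.coe_one]
    ext pt
    have h := hx pt (List.mem_finRange pt)
    rw [← evalw_apply] at h
    have h2 : evalw gens (List.replicate p xi) = gens.getD xi 1 ^ p := by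
      simp [evalw]
    rw [h2] at h
    rw [h]; rfl
  · intro N hN hxN
    have hle : G ≤ N.map G.subtype := by
      apply ncl_le hncl
      · intro g hg y hy
        obtain ⟨m, hm, rfl⟩ := Subgroup.mem_map.mp hy
        exact Subgroup.mem_map.mpr ⟨⟨g, hg⟩ * m * ⟨g, hg⟩⁻¹, hN.conj_mem m hm ⟨g, hg⟩, rfl⟩
      · exact Subgroup.mem_map.mpr ⟨_, hxN, rfl⟩
    rw [eq_top_iff]
    intro g _
    obtain ⟨m, hm, hmg⟩ := Subgroup.mem_map.mp (hle g.2)
    have : m = g := Subtype.ext hmg
    rwa [← this]
  · obtain ⟨j, hj, hj1⟩ := hnt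
    refine ⟨⟨⟨gens.getD j 1, Subgroup.subset_closure ⟨j, hj, rfl⟩⟩, 1, ?_⟩⟩
    intro h
    exact hj1 (congrArg Subtype.val h)

end simple

end Cfsg.Agent.Lib.Helper19.BSGS
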