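import Cfsg.Agent.Lib.Helper19.J1B.Cert
import Cfsg.Agent.Lib.Helper56.TCPerm
import Cfsg.Agent.Lib.Helper19.PModel

/-!
# Orbit certificates of a stabiliser chain (base [0, 1, 2]) for the table `J1B.T`
-/

set_option autoImplicit false
set_option maxRecDepth 1000000

namespace Cfsg.Agent.Lib.Helper19.J1M

open Cfsg.Agent.Lib.Helper56.TC Cfsg.Agent.Lib.Helper56.TC.Tabs
open Cfsg.Agent.Lib.Helper19.PM (posIn)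
open Cfsg.Agent.Lib.Helper19.J1B (T)

/-- generator words of level 0 (fixing the earlier base points) -/
def w0 : List (List ℕ) :=
  [[0],
   [1],
   [2]]

def O0 : List ℕ :=
  [0, 1, 2, 3, 4, 5, 6, 7, 8, 9, 10, 11, 12, 13, 14, 15, 16, 17, 18, 19, 20, 21, 22, 23, 24, 25, 26, 27, 28, 29, 30, 31, 32, 33, 34, 35, 36, 37, 38, 39, 40, 41, 42, 43, 44, 45, 46, 47, 48, 49, 50, 51, 52, 53, 54, 55, 56, 57, 58, 59, 60, 61, 62, 63, 64, 65, 66, 67, 68, 69, 70, 71, 72, 73, 74, 75, 76, 77, 78, 79, 80, 81, 82, 83, 84, 85, 86, 87, 88, 89, 90, 91, 92, 93, 94, 95, 96, 97, 98, 99, 100, 101, 102, 103, 104, 105, 106, 107, 108, 109, 110, 111, 112, 113, 114, 115, 116, 117, 118, 119, 120, 121, 122, 123, 124, 125, 126, 127, 128, 129, 130, 131, 132, 133, 134, 135, 136, 137, 138, 139, 140, 141, 142, 143, 144, 145, 146, 147, 148,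 149, 150, 151, 152, 153, 154, 155, 156, 157, 158, 159, 160, 161, 162, 163, 164, 165, 166, 167, 168, 169, 170, 171, 172, 173, 174, 175, 176, 177, 178, 179, 180, 181, 182, 183, 184, 185, 186, 187, 188, 189, 190, 191, 192, 193, 194, 195, 196, 197, 198, 199, 200, 201, 202, 203, 204, 205, 206, 207, 208, 209, 210, 211, 212, 213, 214, 215, 216, 217, 218, 219, 220, 221, 222, 223, 224, 225, 226, 227, 228, 229, 230, 231, 232, 233, 234, 235, 236, 237, 238, 239, 240, 241, 242, 243, 244, 245, 246, 247, 248, 249, 250, 251, 252, 253, 254, 255, 256, 257, 258, 259, 260, 261, 262, 263, 264, 265]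

def P0 : List ℕ :=
  [0, 0, 0, 1, 2, 3, 3, 4, 4, 5, 6, 7, 8, 9, 9, 10, 10, 11, 11, 12, 12, 13, 14, 15, 16, 17, 18, 19, 20, 21, 22, 22, 24, 24, 25, 25, 27, 27, 29, 30, 37, 38, 38, 39, 39, 40, 40, 41, 42, 43, 44, 45, 46, 47, 47, 48, 48, 49, 49, 50, 52, 52, 54, 55, 58, 59, 60, 62, 62, 63, 63, 64, 64, 65, 65, 66, 66, 67, 68, 69, 70, 71, 72, 73, 74, 75, 76, 77, 77, 78, 78, 79, 79, 80, 80, 81, 81, 82, 82, 83, 83, 84, 84, 85, 85, 86, 86, 87, 88, 89, 92, 93, 94, 95, 96, 97, 100, 101, 104, 105, 106, 107, 108, 108, 109, 109, 110, 110, 111, 111, 112, 114, 114, 115, 115, 116, 116, 117, 117, 118, 118, 119, 119, 121, 122, 123, 124, 125, 126, 127, 128, 129, 130, 131, 132, 133, 134, 135, 136, 137, 138, 139, 140, 141, 142, 143, 143, 144, 144, 145, 147, 147, 148, 148, 149, 151, 151, 152, 152, 153, 153, 154, 154, 155,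 155, 156, 156, 157, 157, 158, 158, 159, 159, 160, 160, 161, 161, 162, 162, 163, 163, 164, 164, 165, 167, 168, 170, 171, 172, 173, 175, 176, 178, 179, 180, 181, 184, 186, 187, 189, 192, 194, 195, 197, 200, 201, 202, 203, 205, 206, 206, 207, 209, 209, 210, 211, 213, 213, 215, 215, 216, 217, 219, 219, 220, 220, 221, 224, 224, 226, 226, 237, 241, 242, 243, 244, 245, 246, 249, 252, 254, 256, 259, 260, 261, 262]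

def G0 : List ℕ :=
  [0, 1, 2, 0, 0, 1, 2, 1, 2, 0, 0, 0, 0, 1, 2, 1, 2, 1, 2, 1, 2, 0, 0, 0, 0, 0, 0, 0, 0, 2, 1, 2, 1, 2, 1, 2, 1, 2, 0, 0, 0, 1, 2, 1, 2, 1, 2, 0, 0, 0, 0, 0, 0, 1, 2, 1, 2, 1, 2, 1, 1, 2, 0, 0, 0, 0, 0, 1, 2, 1, 2, 1, 2, 1, 2, 1, 2, 0, 0, 0, 0, 0, 0, 0, 0, 0, 0, 1, 2, 1, 2, 1, 2, 1, 2, 1, 2, 1, 2, 1, 2, 1, 2, 1, 2, 1, 2, 0, 0, 0, 0, 0, 0, 0, 0, 0, 0, 0, 0, 0, 0, 2, 1, 2, 1, 2, 1, 2, 1, 2, 1, 1, 2, 1, 2, 1, 2, 1, 2, 1, 2, 1, 2, 0, 0, 0, 0, 0, 0, 0, 0, 0, 0, 0, 0, 0, 0, 0, 0, 0, 0, 0, 0, 0, 0, 1, 2, 1, 2, 2, 1, 2, 1, 2, 2, 1, 2, 1, 2, 1, 2, 1, 2, 1, 2, 1, 2, 1, 2, 1, 2, 1, 2, 1, 2, 1, 2, 1, 2, 1, 2, 1, 2, 0, 0, 0, 0, 0, 0, 0, 0, 0, 0, 0, 0, 0, 0, 0, 0, 0, 0, 0, 0, 0, 0, 0, 0, 1, 2, 1, 2, 1, 1, 2, 1, 1, 1, 2, 1, 2, 1, 1, 1, 2, 1, 2, 1, 1, 2, 1, 2, 0, 0, 0, 0, 0, 0, 0, 0, 1, 2, 1, 0,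 0, 0, 2]

/-- the orbit certificate of level 0 -/
noncomputable def R0 : Orb where
  m := 266
  ng := 3
  gw := nthL w0
  par := Tabs.nth 0 P0
  gen := Tabs.nth 0 G0
  O := Tabs.nth 0 O0
  Inv := posIn O0

theorem R0_ok : allLt (fun c => chkOrb T R0 0 c) 266 = true := by decide +kernel

theorem R0_hg : ∀ j < R0.ng, (∀ a ∈ R0.gw j, a < T.K) ∧
    ∀ b ∈ ([] : List ℕ), b < T.N ∧ T.followT (R0.gw j) b = b := by decide +kernel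

/-- generator words of level 1 (fixing the earlier base points) -/
def w1 : List (List ℕ) :=
  [[2, 0, 1, 0, 2, 0, 2, 0, 1, 0, 2, 0, 1],
   [1, 0, 2, 0, 1, 0, 2, 0, 2, 0, 1, 0, 2]]

def O1 : List ℕ :=
  [1, 76, 43, 15, 117, 56, 3, 26, 217, 242, 142, 94, 61, 58, 30, 262, 127, 230, 223, 96, 208, 10, 122, 44, 259, 183, 168, 98, 121, 228, 151, 153, 86, 256, 101, 164, 50, 6, 175, 85, 51, 107, 45, 103, 186, 75, 227, 93, 184, 128, 129, 143, 258, 99, 123, 69, 105, 199, 261, 149, 124, 64, 255, 145, 37, 146, 210, 249, 171, 40, 111, 182, 100, 60, 247, 229, 68, 205, 251, 57, 254, 264, 239, 131, 172, 243, 49, 119, 23, 7, 233, 237, 79, 66, 112, 11, 52, 195, 81, 253, 4, 102, 222, 82, 152, 53, 236, 235, 250, 18, 72, 114, 198, 150, 130, 207, 46, 116, 244, 39, 216, 234, 78, 71, 88, 108, 232, 2, 245, 197, 87, 144]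

def P1 : List ℕ :=
  [0, 0, 0, 1, 1, 2, 2, 3, 4, 4, 5, 5, 6, 7, 7, 8, 10, 11, 11, 12, 12, 13, 13, 14, 15, 15, 16, 16, 17, 17, 18, 19, 20, 20, 21, 22, 22, 23, 23, 24, 24, 25, 26, 26, 28, 29, 29, 30, 30, 31, 31, 32, 32, 33, 34, 34, 35, 35, 36, 38, 38, 39, 40, 41, 42, 43, 44, 45, 46, 48, 48, 49, 49, 50, 51, 52, 52, 54, 55, 56, 58, 58, 59, 60, 61, 61, 63, 63, 64, 64, 65, 66, 68, 68, 71, 72, 75, 77, 78, 79, 79, 80, 81, 81, 82, 83, 84, 84, 87, 88, 89, 94, 94, 96, 97, 98, 100, 102, 103, 104, 105, 107, 107, 109, 110, 113, 114, 116, 117, 119, 120, 124]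

def G1 : List ℕ :=
  [0, 0, 1, 0, 1, 0, 1, 1, 0, 1, 0, 1, 0, 0, 1, 1, 1, 0, 1, 0, 1, 0, 1, 0, 0, 1, 0, 1, 0, 1, 0, 1, 0, 1, 1, 0, 1, 0, 1, 0, 1, 0, 0, 1, 1, 0, 1, 0, 1, 0, 1, 0, 1, 0, 0, 1, 0, 1, 0, 0, 1, 1, 1, 1, 1, 1, 0, 0, 0, 0, 1, 0, 1, 0, 1, 0, 1, 0, 0, 1, 0, 1, 1, 0, 0, 1, 0, 1, 0, 1, 0, 0, 0, 1, 1, 0, 0, 1, 0, 0, 1, 1, 0, 1, 0, 1, 0, 1, 0, 0, 0, 0, 1, 1, 0, 1, 0, 1, 0, 0, 0, 0, 1, 1, 0, 1, 1, 0, 1, 1, 0, 1]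

/-- the orbit certificate of level 1 -/
noncomputable def R1 : Orb where
  m := 132
  ng := 2
  gw := nthL w1
  par := Tabs.nth 0 P1
  gen := Tabs.nth 0 G1
  O := Tabs.nth 0 O1
  Inv := posIn O1

theorem R1_ok : allLt (fun c => chkOrb T R1 1 c) 132 = true := by decide +kernel

theorem R1_hg : ∀ j < R1.ng, (∀ a ∈ R1.gw j, a < T.K) ∧
    ∀ b ∈ ([0] : List ℕ), b < T.N ∧ T.followT (R1.gw j) b = b := by decide +kernel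

/-- generator words of level 2 (fixing the earlier base points) -/
def w2 : List (List ℕ) :=
  [[1, 0, 2, 0, 1, 0, 1, 0, 2, 0, 1, 0, 2, 2, 0, 1, 0, 2, 0, 1, 0, 1, 0, 2, 0, 1, 1, 0, 2, 0, 1, 0, 1, 0, 2, 0, 1, 0, 2, 2, 0, 1, 0, 2, 0, 1, 1, 0, 1, 0, 2, 0, 1, 1, 0, 2, 0, 1, 0, 2, 0, 2, 0, 1, 0, 2, 2, 0, 1, 0, 2, 0, 2, 0, 1, 0, 2, 0, 1, 1, 0, 2, 0, 1, 0, 2, 2, 0, 2, 0, 1, 0, 2, 2, 0, 1, 0, 2, 0, 2, 0, 1, 0, 2, 0, 1, 1, 0, 2, 0, 1, 0, 2, 2, 0, 2, 0, 1, 0, 2],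
   [1, 0, 2, 0, 1, 0, 1, 1, 0, 2, 0, 1, 0, 2, 2, 0, 1, 0, 2, 0, 1, 0, 1, 0, 2, 0, 1, 1, 0, 2, 0, 1, 0, 1, 0, 2, 0, 1, 0, 2, 2, 0, 1, 0, 2, 0, 1, 1, 0, 1, 0, 2, 0, 1, 1, 0, 2, 0, 1, 0, 1, 0, 2, 0, 1, 0, 2, 2, 0, 1, 0, 2, 0, 2, 2, 0, 1, 0, 2, 0, 1, 1, 0, 2, 0, 1, 0, 2, 2, 0, 2, 0, 1, 0, 2, 2, 0, 1, 0, 2, 0, 2, 0, 1, 0, 2, 0, 1, 1, 0, 2, 0, 1, 0, 2, 0, 2, 0, 1, 0, 2, 2, 0, 1, 0, 2, 0, 2, 2, 0, 1, 0, 2, 0, 1, 1, 0, 2, 0, 1, 0, 2, 0, 2, 0, 1, 0, 2]]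

def O2 : List ℕ :=
  [2, 81, 130, 107, 105]

def P2 : List ℕ :=
  [0, 0, 1, 2, 3]

def G2 : List ℕ :=
  [0, 0, 0, 0, 0]

/-- the orbit certificate of level 2 -/
noncomputable def R2 : Orb where
  m := 5
  ng := 2
  gw := nthL w2
  par := Tabs.nth 0 P2
  gen := Tabs.nth 0 G2
  O := Tabs.nth 0 O2
  Inv := posIn O2

theorem R2_ok : allLt (fun c => chkOrb T R2 2 c) 5 = true := by decide +kernel

theorem R2_hg : ∀ j < R2.ng, (∀ a ∈ R2.gw j, a < T.K) ∧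
    ∀ b ∈ ([1, 0] : List ℕ), b < T.N ∧ T.followT (R2.gw j) b = b := by decide +kernel

end Cfsg.Agent.Lib.Helper19.J1M
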