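import Cfsg.Agent.Lib.Helper19.PermCert

/-!
# The Hall–Janko group on 100 points: explicit generators and certificates
-/

set_option autoImplicit false

namespace Cfsg.Agent.Lib.Helper19.J2

open Equiv Cfsg.Agent.Lib.Helper19.BSGS

/-- generator `g0` -/
def g0 : Perm (Fin 100) :=
  mkPerm 100 (by norm_num)
    [0, 1, 2, 27, 70, 30, 91, 29, 11, 17, 18, 19, 32, 69, 68, 67, 73, 34, 35, 8, 20, 21, 22, 74, 15, 57, 13, 31, 33, 72, 66, 3, 98, 36, 9, 10, 28, 90, 75, 84, 40, 99, 86, 85, 41, 54, 43, 55, 42, 16, 50, 51, 83, 82, 97, 96, 95, 71, 4, 56, 88, 93, 60, 61, 78, 6, 5, 24, 89, 26, 58, 25, 7, 49, 76, 77, 23, 38, 94, 53, 52, 81, 79, 80, 87, 46, 48, 39, 62, 14, 92, 65, 37, 63, 64, 59, 47, 45, 12, 44]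
    [0, 1, 2, 31, 58, 66, 65, 72, 19, 34, 35, 8, 98, 26, 89, 24, 49, 9, 10, 11, 20, 21, 22, 76, 67, 71, 69, 3, 36, 7, 5, 27, 12, 28, 17, 18, 33, 92, 77, 87, 40, 44, 48, 46, 99, 97, 85, 96, 86, 73, 50, 51, 80, 79, 45, 47, 59, 25, 70, 95, 62, 63, 88, 93, 94, 91, 30, 15, 14, 13, 4, 57, 29, 16, 23, 38, 74, 75, 64, 82, 83, 81, 53, 52, 39, 43, 42, 84, 60, 68, 37, 6, 90, 61, 78, 56, 55, 54, 32, 41]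
    (by decide +kernel)

/-- generator `g1` -/
def g1 : Perm (Fin 100) :=
  mkPerm 100 (by norm_num)
    [0, 1, 45, 23, 61, 54, 12, 25, 79, 52, 86, 26, 81, 69, 96, 73, 95, 80, 42, 8, 30, 74, 3, 41, 15, 36, 90, 2, 28, 64, 99, 66, 76, 68, 48, 83, 70, 88, 27, 39, 91, 22, 18, 84, 6, 38, 43, 47, 34, 19, 75, 98, 10, 13, 51, 57, 92, 93, 14, 53, 82, 29, 24, 33, 4, 21, 40, 11, 78, 59, 7, 71, 58, 62, 97, 32, 50, 20, 63, 49, 17, 44, 60, 35, 87, 85, 9, 46, 56, 89, 67, 31, 37, 94, 55, 16, 72, 65, 5, 77]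
    [0, 1, 27, 22, 64, 98, 44, 70, 19, 86, 52, 67, 6, 53, 58, 24, 95, 80, 42, 49, 77, 65, 41, 3, 62, 7, 11, 38, 28, 61, 20, 91, 75, 63, 48, 83, 25, 92, 45, 39, 66, 23, 18, 46, 81, 2, 87, 47, 34, 79, 76, 54, 9, 59, 5, 94, 88, 55, 72, 69, 82, 4, 73, 78, 29, 97, 31, 90, 33, 13, 36, 71, 96, 15, 21, 50, 32, 99, 68, 8, 17, 12, 60, 35, 43, 85, 10, 84, 37, 89, 26, 40, 56, 57, 93, 16, 14, 74, 51, 30]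
    (by decide +kernel)

/-- generator `g2` -/
def g2 : Perm (Fin 100) :=
  mkPerm 100 (by norm_num)
    [0, 39, 49, 22, 55, 45, 6, 58, 32, 35, 83, 77, 15, 84, 4, 91, 74, 89, 71, 43, 3, 41, 88, 27, 46, 29, 21, 62, 33, 93, 79, 73, 24, 61, 42, 18, 14, 50, 81, 82, 5, 59, 48, 16, 54, 98, 1, 78, 28, 76, 51, 92, 17, 40, 13, 64, 75, 7, 96, 26, 20, 63, 31, 25, 68, 12, 38, 97, 36, 66, 9, 94, 10, 67, 19, 37, 2, 44, 52, 90, 34, 8, 99, 47, 85, 60, 80, 95, 11, 57, 30, 56, 87, 86, 70, 65, 72, 53, 23, 69]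
    [0, 46, 76, 20, 14, 40, 6, 57, 81, 70, 72, 88, 65, 54, 36, 12, 43, 52, 35, 74, 60, 26, 3, 98, 32, 63, 59, 23, 48, 25, 90, 62, 8, 28, 80, 9, 68, 75, 66, 1, 53, 21, 34, 19, 77, 5, 24, 83, 42, 2, 37, 50, 78, 97, 44, 4, 91, 89, 7, 41, 85, 33, 27, 61, 55, 95, 69, 73, 64, 99, 94, 18, 96, 31, 16, 56, 49, 11, 47, 30, 86, 38, 39, 10, 13, 84, 93, 92, 22, 17, 79, 15, 51, 29, 71, 87, 58, 67, 45, 82]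
    (by decide +kernel)

/-- generator `g3` -/
def g3 : Perm (Fin 100) :=
  mkPerm 100 (by norm_num)
    [33, 53, 46, 87, 73, 80, 15, 69, 51, 66, 59, 75, 37, 11, 52, 17, 78, 28, 79, 54, 6, 83, 23, 91, 96, 65, 77, 85, 20, 38, 32, 12, 18, 84, 25, 99, 3, 1, 45, 71, 19, 62, 44, 30, 24, 97, 81, 0, 36, 2, 47, 63, 5, 31, 72, 58, 21, 14, 34, 98, 64, 40, 68, 26, 22, 55, 39, 16, 27, 13, 74, 94, 61, 10, 35, 7, 70, 8, 88, 43, 57, 90, 86, 82, 50, 41, 56, 95, 92, 42, 49, 60, 67, 29, 9, 48, 89, 93, 4, 76]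
    [47, 37, 49, 36, 98, 52, 20, 75, 77, 94, 73, 13, 31, 69, 57, 6, 67, 15, 32, 40, 28, 56, 64, 22, 44, 34, 63, 68, 17, 93, 43, 53, 30, 0, 58, 74, 48, 12, 29, 66, 61, 85, 89, 79, 42, 38, 2, 50, 95, 90, 84, 8, 14, 1, 19, 65, 86, 80, 55, 10, 91, 72, 41, 51, 60, 25, 9, 92, 62, 7, 76, 39, 54, 4, 70, 11, 99, 26, 16, 18, 5, 46, 83, 21, 33, 27, 82, 3, 78, 96, 81, 23, 88, 97, 71, 87, 24, 45, 59, 35]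
    (by decide +kernel)

/-- the generators: the first `k` generate the groups of the stabiliser chain -/
def gens : List (Perm (Fin 100)) := [g0, g1, g2, g3]

/-- level `L1` of the chain -/
def L1 : Level 100 where
  k := 4
  k' := 3
  b := 0
  O := [0, 1, 2, 3, 4, 5, 6, 7, 8, 9, 10, 11, 12, 13, 14, 15, 16, 17, 18, 19, 20, 21, 22, 23, 24, 25, 26, 27, 28, 29, 30, 31, 32, 33, 34, 35, 36, 37, 38, 39, 40, 41, 42, 43, 44, 45, 46, 47, 48, 49, 50, 51, 52, 53, 54, 55, 56, 57, 58, 59, 60, 61, 62, 63, 64, 65, 66, 67, 68, 69, 70, 71, 72, 73, 74, 75, 76, 77, 78, 79, 80, 81, 82, 83, 84, 85, 86, 87, 88, 89, 90, 91, 92, 93, 94, 95, 96, 97, 98, 99]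
  tree := [[], [2, 1, 0, 3, 3], [1, 3, 1, 3], [3, 0, 3], [2, 2, 0, 3], [2, 3, 2, 3], [3, 3, 0, 0, 3], [1, 1, 0, 3], [0, 3, 3, 2, 3], [2, 1, 0, 3], [1, 3, 2, 0, 3], [2, 3, 1, 1, 3], [3, 0, 3, 1, 3], [0, 3, 2, 2, 3], [2, 0, 3], [3, 3, 3, 0, 0, 3], [1, 2, 0, 3, 3], [0, 2, 1, 0, 3], [1, 3, 0, 1, 3], [3, 3, 2, 3], [3, 0, 0, 3], [2, 3, 2, 2, 3], [2, 3, 0, 3], [1, 3, 0, 3], [1, 2, 3, 1, 3], [2, 2, 2, 3], [3, 2, 2, 3], [3, 1, 3], [0, 0, 3], [1, 2, 3], [1, 3, 0, 0, 3], [0, 3, 1, 3], [1, 1, 3, 3, 3], [3], [3, 0, 1, 0, 3], [2, 2, 1, 0, 3], [0, 3], [2, 1, 3, 3, 3], [3, 1, 2, 3], [0, 0, 3, 3], [3, 2, 3], [3, 2, 3, 3], [3, 0, 1, 3], [2, 3, 3, 2, 3], [3, 3, 0, 1, 3], [1, 1, 3, 1, 3], [1, 0, 3, 3], [3, 3, 3, 3], [2, 3, 0, 1, 3], [2, 1, 3, 1, 3], [3, 3, 3],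 [2, 3, 3, 3], [3, 2, 0, 3], [2, 1, 3, 1, 0, 3], [1, 2, 3, 2, 3], [2, 2, 2, 0, 3], [1, 3, 1, 1, 3], [2, 0, 1, 3], [0, 1, 0, 3], [0, 2, 0, 3, 3], [2, 2, 3, 3], [2, 3], [2, 3, 1, 3], [2, 2, 3], [1, 1, 2, 3], [3, 2, 2, 2, 3], [3, 2, 1, 0, 3], [2, 3, 2, 2, 0, 3], [1, 3], [3, 1, 1, 0, 3], [1, 0, 3], [0, 2, 0, 1, 3], [0, 1, 2, 3], [3, 2, 2, 0, 3], [3, 1, 0, 3], [1, 3, 3, 3], [0, 3, 1, 0, 3], [3, 3, 2, 2, 3], [1, 1, 3], [2, 1, 3, 0, 0, 3], [2, 2, 0, 2, 3], [2, 3, 1, 2, 3], [2, 0, 0, 3, 3], [0, 3, 2, 0, 3], [3, 3], [2, 3, 3], [2, 0, 2, 3], [0, 3, 3], [3, 1, 1, 3], [0, 1, 3], [1, 3, 2, 2, 3], [1, 3, 2, 3], [3, 3, 1, 1, 3], [0, 2, 3], [0, 1, 1, 3], [2, 0, 3, 3], [1, 2, 0, 3], [1, 3, 1, 0, 3], [1, 2, 3, 3, 3], [0, 3, 2, 3, 3]]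
  cert := [[[0], [0, 2, 0, 2, 2], [0, 0, 2, 0, 2, 2, 0, 0], [1, 2, 0, 2, 2, 1, 1, 1, 0, 0, 1], [1, 2, 2, 2, 1, 0, 0, 1], [0, 0, 2, 2, 0, 1, 1, 1], [2, 2, 2, 0, 0, 2, 2, 1, 1, 1, 0, 0], [1, 0, 0, 2, 0, 1, 1, 0, 0], [2, 2, 1, 0, 0, 1, 1, 0], [], [2, 2, 2, 1, 2, 2, 1, 0, 0, 1, 1, 0], [0, 0, 1, 2, 2, 1, 1, 0, 1, 1, 0, 1, 0], [2, 2, 0, 1, 1, 1, 0, 1, 0], [1, 1, 0, 2, 2, 0, 0, 1, 1, 0], [1, 0, 0, 2, 1, 1, 0, 0, 1, 0, 0], [2, 2, 2, 2, 1, 1, 0, 1, 1, 1, 0, 0], [1, 2, 1, 0, 2, 2, 0, 0, 1, 0], [2, 1, 1, 0, 0, 1], [2, 2, 2, 0, 0, 1, 1, 1, 0, 0], [], [0, 0, 2, 2, 1, 1, 0, 1, 1, 0], [1, 0, 2, 2, 1, 0, 0, 1, 1, 0], [2, 0, 2, 2, 1, 0, 1, 1, 1, 0, 1, 0, 0], [0, 2, 0, 2, 2, 1, 0, 1, 1], [0, 2, 0, 2, 2, 0, 0, 1, 0, 0, 1, 0], [0, 1, 0, 0, 2, 0, 1, 1, 1, 0],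 [], [], [], [], [2, 0, 1, 2, 2, 1, 0, 1, 0], [2, 0, 1, 2, 2, 1, 0, 1, 1, 1, 0, 1, 0, 0], [0, 1, 2, 0, 0, 2, 0, 1, 0, 0, 1, 0], [], [0, 2, 1, 1, 0, 0, 1, 0], [2, 1, 1, 0, 1, 0, 0], [], [0, 2, 1, 1, 0, 0, 1, 0, 0], [0, 0, 2, 2, 1, 0, 0, 1, 1, 0, 0], [], [1, 0, 0, 2, 2, 0, 1, 1, 1, 0, 0], [], [1, 0, 1, 2, 2, 1, 1, 0, 1], [2, 1, 2, 0, 0, 2, 1, 1, 0], [0, 0, 2, 0, 2, 2, 0, 1, 1, 0, 1, 1, 0, 0], [0, 2, 0, 0, 2, 1, 1, 0, 1, 1, 0], [0, 1, 1, 0, 2, 2, 1, 0, 1, 1, 0, 1], [2, 2, 2, 0, 0, 2, 1, 1, 0, 1, 1, 0, 1, 1, 0, 0], [0, 2, 1, 0, 2, 2, 0, 0, 1, 1, 0, 0], [2, 2, 1, 0, 0], [0, 2, 2, 1, 1, 0, 1, 1, 0, 0], [0, 2, 0, 0, 2, 1, 1], [], [0, 2, 0, 0, 2, 1, 1, 1, 0, 1, 1], [2, 1, 2, 0, 2, 2], [2, 2, 2, 0, 0, 2, 2, 0, 0, 1, 1, 1, 0, 0], [2, 2, 1, 2, 2, 1, 0,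 0], [], [2, 2, 2, 1, 0, 0], [0, 2, 2, 1, 2, 2, 1], [2, 0, 0, 1, 2, 2, 1, 0, 1, 1, 1], [], [2, 1, 0, 1, 2, 2, 1, 0, 1, 1, 1, 0], [2, 0, 1, 2, 2, 2, 1, 1, 1, 0, 1, 0], [2, 0, 2, 1, 0, 1, 1, 1, 0, 0], [2, 0, 2, 2, 2, 0, 0, 1, 1, 0], [2, 1, 2, 2, 0, 1, 1, 0, 1], [2, 2, 2, 2, 0, 1, 0, 0, 1, 0, 0], [], [0, 1, 2, 2, 0, 1, 1, 1, 0, 1], [], [0, 1, 0, 0, 2, 0, 1, 1, 1, 0], [1, 0, 0, 2, 0, 1, 1, 0, 0], [2, 2, 1, 0, 2, 2, 1, 1, 0], [], [2, 0, 2, 2, 0, 0, 1], [1, 1, 0, 2, 2, 1, 1, 1, 0, 0, 1, 0, 0], [0, 0, 2, 0, 2, 2, 0, 0, 1, 0, 0], [], [2, 2, 2, 0, 1, 1, 0], [2, 2, 2, 1, 2, 2, 1, 1, 0, 1, 1, 1, 0, 0], [0, 0], [0, 0, 2, 2, 1, 0, 1, 1, 1, 0, 1, 0, 0], [0, 2, 2, 2, 1, 0, 1, 1, 1, 0, 1], [], [1, 2, 2, 0, 0, 2, 1, 1, 1, 0, 0], [2, 0, 0, 1, 2, 2, 1, 0, 1,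 1], [], [1, 2, 2, 0, 0, 2, 1, 1, 1, 0], [0, 0, 2, 0, 1, 1, 0, 0], [2, 1, 2, 0, 2, 2, 1, 1, 0, 0, 1], [0, 2, 2, 2, 2, 1, 1, 0, 0], [2, 2, 1, 0, 0], [2, 2, 2, 0, 0, 2, 2, 0, 1, 1, 0, 1, 1, 0], [2, 0, 2, 1, 0, 1, 1, 1, 0, 0], [], [2, 2, 2, 0, 0, 2, 2, 0, 0, 1, 0, 0], [2, 0, 0, 2, 1, 1, 0, 1, 0, 0], [2, 1, 2, 2, 1, 0, 0, 1], [1, 2, 2, 1, 1, 1, 0, 0, 1, 0]], [[1], [0, 0, 2, 2, 1], [], [], [2, 0, 2, 1, 1, 1, 0, 1, 1, 0], [], [2, 0, 1, 2, 2, 1, 1, 0, 1, 1, 0, 1, 0, 0], [2, 2, 2, 2, 0, 0, 1, 1, 1], [0, 2, 2, 2, 1, 1, 0, 0, 1, 0], [1, 0, 0, 2, 2, 1, 0, 1, 1, 1, 0, 1, 0], [2, 0, 2, 1, 0, 0, 1, 1, 0, 0], [1, 2, 0, 0, 2, 2, 1, 0, 0, 1, 1, 0], [2, 0, 0, 2, 2, 1, 0, 1, 1, 1, 0, 0], [0, 2, 0, 2, 2, 0, 0, 1, 1, 0], [], [2, 2, 1, 2, 2, 1, 0, 1, 1, 1, 0], [0,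 1, 0, 0, 2, 0, 1, 1, 0], [2, 2, 2, 2, 2, 1, 0, 1, 1, 0, 1, 1, 0, 0], [1, 2, 2, 0, 0, 2, 1, 0, 1, 1, 1, 0, 0], [1, 0, 0, 2, 2, 1, 1, 1, 0, 0, 1], [], [2, 0, 2, 2, 1, 0, 0], [0, 2, 2, 2, 1, 1, 0, 1, 1, 1, 0], [2, 0, 0, 2, 1, 0, 0, 1, 1], [2, 1, 2, 0, 0, 2, 0, 0, 1, 1, 1], [0, 2, 2, 2, 2, 1, 1, 0, 1, 1, 0, 1, 1, 0], [], [], [1, 2, 0, 2, 2], [], [2, 2, 2, 2, 0, 0, 2, 0, 1, 1, 1, 0, 1], [1, 0, 2, 2, 2, 1, 1, 1, 0, 1, 0, 0], [2, 0, 2, 2, 2, 0, 1, 1, 1, 0], [], [2, 0, 0, 2, 2, 0, 1, 1, 1], [1, 1, 1, 0, 0], [], [0, 2, 2, 2, 0, 0, 2, 1, 0, 1, 1, 0, 1], [2, 1, 2, 0, 0, 2, 1, 0, 1, 0, 0], [2, 0, 2, 2], [], [1, 1, 0, 2, 2, 1, 0, 0, 1, 0], [], [2, 1, 0, 1, 2, 2, 1, 0, 1, 0], [0, 1, 1, 0, 2, 2, 1, 1, 0, 1, 1, 0, 1, 0], [0, 2, 1, 0, 2, 2, 0, 0, 1], [2, 1,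 2, 0, 2, 2, 1, 0, 1, 1, 0, 1, 1], [0, 2, 0, 2, 2, 1, 0, 1, 1, 1, 0, 1, 0, 0], [2, 1, 2, 2, 0, 1, 1, 0, 0], [2, 0, 2, 2, 0, 0, 1, 1, 0, 0], [], [], [], [2, 2, 1, 1, 1], [1, 2, 0, 0, 2, 1, 1, 0, 1, 1, 1], [1, 2, 2, 2, 1, 0, 0, 1], [0, 2, 2, 2, 0, 1, 1, 0, 1, 1], [1], [2, 1, 2, 2, 0, 0, 1, 1, 0, 0], [1, 2, 2, 2, 0, 1, 1], [2, 0, 2, 1, 1, 1, 0, 1, 1, 0], [], [], [1, 1, 0, 2, 2, 0, 1, 0, 0, 1], [2, 0, 2, 1, 1, 1, 0, 1, 1, 0], [0, 1, 1, 0, 2, 2, 0, 1, 1, 1, 0], [0, 0, 2, 2, 2, 0, 1, 0, 0, 1, 0, 0], [0, 1, 2, 2, 0, 1, 1, 1, 0, 1], [], [1, 0, 1, 2, 2, 1, 1, 0, 1, 1, 0, 1], [], [0, 0, 2, 2, 1, 1, 1, 0, 0, 1], [0, 2, 1, 0, 2, 2, 1, 1, 0, 1, 1, 1, 0, 0], [1, 2, 2, 0, 0, 2, 1, 1, 1, 0, 0, 1, 0], [], [], [1, 2, 2, 2, 0, 0, 1, 1], [0, 1, 2, 2, 2, 1, 1,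 0, 1, 1, 0, 1, 1, 0], [1, 0, 1, 2, 2, 0, 1, 1, 1, 0, 0], [1, 2, 2, 2, 0, 1, 1], [1, 0, 2, 2, 2, 1, 0, 1, 1, 1], [1, 2, 0, 0, 2, 2, 1, 0, 1], [0, 2, 2, 2, 2, 1, 1, 0, 1, 1, 0, 1, 0], [1, 2, 2, 2, 1, 1], [0, 2, 2, 1, 0, 0], [0, 0, 1, 2, 2, 1, 1, 0, 0, 1, 0, 0], [1, 0, 0, 2, 0, 1, 1, 0, 0], [], [], [1, 2, 0, 2, 2], [0, 0, 2, 0, 2, 2, 1, 1, 0, 1, 1, 0, 1, 1, 0, 0], [2, 1, 2, 0, 0, 2, 1, 0, 1, 0], [2, 0, 1, 2, 2, 1, 0, 0, 1], [1, 0, 0, 2, 0, 1, 1, 0, 0], [2, 2, 2, 0, 0, 2, 1, 0, 1, 1], [], [1, 0, 0, 2, 2, 1, 1, 1, 0, 0, 1], [2, 1, 0, 1, 2, 2, 1, 0, 0, 1, 0], [1, 2, 2, 1, 1, 0, 1, 1], [2, 1, 0, 1, 2, 2, 1, 1, 0, 1, 1, 1]], [[2], [0, 2, 1, 0, 2, 2, 1, 1, 0, 1, 0, 0], [], [], [], [2, 0, 1, 2, 2, 2, 1, 0, 1, 1, 1, 0, 0], [0, 2, 0, 0, 2, 1, 1, 1, 0,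 1, 1], [2, 2, 2, 1, 0, 0, 1], [2, 0, 1, 2, 2, 1, 0, 1, 1], [], [1, 0, 0, 2, 0, 1, 1, 0, 0], [2, 2, 0, 0, 2, 0, 0, 1, 0, 0, 1, 0], [0, 2, 2, 2, 2, 0, 0, 1, 1, 0, 0], [1, 0, 2, 2, 2, 1, 1, 1, 0, 1, 0], [], [1, 0, 1, 2, 2, 0, 0, 1, 0, 0, 1, 0], [2, 1, 0, 1, 2, 2, 1, 0, 1, 1, 0, 1], [0, 2, 1, 0, 2, 2, 1, 1, 0, 1, 1, 1, 0, 0], [0, 1, 2, 2, 1, 1, 0, 1], [], [1, 0, 2, 2, 2, 1, 0, 1, 1, 0, 1, 1], [1, 0, 2, 2, 2, 1, 1, 0, 1, 1, 1, 0, 0], [0, 1, 2, 0, 2, 2, 1, 1, 0], [1, 0, 1, 2, 2, 0, 1, 0, 0, 1, 0], [1, 2, 2, 1, 1, 0, 0, 1], [0, 2, 1, 1, 0, 0], [], [], [2, 0, 1, 2, 2, 2, 1, 1, 0, 1, 0], [2, 0, 2, 0, 0, 1, 1, 1, 0], [], [2, 2, 2, 0, 0, 2, 1, 0, 0, 1, 1], [1, 1, 2, 0, 2, 2, 2, 0, 1, 1, 0, 1, 0, 0], [], [0, 2, 1, 0, 2, 2, 1, 1, 0, 0, 1], [2, 2, 1, 0,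 2, 2, 0, 1, 1, 0, 1, 1, 0, 0], [], [0, 2, 2, 1, 1, 1, 0, 1, 0], [], [], [], [1, 2, 0, 0, 2, 2, 1, 1, 0, 0, 1, 0, 0], [], [2, 2, 2, 2, 1, 1, 0, 0, 1, 0, 0], [0, 1, 2, 0, 0, 2, 1, 1, 1, 0, 0, 1, 0, 0], [2, 2, 2, 1, 2, 2, 0, 1, 1, 0, 1, 0], [], [2, 2, 0, 2, 2, 1, 0, 0, 1, 1, 0, 0], [2, 2, 1, 0, 2, 2, 0, 1, 1, 0, 1, 1], [0, 1, 2, 0, 0, 2, 0, 1, 1, 0, 1, 1], [], [2, 2, 2, 1, 2, 2, 1, 0, 1, 1, 1], [2, 0, 0, 1, 2, 2, 1, 0, 0, 1, 0, 0], [0, 2, 2, 1, 2, 2, 1, 0, 1, 1, 1], [2, 0, 1, 2, 2, 2, 0, 1, 0, 0, 1], [2, 2, 2, 1, 0, 0, 1, 1], [0, 0, 2, 0, 2, 2, 1, 1, 0, 1, 0], [1, 0, 2, 2, 1, 1, 1, 0, 0, 1, 0], [1, 2, 0, 2, 2], [1, 2, 2, 0, 0, 2, 1, 0, 1, 1, 1, 0, 1, 0, 0], [1, 1, 0, 2, 2, 1, 1, 1, 0, 0, 1, 0, 0], [], [1, 2, 2, 0, 0, 2, 1, 1, 1], [], [1, 0, 2,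 2, 2, 1, 0], [0, 1, 2, 2, 1, 1, 0, 0, 1, 0], [1, 0, 0, 2, 2, 1, 1, 0, 0, 1, 0, 0], [0, 2, 2, 2, 2, 1, 1, 0, 1], [2, 2, 2, 2, 2, 0, 1, 1, 1, 0, 1, 0, 0], [0, 1, 0, 0, 2, 0], [], [1, 0, 1, 2, 2, 1, 1, 0, 1, 1, 0, 1], [0, 0, 2, 2, 2, 1, 1, 0, 0, 1, 0, 0], [], [1, 0, 1, 2, 2, 1, 1], [], [2, 1, 2, 0, 2, 2, 1, 0, 1, 1, 1, 0, 0], [2, 0, 0, 2, 2, 1, 1, 0, 1, 0], [1, 1, 2, 0, 2, 2, 2, 1, 1, 0, 1, 0, 0], [2, 0, 2, 2, 2, 1, 1, 0, 0, 1, 0, 0], [2, 0, 2, 2, 0, 1, 0], [2, 2, 1, 0, 2, 2, 0, 1, 0, 0], [1, 2, 0, 0, 2, 2, 1, 0, 1, 0, 0], [2, 0, 2, 0], [], [], [], [], [], [], [1, 2, 1, 0, 2, 2, 1, 0, 1, 1, 0, 1], [2, 0, 1, 2, 2, 2, 1, 0, 1, 1, 1], [1, 0, 0, 2, 2, 0, 0, 1, 0, 0], [], [0, 2, 1, 0, 2, 2, 0, 1, 1, 0], [0, 1, 2, 0, 0, 2, 0, 1, 1, 0, 0], [2, 0, 1,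 2, 2, 2, 0, 1, 0], [], [1, 0, 0, 2, 1, 0, 1, 1, 1, 0, 1, 0, 0], [2, 2, 1, 2, 2, 1, 1, 1, 0]], [[], [2, 0, 0, 2, 2, 0, 1, 1, 1, 0, 1, 0], [0, 2, 2, 1, 2, 2, 1, 0, 1, 1, 0, 1, 1, 0], [0, 1, 2, 0, 0, 2, 1, 1, 0], [], [2, 2, 2, 2, 2, 1, 1, 0, 1, 1, 0, 0], [], [], [2, 2, 2, 0, 0, 2, 2], [], [2, 2, 2, 1], [2, 1, 2, 0, 0, 2, 1, 1, 0, 0, 1, 0], [2, 2, 0, 0, 2, 2, 1, 1, 0, 1, 1, 0, 1, 1, 0], [1, 2, 2, 1, 1, 0], [], [2, 2, 0, 0, 2, 0, 0, 1, 1, 1, 0, 0], [0, 2, 2, 1, 1, 1, 0, 0], [0, 2, 1, 0, 2, 2, 1, 0, 1, 1, 0, 0], [1, 2, 2, 0, 0, 2, 1, 0, 1, 1, 0, 0], [1, 1, 2, 0, 2, 2, 2, 0, 0, 1, 1, 0, 0], [], [0, 0, 2, 0, 2, 2, 1, 0, 0, 1], [0, 2, 1, 0, 2, 2, 0, 1, 0, 0, 1, 0], [2, 2, 2, 0, 0, 2, 2, 1, 0, 1, 1, 0, 1, 1], [2, 0, 1, 2, 2, 1, 1, 0, 0, 1, 0, 0], [],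 [], [2, 2, 1, 0, 1, 1, 0, 1, 1, 0], [], [], [0, 2, 2, 0, 1, 0, 0, 1, 0], [], [1, 0, 0, 2, 1, 0, 0, 1, 1, 0], [], [0, 0, 2, 2, 2, 0, 1, 1, 1, 0, 1, 0], [2, 2, 2, 2, 0, 0, 2, 1, 0, 1, 0], [], [2, 1, 0, 2, 2, 1, 1, 1, 0, 1, 0], [0, 1, 2, 0, 2, 2, 1, 1, 0, 0, 1], [0, 2, 0, 2, 2, 1, 1, 0, 0], [], [0, 2, 2, 1, 2, 2, 0, 1, 1, 0, 1, 0, 0], [], [2, 2, 2, 0, 0, 2, 1, 0, 0, 1, 0, 0], [2, 1, 2, 2, 1, 0, 1, 1, 1, 0, 1, 0], [2, 0, 0, 2, 1, 0, 1, 1, 0, 1], [0, 2, 2, 2, 2, 0, 1, 0, 0, 1], [], [0, 2, 1, 1, 0, 1, 1, 1, 0], [1, 0, 1, 2, 2, 1, 0, 1, 1, 0, 1, 1, 0], [], [1, 2, 0, 0, 2, 0, 1, 1, 0, 0], [0, 2, 2, 2, 0, 0, 2, 0, 1, 0, 0, 1], [2, 2, 0, 2, 2, 1, 1, 1, 0, 0], [2, 0, 2, 2, 0, 0, 1, 1, 0, 0], [2, 2, 2, 2, 2, 1, 1, 0, 1, 1], [1, 2, 0, 2, 2, 1, 1, 0, 1,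 1, 0, 0], [0, 0, 2, 0, 2, 2, 1, 1, 1, 0, 1, 1, 0], [], [2, 2, 2, 2, 0, 0, 2, 1, 0, 0, 1, 1, 0, 0], [0, 2, 2, 1, 0], [], [2, 0, 0, 2, 2, 1, 0], [], [2, 1, 1, 1, 0, 1, 0], [2, 1, 2, 0, 2, 2, 1, 0, 1, 1, 0, 1, 0, 0], [0, 1, 2, 2, 1, 0, 1, 1, 0, 1], [1, 1, 2, 0, 2, 2, 2, 0, 1, 1, 1, 0, 1], [], [0, 1, 2, 0, 2, 2, 0, 1, 0, 0, 1, 0, 0], [], [1, 2, 2, 0, 0, 2, 1, 0, 1, 1, 0, 0], [1, 1, 2, 0, 2, 2, 2, 1, 1, 0, 1, 1, 0, 0], [0, 1, 1, 0, 2, 2, 1, 0, 0, 1], [2, 0, 1, 2, 2, 1, 0, 1, 1, 1, 0, 1], [1, 2, 2, 2, 1, 1, 0, 0, 1], [0, 1, 2, 2, 0, 1, 1, 1, 0, 1, 0], [2, 2, 0, 2, 2, 1, 0, 1, 1, 1, 0, 1], [], [2, 1, 2, 0, 2, 2, 0, 0, 1, 0], [0, 2, 2, 2, 1, 1], [2, 2, 0, 0, 2, 2, 0, 0], [2, 1, 0, 0, 1], [0, 1, 2, 2, 0, 0, 1, 0, 0], [], [], [0, 0, 2, 2, 2, 0, 0, 1],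 [1, 0, 0, 2, 0, 1, 0, 0, 1, 0, 0], [], [], [2, 0, 2, 2, 2, 0, 0, 1, 1], [2, 0, 0, 1, 2, 2, 1, 0, 1, 0], [2, 1, 0, 1, 2, 2, 0, 0, 1, 1, 1, 0, 0], [1, 0, 2, 2, 1, 1, 1, 0, 0, 1], [1, 0, 2, 2, 2, 1], [1, 2, 0, 2, 2, 0, 0, 1, 1, 1, 0], [2, 0, 2, 2, 1, 1, 0, 1], [0, 2, 2, 0, 1, 1, 1, 0], [2, 2, 0, 0, 2, 1, 1, 0, 1, 0, 0], [0, 2, 2, 2, 0, 0, 2, 1, 1, 0, 1, 1, 0, 1, 1, 0, 0]]]

theorem L1_check : L1.Check gens := by decide +kernel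

/-- level `L2` of the chain -/
def L2 : Level 100 where
  k := 3
  k' := 2
  b := 1
  O := [1, 2, 3, 5, 6, 8, 11, 12, 13, 15, 16, 19, 20, 21, 22, 23, 24, 26, 27, 30, 31, 32, 37, 38, 39, 40, 41, 43, 44, 45, 46, 49, 50, 51, 53, 54, 56, 59, 60, 62, 65, 66, 67, 69, 73, 74, 75, 76, 77, 79, 81, 82, 84, 85, 87, 88, 90, 91, 92, 95, 97, 98, 99]
  tree := [[], [], [2, 2, 1, 0, 2, 2], [2, 2, 1, 2, 2], [], [2, 2, 0, 0, 2, 2], [1, 0, 2, 2, 2], [], [0, 1, 1, 0, 2, 2], [], [], [2, 0, 1, 2, 2], [2, 2, 2, 0, 0, 2], [1, 0, 0, 2, 2], [], [2, 2, 2, 2, 0, 0, 2], [1, 2, 0, 0, 2], [], [], [1, 1, 0, 2, 2], [2, 1, 2, 2], [1, 2, 2, 0, 0, 2], [2, 2, 2, 1, 2, 2], [0, 2, 1, 0, 2, 2], [0, 1, 2, 0, 2, 2], [], [0, 2, 2, 2, 2], [0, 2, 2, 1, 2, 2], [], [], [2, 2, 0, 2, 2],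 [2, 0, 0, 1, 2, 2], [0, 2, 2, 2, 0, 0, 2], [], [], [], [], [0, 0, 2, 0, 2, 2], [0, 1, 2, 2, 2], [2], [2, 0, 0, 2, 2], [0, 0, 2, 2, 2], [], [0, 1, 0, 0, 2], [0, 2, 2, 2], [2, 2, 2, 0, 0, 2, 2], [1, 0, 0, 2], [], [], [1, 0, 2, 2], [1, 2, 1, 0, 2, 2], [1, 2, 0, 2, 2, 2], [], [0, 0, 2, 2], [2, 0, 2, 2, 2], [], [1, 0, 1, 2, 2], [], [], [0, 2, 0, 0, 2], [1, 2, 2], [], [0, 0, 1, 2, 2], [], [], [2, 2, 0, 0, 2], [2, 2, 2, 2, 2], [1, 2, 0, 2, 2], [], [2, 2, 2, 2], [], [], [], [0, 1, 2, 0, 0, 2], [2, 1, 2, 0, 0, 2], [2, 1, 0, 1, 2, 2], [2, 1, 0, 2, 2], [1, 2, 2, 2], [], [0, 2, 2], [], [2, 0, 1, 2, 2, 2], [2, 2], [], [0, 2], [2, 0, 2], [], [0, 0, 2], [0, 1, 2, 2], [], [2, 0, 2, 2], [1, 2, 0, 0, 2, 2], [0, 2, 0, 2, 2], [], [], [2, 0, 0, 2], [], [2, 1,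 2, 0, 2, 2], [1, 1, 2, 0, 2, 2, 2], [2, 2, 2]]
  cert := [[[], [0], [1, 0, 1, 1, 1], [], [], [1, 0, 1, 1, 0, 1, 1, 0], [0, 0, 1], [], [0, 1, 1, 0, 1], [], [], [1, 0, 1, 1, 1, 0, 1, 0], [], [0, 0, 1, 0, 0], [], [1, 1, 0, 1, 1, 0, 1], [], [], [], [], [0, 0], [1, 1, 1, 0, 0, 1], [0, 1, 1, 0, 1, 1, 0, 0], [1, 0, 1, 1, 1, 0, 1, 0, 0], [1, 1, 0, 1, 0, 0], [], [0, 1, 1, 1, 0], [1, 1, 0, 0, 1, 0, 0], [], [], [1, 1, 0, 1, 1, 0, 1, 0], [1, 1, 1, 0, 1, 1, 0, 0], [1, 1, 1, 0, 1, 0], [], [], [], [], [], [1, 1, 1, 0, 1, 1, 0], [], [1, 0, 1, 1, 1], [], [], [0, 0, 1, 1, 1], [], [1], [], [], [], [1, 0, 1, 0], [1, 1, 1, 0, 0, 1], [1, 1, 1, 0, 1], [], [], [0, 1, 1, 1], [], [1, 1, 1, 0, 0, 1, 0, 0], [], [], [0, 1, 1, 1, 0, 1], [], [], [], [], [], [0], [0, 0,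 1, 1], [], [], [], [], [], [], [1, 1, 0, 1, 1, 0, 1, 1, 0], [1, 1, 0, 1], [1, 1, 0, 0, 1, 0], [], [], [], [], [], [1, 1, 1, 0, 1], [], [], [], [1, 0], [], [], [], [], [], [0, 0, 1, 1, 1, 0], [], [], [], [], [], [0, 0], [0, 1, 1, 0, 1, 1, 0], []], [[], [1], [1, 1, 1, 0, 1, 1, 0], [1, 1, 0, 1, 1, 1, 0, 0], [], [1, 1, 0, 0, 1, 0], [0, 0, 1, 1, 0], [], [1, 1, 1, 0], [], [], [1, 0, 1, 1, 1, 0, 0], [0], [1, 0, 1, 0, 0], [], [1, 0, 1, 1, 1, 0], [0, 0, 1, 0, 0, 1], [], [], [0, 0, 1], [1, 0, 1, 1, 1, 0, 1, 0], [1, 1, 1, 0], [0, 0, 1, 0, 0, 1, 0], [0, 0, 1, 0, 0, 1], [1, 1, 1, 0, 1, 0], [], [0, 1, 0], [1, 0, 0, 1, 1], [], [], [1, 0, 1, 1, 0, 1, 0, 0], [0, 0, 1, 0, 0], [1, 1, 1, 0, 0, 1, 0], [], [], [], [], [1, 0, 1, 1, 0, 1, 0, 0], [1, 1, 1, 0, 1, 1,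 0, 0], [1, 1, 1, 0, 0, 1, 0, 0], [], [1, 1, 0, 0, 1, 0], [], [0, 0, 1], [], [1, 0, 0, 1, 1, 0], [1, 0, 1, 0], [], [], [], [1, 1, 1, 0], [], [], [], [], [], [0, 1, 1, 0, 1], [], [], [0, 1, 1, 1, 0, 0], [0, 0, 1, 0, 0, 1], [], [1, 0, 1, 1, 1, 0, 1, 0], [], [], [], [0, 1, 1, 1, 0, 1, 0, 0], [1, 1, 1, 0], [], [1, 1, 1], [], [], [], [0, 1, 1, 1, 0, 0], [1, 0, 1, 0], [1, 0, 1, 1, 1, 0, 1], [], [1, 1, 1, 0], [], [], [], [0, 0, 1, 1], [], [], [1, 0, 1, 1, 0, 1, 1, 0, 0], [0, 1, 1, 0, 1], [], [], [], [], [], [1, 1, 1, 0], [0, 0, 1], [], [], [], [], [0, 1, 1, 1, 0, 0], [1, 1, 1, 0, 1, 1, 0], []], [[], [], [0, 1, 1, 0, 1, 0, 0], [], [], [], [0, 1, 1], [], [1, 0, 1, 1, 1, 0, 1], [], [], [0, 1, 1, 0, 1], [], [0, 1, 1, 1, 0, 1], [], [0, 0, 1, 1, 0], [],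 [], [], [0, 1, 1, 1, 0, 1], [], [1, 1], [0, 0, 1, 1, 1, 0], [1, 1, 0, 1, 1, 0, 1], [0, 0, 1], [], [0, 0, 1, 0, 0, 1, 0, 0], [0], [], [], [1, 1, 0, 1], [0, 0, 1, 0, 0, 1, 0, 0], [1, 0, 1, 1, 0, 1], [], [], [], [], [0, 1, 1, 0, 1], [], [], [], [1, 0, 0, 1, 1], [], [1, 1, 1, 0, 0, 1, 0, 0], [], [0, 1, 1, 0, 1, 0], [0, 1, 1, 1], [], [], [], [0, 0, 1, 1], [0, 1, 1, 1], [], [], [1, 1, 1, 0, 1], [], [], [], [], [1, 1, 0, 1, 1, 0, 1, 0, 0], [], [], [], [], [], [], [1, 0], [], [], [], [], [], [], [0, 1, 1, 1, 0, 0], [1, 1, 1, 0, 1], [1, 1, 1, 0, 1, 1, 0, 0], [], [1, 1], [], [], [], [1, 0, 1, 0, 0], [], [], [], [1, 1, 0, 1, 1, 0, 0], [], [], [], [], [], [1, 1, 0, 1, 1, 1, 0], [], [], [], [], [], [1, 0, 0], [0, 0, 1, 1, 0], []]]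

theorem L2_check : L2.Check gens := by decide +kernel

/-- level `L3` of the chain -/
def L3 : Level 100 where
  k := 2
  k' := 1
  b := 2
  O := [2, 3, 5, 6, 12, 20, 21, 22, 23, 27, 30, 31, 32, 38, 40, 41, 44, 45, 50, 51, 54, 65, 66, 74, 75, 76, 77, 81, 91, 97, 98, 99]
  tree := [[], [], [], [0, 0, 1, 1, 1], [], [1, 1, 1, 0, 1], [0, 1, 0, 0, 1], [], [], [], [], [], [0, 1, 1, 0, 1], [], [], [], [], [], [], [], [1, 0, 0, 1, 1], [1, 1, 0, 0, 1], [1, 1, 0, 1, 1, 0, 1, 1], [0, 1, 1, 0, 1, 1], [], [], [], [1, 1, 1], [], [], [0, 1, 1, 1, 0, 1], [0, 1, 1, 1], [1, 0, 1, 1], [], [], [], [], [], [1, 1], [], [1, 1, 0, 1, 1, 1], [1, 0, 1, 1, 0, 1, 1], [], [], [1, 1, 0, 1, 1, 0, 1], [1], [], [], [], [], [1, 1, 1, 0, 1, 1], [1, 0, 1], [], [], [0, 1], [],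 [], [], [], [], [], [], [], [], [], [1, 0, 0, 1], [1, 0, 1, 1, 1], [], [], [], [], [], [], [], [1, 1, 1, 0, 0, 1], [0, 1, 1], [1, 1, 0, 1, 1], [0, 0, 1, 1], [], [], [], [1, 0, 1, 1, 0, 1], [], [], [], [], [], [], [], [], [], [0, 0, 1, 0, 0, 1], [], [], [], [], [], [0, 0, 1], [1, 1, 0, 1], [1, 0, 1, 1, 1, 0, 1]]
  cert := [[[], [], [0], [], [], [], [], [], [], [], [], [], [0, 0], [], [], [], [], [], [], [], [0, 0], [0, 0], [0], [0, 0], [], [], [], [], [], [], [0, 0], [], [0], [], [], [], [], [], [], [], [0, 0], [0], [], [], [0], [], [], [], [], [], [0, 0], [0], [], [], [], [], [], [], [], [], [], [], [], [], [], [], [0], [], [], [], [], [], [], [], [0], [], [], [], [], [], [], [0], [], [], [], [], [], [], [], [], [], [], [], [], [], [], [],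 [], [], [0]], [[], [], [], [0, 0], [], [], [0], [], [], [], [], [], [], [], [], [], [], [], [], [], [0, 0], [], [0], [], [], [], [], [], [], [], [], [], [], [], [], [], [], [], [], [], [0, 0], [], [], [], [0, 0], [], [], [], [], [], [], [], [], [], [], [], [], [], [], [], [], [], [], [], [], [], [], [], [], [], [], [], [], [], [], [], [], [], [], [], [], [], [], [], [], [], [], [], [], [], [], [0], [], [], [], [], [], [], [], [0]]]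

theorem L3_check : L3.Check gens := by decide +kernel

/-- level `L4` of the chain -/
def L4 : Level 100 where
  k := 1
  k' := 0
  b := 3
  O := [3, 27, 31]
  tree := [[], [], [], [], [], [], [], [], [], [], [], [], [], [], [], [], [], [], [], [], [], [], [], [], [], [], [], [0], [], [], [], [0, 0], [], [], [], [], [], [], [], [], [], [], [], [], [], [], [], [], [], [], [], [], [], [], [], [], [], [], [], [], [], [], [], [], [], [], [], [], [], [], [], [], [], [], [], [], [], [], [], [], [], [], [], [], [], [], [], [], [], [], [], [], [], [], [], [], [], [], [], []]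
  cert := [[[], [], [], [], [], [], [], [], [], [], [], [], [], [], [], [], [], [], [], [], [], [], [], [], [], [], [], [], [], [], [], [], [], [], [], [], [], [], [], [], [], [], [], [], [], [], [], [], [], [], [], [], [], [], [], [], [], [], [], [], [], [], [], [], [], [], [], [], [], [], [], [], [], [], [], [], [], [], [], [], [], [], [], [], [], [], [], [], [], [], [], [], [], [], [], [], [], [], [], []]]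

theorem L4_check : L4.Check gens := by decide +kernel

/-- orbit certificate `C2` -/
def C2 : OrbCert 100 where
  k := 3
  r := 4
  O := [4, 7, 9, 10, 14, 17, 18, 25, 28, 29, 33, 34, 35, 36, 42, 47, 48, 52, 55, 57, 58, 61, 63, 64, 68, 70, 71, 72, 78, 80, 83, 86, 89, 93, 94, 96]
  tree := [[], [], [], [], [], [], [], [1, 0], [], [2, 0], [1, 1, 2, 0], [], [], [], [1, 0, 0], [], [], [0, 2, 0], [2, 2, 2, 0], [], [], [], [], [], [], [1, 1, 0], [], [], [0, 1, 1, 1, 0], [1, 1], [], [], [], [1, 2, 1], [0, 0, 2, 0], [2, 2, 0], [1, 1, 1, 0], [], [], [], [], [], [2, 0, 0, 2, 0], [], [], [], [], [0, 0, 2], [0, 2, 0, 1], [], [], [], [1, 2, 0], [], [], [2], [], [1, 2], [0, 0], [], [], [1], [], [2, 1], [2, 2], [], [], [], [2, 2, 2], [], [0], [0, 1, 2],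 [0, 1, 1], [], [], [], [], [], [0, 2, 2], [], [1, 0, 2, 0], [], [], [0, 1, 2, 0], [], [], [2, 0, 1], [], [], [2, 0, 2, 0], [], [], [], [0, 1], [1, 0, 1], [], [0, 2], [], [], []]

theorem C2_check : C2.Check gens := by decide +kernel

/-- normal closure certificate -/
def ncl : List (List (List (ℕ × Bool))) :=
  [[[], [(1, true), (3, true), (1, true), (3, false), (1, true), (0, true)]],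
   [[], [(0, true), (2, false), (2, false), (1, true), (3, true), (0, true)]],
   [[(0, false), (2, true), (0, true)], [(3, true), (0, true), (2, false), (0, false), (1, false), (0, true)]],
   [[]]]

theorem ncl_check : NclCheck gens 4 3 ncl := by decide +kernel

end Cfsg.Agent.Lib.Helper19.J2
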