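import Cfsg.Agent.Lib.Helper19.L37B.Cert
import Cfsg.Agent.Lib.Helper56.TCPerm
import Cfsg.Agent.Lib.Helper19.PModel

/-!
# Orbit certificates of a stabiliser chain (base [0, 1, 2, 3]) for the table `L37B.T`
-/

set_option autoImplicit false
set_option maxRecDepth 1000000

namespace Cfsg.Agent.Lib.Helper19.L37M

open Cfsg.Agent.Lib.Helper56.TC Cfsg.Agent.Lib.Helper56.TC.Tabs
open Cfsg.Agent.Lib.Helper19.PM (posIn)
open Cfsg.Agent.Lib.Helper19.L37B (T)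

/-- generator words of level 0 (fixing the earlier base points) -/
def w0 : List (List ℕ) :=
  [[0],
   [1],
   [2],
   [3],
   [4]]

def O0 : List ℕ :=
  [0, 1, 2, 3, 4, 5, 6, 7, 8, 9, 10, 11, 12, 13, 14, 15, 16, 17, 18, 19, 20, 21, 22, 23, 24, 25, 26, 27, 28, 29, 30, 31, 32, 33, 34, 35, 36, 37, 38, 39, 40, 41, 42, 43, 44, 45, 46, 47, 48, 49, 50, 51, 52, 53, 54, 55, 56]

def P0 : List ℕ :=
  [0, 0, 0, 0, 0, 1, 1, 2, 2, 2, 3, 4, 6, 7, 7, 8, 9, 10, 12, 12, 16, 16, 17, 18, 18, 18, 19, 19, 20, 21, 22, 23, 25, 25, 27, 29, 30, 31, 32, 33, 33, 35, 37, 38, 40, 40, 42, 44, 45, 46, 46, 47, 48, 48, 49, 50, 51]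

def G0 : List ℕ :=
  [0, 0, 1, 2, 3, 1, 4, 0, 2, 4, 4, 0, 2, 2, 3, 3, 2, 2, 1, 4, 1, 4, 1, 0, 3, 4, 0, 1, 3, 1, 4, 4, 1, 2, 2, 2, 2, 2, 2, 1, 4, 4, 4, 1, 1, 2, 2, 2, 1, 1, 4, 1, 0, 3, 0, 1, 4]

/-- the orbit certificate of level 0 -/
noncomputable def R0 : Orb where
  m := 57
  ng := 5
  gw := nthL w0
  par := Tabs.nth 0 P0
  gen := Tabs.nth 0 G0
  O := Tabs.nth 0 O0
  Inv := posIn O0

theorem R0_ok : allLt (fun c => chkOrb T R0 0 c) 57 = true := by decide +kernel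

theorem R0_hg : ∀ j < R0.ng, (∀ a ∈ R0.gw j, a < T.K) ∧
    ∀ b ∈ ([] : List ℕ), b < T.N ∧ T.followT (R0.gw j) b = b := by decide +kernel

/-- generator words of level 1 (fixing the earlier base points) -/
def w1 : List (List ℕ) :=
  [[4],
   [2, 3, 0],
   [1, 3, 1]]

def O1 : List ℕ :=
  [1, 6, 4, 14, 17, 10, 2, 11, 13, 23, 3, 16, 9, 15, 31, 24, 21, 12, 8, 34, 29, 26, 32, 19, 28, 7, 39, 37, 27, 30, 36, 25, 20, 5, 38, 42, 41, 35, 22, 33, 18, 47, 44, 43, 40, 53, 45, 46, 49, 54, 50, 52, 48, 55, 56, 51]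

def P1 : List ℕ :=
  [0, 0, 0, 0, 1, 1, 2, 3, 3, 4, 5, 5, 6, 6, 9, 9, 11, 12, 13, 14, 15, 16, 16, 17, 17, 18, 19, 20, 20, 21, 22, 23, 24, 25, 26, 27, 27, 28, 29, 29, 31, 35, 35, 36, 39, 41, 42, 44, 45, 45, 47, 47, 48, 49, 50, 52]

def G1 : List ℕ :=
  [0, 0, 1, 2, 1, 2, 2, 0, 1, 2, 0, 1, 0, 1, 0, 1, 0, 1, 0, 1, 0, 1, 2, 0, 2, 1, 2, 1, 2, 2, 1, 2, 0, 0, 0, 0, 2, 1, 0, 1, 0, 1, 2, 1, 0, 2, 1, 1, 0, 1, 0, 2, 1, 0, 2, 2]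

/-- the orbit certificate of level 1 -/
noncomputable def R1 : Orb where
  m := 56
  ng := 3
  gw := nthL w1
  par := Tabs.nth 0 P1
  gen := Tabs.nth 0 G1
  O := Tabs.nth 0 O1
  Inv := posIn O1

theorem R1_ok : allLt (fun c => chkOrb T R1 1 c) 56 = true := by decide +kernel

theorem R1_hg : ∀ j < R1.ng, (∀ a ∈ R1.gw j, a < T.K) ∧
    ∀ b ∈ ([0] : List ℕ), b < T.N ∧ T.followT (R1.gw j) b = b := by decide +kernel

/-- generator words of level 2 (fixing the earlier base points) -/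
def w2 : List (List ℕ) :=
  [[3, 2, 4, 2, 3],
   [1, 0, 2, 4, 2, 0, 1],
   [2, 4, 2, 4, 2, 4, 2]]

def O2 : List ℕ :=
  [2, 7, 13, 15, 18, 12, 3, 26, 4, 38, 28, 11, 10, 33, 17, 49, 22, 50, 16, 27, 20, 30, 43, 52, 55, 8, 40, 46, 41, 5, 36, 56, 51, 9, 45, 35, 19, 53, 48, 25, 23, 54, 39, 37, 47, 34, 24, 29, 6]

def P2 : List ℕ :=
  [0, 0, 0, 0, 1, 1, 2, 2, 3, 4, 5, 6, 6, 7, 8, 9, 10, 10, 11, 12, 13, 13, 14, 15, 15, 16, 16, 17, 18, 20, 21, 23, 23, 25, 28, 28, 29, 31, 31, 32, 35, 37, 39, 40, 41, 42, 43, 44, 47]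

def G2 : List ℕ :=
  [0, 0, 1, 2, 1, 2, 0, 2, 1, 0, 1, 1, 2, 1, 0, 1, 0, 2, 0, 1, 0, 2, 1, 0, 2, 1, 2, 1, 1, 1, 1, 1, 2, 2, 0, 2, 2, 0, 2, 1, 1, 2, 0, 0, 1, 1, 1, 0, 1]

/-- the orbit certificate of level 2 -/
noncomputable def R2 : Orb where
  m := 49
  ng := 3
  gw := nthL w2
  par := Tabs.nth 0 P2
  gen := Tabs.nth 0 G2
  O := Tabs.nth 0 O2
  Inv := posIn O2

theorem R2_ok : allLt (fun c => chkOrb T R2 2 c) 49 = true := by decide +kernel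

theorem R2_hg : ∀ j < R2.ng, (∀ a ∈ R2.gw j, a < T.K) ∧
    ∀ b ∈ ([1, 0] : List ℕ), b < T.N ∧ T.followT (R2.gw j) b = b := by decide +kernel

/-- generator words of level 3 (fixing the earlier base points) -/
def w3 : List (List ℕ) :=
  [[3, 2, 4, 1, 2, 4, 0, 1, 2, 4, 2, 3, 1],
   [0, 2, 4, 2, 1, 4, 2, 4, 2, 4, 1, 2, 4, 3, 1, 2],
   [2, 3, 4, 1, 2, 1, 4, 2, 4, 2, 4, 1, 3, 2, 4, 2]]

def O3 : List ℕ :=
  [3, 37, 50, 17, 20, 40, 11, 18, 36, 7, 8, 34]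

def P3 : List ℕ :=
  [0, 0, 0, 0, 1, 1, 1, 2, 4, 4, 5, 8]

def G3 : List ℕ :=
  [0, 0, 1, 2, 0, 1, 2, 2, 1, 2, 2, 2]

/-- the orbit certificate of level 3 -/
noncomputable def R3 : Orb where
  m := 12
  ng := 3
  gw := nthL w3
  par := Tabs.nth 0 P3
  gen := Tabs.nth 0 G3
  O := Tabs.nth 0 O3
  Inv := posIn O3

theorem R3_ok : allLt (fun c => chkOrb T R3 3 c) 12 = true := by decide +kernel

theorem R3_hg : ∀ j < R3.ng, (∀ a ∈ R3.gw j, a < T.K) ∧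
    ∀ b ∈ ([2, 1, 0] : List ℕ), b < T.N ∧ T.followT (R3.gw j) b = b := by decide +kernel

end Cfsg.Agent.Lib.Helper19.L37M
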