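import Cfsg.Agent.Lib.Helper19.TCUp
import Cfsg.Agent.Lib.Helper19.L37U5C0
import Cfsg.Agent.Lib.Helper19.L37U5C1
import Cfsg.Agent.Lib.Helper19.L37U5C2
import Cfsg.Agent.Lib.Helper19.L37U5C3
import Cfsg.Agent.Lib.Helper19.L37U5C4
import Cfsg.Agent.Lib.Helper19.L37U5C5
import Cfsg.Agent.Lib.Helper19.L37U5C6
import Cfsg.Agent.Lib.Helper19.L37U5C7
import Cfsg.Agent.Lib.Helper19.L37U5C8
import Cfsg.Agent.Lib.Helper19.L37U5C9
import Cfsg.Agent.Lib.Helper19.L37U5C10
import Cfsg.Agent.Lib.Helper19.L37U5C11
import Cfsg.Agent.Lib.Helper19.L37U5C12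
import Cfsg.Agent.Lib.Helper19.L37U5C13
import Cfsg.Agent.Lib.Helper19.L37U5C14
import Cfsg.Agent.Lib.Helper19.L37U5C15
import Cfsg.Agent.Lib.Helper19.L37U5C16
import Cfsg.Agent.Lib.Helper19.L37U5C17
import Cfsg.Agent.Lib.Helper19.L37U5C18

set_option autoImplicit false
set_option maxRecDepth 1000000

namespace Cfsg.Agent.Lib.Helper19.L37U5

open Cfsg.Agent.Lib.Helper56.TC Cfsg.Agent.Lib.Helper56.TC.Tabs

theorem uN_300 : Upto T.chkName 300 := upto_add (upto_zero T.chkName) rfl cN_0
theorem uN_600 : Upto T.chkName 600 := upto_add uN_300 rfl cN_300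
theorem uN_900 : Upto T.chkName 900 := upto_add uN_600 rfl cN_600
theorem uN_1200 : Upto T.chkName 1200 := upto_add uN_900 rfl cN_900
theorem uN_1500 : Upto T.chkName 1500 := upto_add uN_1200 rfl cN_1200
theorem uN_1800 : Upto T.chkName 1800 := upto_add uN_1500 rfl cN_1500
theorem uN_2100 : Upto T.chkName 2100 := upto_add uN_1800 rfl cN_1800
theorem uN_2400 : Upto T.chkName 2400 := upto_add uN_2100 rfl cN_2100
theorem uN_2700 : Upto T.chkName 2700 := upto_add uN_2400 rfl cN_2400
theorem uN_3000 : Upto T.chkName 3000 := upto_add uN_2700 rfl cN_2700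
theorem uN_3300 : Upto T.chkName 3300 := upto_add uN_3000 rfl cN_3000
theorem uN_3600 : Upto T.chkName 3600 := upto_add uN_3300 rfl cN_3300
theorem uN_3900 : Upto T.chkName 3900 := upto_add uN_3600 rfl cN_3600
theorem uN_4200 : Upto T.chkName 4200 := upto_add uN_3900 rfl cN_3900
theorem uN_4500 : Upto T.chkName 4500 := upto_add uN_4200 rfl cN_4200
theorem uN_4800 : Upto T.chkName 4800 := upto_add uN_4500 rfl cN_4500
theorem uN_5100 : Upto T.chkName 5100 := upto_add uN_4800 rfl cN_4800
theorem uN_5400 : Upto T.chkName 5400 := upto_add uN_5100 rfl cN_5100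
theorem uN_5700 : Upto T.chkName 5700 := upto_add uN_5400 rfl cN_5400
theorem uN_6000 : Upto T.chkName 6000 := upto_add uN_5700 rfl cN_5700
theorem uN_6300 : Upto T.chkName 6300 := upto_add uN_6000 rfl cN_6000
theorem uN_6600 : Upto T.chkName 6600 := upto_add uN_6300 rfl cN_6300
theorem uN_6900 : Upto T.chkName 6900 := upto_add uN_6600 rfl cN_6600
theorem uN_7200 : Upto T.chkName 7200 := upto_add uN_6900 rfl cN_6900
theorem uN_7500 : Upto T.chkName 7500 := upto_add uN_7200 rfl cN_7200
theorem uN_7800 : Upto T.chkName 7800 := upto_add uN_7500 rfl cN_7500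
theorem uN_8100 : Upto T.chkName 8100 := upto_add uN_7800 rfl cN_7800
theorem uN_8400 : Upto T.chkName 8400 := upto_add uN_8100 rfl cN_8100
theorem uN_8700 : Upto T.chkName 8700 := upto_add uN_8400 rfl cN_8400
theorem uN_9000 : Upto T.chkName 9000 := upto_add uN_8700 rfl cN_8700
theorem uN_9300 : Upto T.chkName 9300 := upto_add uN_9000 rfl cN_9000
theorem uN_9600 : Upto T.chkName 9600 := upto_add uN_9300 rfl cN_9300
theorem uN_9900 : Upto T.chkName 9900 := upto_add uN_9600 rfl cN_9600
theorem uN_10200 : Upto T.chkName 10200 := upto_add uN_9900 rfl cN_9900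
theorem uN_10500 : Upto T.chkName 10500 := upto_add uN_10200 rfl cN_10200
theorem uN_10800 : Upto T.chkName 10800 := upto_add uN_10500 rfl cN_10500
theorem uN_11100 : Upto T.chkName 11100 := upto_add uN_10800 rfl cN_10800
theorem uN_11400 : Upto T.chkName 11400 := upto_add uN_11100 rfl cN_11100
theorem uN_11700 : Upto T.chkName 11700 := upto_add uN_11400 rfl cN_11400
theorem uN_12000 : Upto T.chkName 12000 := upto_add uN_11700 rfl cN_11700
theorem uN_12300 : Upto T.chkName 12300 := upto_add uN_12000 rfl cN_12000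
theorem uN_12600 : Upto T.chkName 12600 := upto_add uN_12300 rfl cN_12300
theorem uN_12900 : Upto T.chkName 12900 := upto_add uN_12600 rfl cN_12600
theorem uN_13200 : Upto T.chkName 13200 := upto_add uN_12900 rfl cN_12900
theorem uN_13500 : Upto T.chkName 13500 := upto_add uN_13200 rfl cN_13200
theorem uN_13800 : Upto T.chkName 13800 := upto_add uN_13500 rfl cN_13500
theorem uN_14100 : Upto T.chkName 14100 := upto_add uN_13800 rfl cN_13800
theorem uN_14400 : Upto T.chkName 14400 := upto_add uN_14100 rfl cN_14100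
theorem uN_14700 : Upto T.chkName 14700 := upto_add uN_14400 rfl cN_14400
theorem uN_15000 : Upto T.chkName 15000 := upto_add uN_14700 rfl cN_14700
theorem uN_15300 : Upto T.chkName 15300 := upto_add uN_15000 rfl cN_15000
theorem uN_15600 : Upto T.chkName 15600 := upto_add uN_15300 rfl cN_15300
theorem uN_15900 : Upto T.chkName 15900 := upto_add uN_15600 rfl cN_15600
theorem uN_16200 : Upto T.chkName 16200 := upto_add uN_15900 rfl cN_15900
theorem uN_16500 : Upto T.chkName 16500 := upto_add uN_16200 rfl cN_16200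
theorem uN_16800 : Upto T.chkName 16800 := upto_add uN_16500 rfl cN_16500
theorem uN_17100 : Upto T.chkName 17100 := upto_add uN_16800 rfl cN_16800
theorem uN_17400 : Upto T.chkName 17400 := upto_add uN_17100 rfl cN_17100
theorem uN_17700 : Upto T.chkName 17700 := upto_add uN_17400 rfl cN_17400
theorem uN_18000 : Upto T.chkName 18000 := upto_add uN_17700 rfl cN_17700
theorem uN_18300 : Upto T.chkName 18300 := upto_add uN_18000 rfl cN_18000
theorem uN_18600 : Upto T.chkName 18600 := upto_add uN_18300 rfl cN_18300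
theorem uN_18900 : Upto T.chkName 18900 := upto_add uN_18600 rfl cN_18600
theorem uN_19200 : Upto T.chkName 19200 := upto_add uN_18900 rfl cN_18900
theorem uN_19500 : Upto T.chkName 19500 := upto_add uN_19200 rfl cN_19200
theorem uN_19800 : Upto T.chkName 19800 := upto_add uN_19500 rfl cN_19500
theorem uN_20100 : Upto T.chkName 20100 := upto_add uN_19800 rfl cN_19800
theorem uN_20400 : Upto T.chkName 20400 := upto_add uN_20100 rfl cN_20100
theorem uN_20700 : Upto T.chkName 20700 := upto_add uN_20400 rfl cN_20400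
theorem uN_21000 : Upto T.chkName 21000 := upto_add uN_20700 rfl cN_20700
theorem uN_21300 : Upto T.chkName 21300 := upto_add uN_21000 rfl cN_21000
theorem uN_21600 : Upto T.chkName 21600 := upto_add uN_21300 rfl cN_21300
theorem uN_21900 : Upto T.chkName 21900 := upto_add uN_21600 rfl cN_21600
theorem uN_22200 : Upto T.chkName 22200 := upto_add uN_21900 rfl cN_21900
theorem uN_22500 : Upto T.chkName 22500 := upto_add uN_22200 rfl cN_22200
theorem uN_22800 : Upto T.chkName 22800 := upto_add uN_22500 rfl cN_22500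
theorem uN_23100 : Upto T.chkName 23100 := upto_add uN_22800 rfl cN_22800
theorem uN_23400 : Upto T.chkName 23400 := upto_add uN_23100 rfl cN_23100
theorem uN_23700 : Upto T.chkName 23700 := upto_add uN_23400 rfl cN_23400
theorem uN_24000 : Upto T.chkName 24000 := upto_add uN_23700 rfl cN_23700
theorem uN_24300 : Upto T.chkName 24300 := upto_add uN_24000 rfl cN_24000
theorem uN_24600 : Upto T.chkName 24600 := upto_add uN_24300 rfl cN_24300
theorem uN_24900 : Upto T.chkName 24900 := upto_add uN_24600 rfl cN_24600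
theorem uN_25200 : Upto T.chkName 25200 := upto_add uN_24900 rfl cN_24900
theorem uN_25500 : Upto T.chkName 25500 := upto_add uN_25200 rfl cN_25200
theorem uN_25800 : Upto T.chkName 25800 := upto_add uN_25500 rfl cN_25500
theorem uN_26068 : Upto T.chkName 26068 := upto_add uN_25800 rfl cN_25800
theorem uF_1200 : Upto T.chkFinName 1200 := upto_add (upto_zero T.chkFinName) rfl cF_0
theorem uF_2400 : Upto T.chkFinName 2400 := upto_add uF_1200 rfl cF_1200
theorem uF_3600 : Upto T.chkFinName 3600 := upto_add uF_2400 rfl cF_2400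
theorem uF_4800 : Upto T.chkFinName 4800 := upto_add uF_3600 rfl cF_3600
theorem uF_6000 : Upto T.chkFinName 6000 := upto_add uF_4800 rfl cF_4800
theorem uF_7200 : Upto T.chkFinName 7200 := upto_add uF_6000 rfl cF_6000
theorem uF_8400 : Upto T.chkFinName 8400 := upto_add uF_7200 rfl cF_7200
theorem uF_9600 : Upto T.chkFinName 9600 := upto_add uF_8400 rfl cF_8400
theorem uF_10800 : Upto T.chkFinName 10800 := upto_add uF_9600 rfl cF_9600
theorem uF_12000 : Upto T.chkFinName 12000 := upto_add uF_10800 rfl cF_10800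
theorem uF_13200 : Upto T.chkFinName 13200 := upto_add uF_12000 rfl cF_12000
theorem uF_14400 : Upto T.chkFinName 14400 := upto_add uF_13200 rfl cF_13200
theorem uF_15600 : Upto T.chkFinName 15600 := upto_add uF_14400 rfl cF_14400
theorem uF_16800 : Upto T.chkFinName 16800 := upto_add uF_15600 rfl cF_15600
theorem uF_18000 : Upto T.chkFinName 18000 := upto_add uF_16800 rfl cF_16800
theorem uF_19200 : Upto T.chkFinName 19200 := upto_add uF_18000 rfl cF_18000
theorem uF_20400 : Upto T.chkFinName 20400 := upto_add uF_19200 rfl cF_19200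
theorem uF_21600 : Upto T.chkFinName 21600 := upto_add uF_20400 rfl cF_20400
theorem uF_22800 : Upto T.chkFinName 22800 := upto_add uF_21600 rfl cF_21600
theorem uF_24000 : Upto T.chkFinName 24000 := upto_add uF_22800 rfl cF_22800
theorem uF_25200 : Upto T.chkFinName 25200 := upto_add uF_24000 rfl cF_24000
theorem uF_26068 : Upto T.chkFinName 26068 := upto_add uF_25200 rfl cF_25200

/-- The certificate is valid. -/
theorem checked : Cfsg.Agent.Lib.Helper19.TCU.Checked T 4 where
  hK := by decide +kernel
  hN := by decide +kernel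
  hNN := by decide +kernel
  hinv := fun _ _ => rfl
  hsubs := by decide +kernel
  hrelK := by decide +kernel
  hrx := by decide +kernel
  hchk := uN_26068
  hfin := uF_26068

end Cfsg.Agent.Lib.Helper19.L37U5
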