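import Cfsg.Agent.Lib.Helper19.M11B.Cert
import Cfsg.Agent.Lib.Helper56.TCPerm
import Cfsg.Agent.Lib.Helper19.PModel

/-!
# Orbit certificates of a stabiliser chain (base [0, 1, 2, 3]) for the table `M11B.T`
-/

set_option autoImplicit false
set_option maxRecDepth 1000000

namespace Cfsg.Agent.Lib.Helper19.M11M

open Cfsg.Agent.Lib.Helper56.TC Cfsg.Agent.Lib.Helper56.TC.Tabs
open Cfsg.Agent.Lib.Helper19.PM (posIn)
open Cfsg.Agent.Lib.Helper19.M11B (T)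

/-- generator words of level 0 (fixing the earlier base points) -/
def w0 : List (List ℕ) :=
  [[0],
   [1],
   [2]]

def O0 : List ℕ :=
  [0, 1, 2, 3, 4, 5, 6, 7, 8, 9, 10]

def P0 : List ℕ :=
  [0, 0, 0, 1, 1, 2, 3, 3, 6, 7, 8]

def G0 : List ℕ :=
  [0, 1, 2, 0, 1, 0, 1, 2, 1, 0, 0]

/-- the orbit certificate of level 0 -/
noncomputable def R0 : Orb where
  m := 11
  ng := 3
  gw := nthL w0
  par := Tabs.nth 0 P0
  gen := Tabs.nth 0 G0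
  O := Tabs.nth 0 O0
  Inv := posIn O0

theorem R0_ok : allLt (fun c => chkOrb T R0 0 c) 11 = true := by decide +kernel

theorem R0_hg : ∀ j < R0.ng, (∀ a ∈ R0.gw j, a < T.K) ∧
    ∀ b ∈ ([] : List ℕ), b < T.N ∧ T.followT (R0.gw j) b = b := by decide +kernel

/-- generator words of level 1 (fixing the earlier base points) -/
def w1 : List (List ℕ) :=
  [[2, 0, 2, 2, 0, 1, 0, 1, 1, 0, 1],
   [2, 0, 1, 0, 2, 0, 2, 0, 1]]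

def O1 : List ℕ :=
  [1, 10, 8, 2, 5, 6, 4, 9, 3, 7]

def P1 : List ℕ :=
  [0, 0, 0, 1, 2, 2, 3, 4, 4, 8]

def G1 : List ℕ :=
  [0, 0, 1, 0, 0, 1, 0, 0, 1, 1]

/-- the orbit certificate of level 1 -/
noncomputable def R1 : Orb where
  m := 10
  ng := 2
  gw := nthL w1
  par := Tabs.nth 0 P1
  gen := Tabs.nth 0 G1
  O := Tabs.nth 0 O1
  Inv := posIn O1

theorem R1_ok : allLt (fun c => chkOrb T R1 1 c) 10 = true := by decide +kernel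

theorem R1_hg : ∀ j < R1.ng, (∀ a ∈ R1.gw j, a < T.K) ∧
    ∀ b ∈ ([0] : List ℕ), b < T.N ∧ T.followT (R1.gw j) b = b := by decide +kernel

/-- generator words of level 2 (fixing the earlier base points) -/
def w2 : List (List ℕ) :=
  [[2, 0, 1, 0, 1, 0, 2, 2, 2, 0, 2, 0, 1, 1, 1, 0, 1, 1, 0, 2, 2, 2, 0, 1, 0, 1, 1, 1, 0, 2, 2, 0, 2, 2, 2, 0, 1, 0, 1, 1, 1, 0, 2, 0, 2, 0, 1],
   [2, 0, 1, 0, 1, 0, 2, 2, 2, 0, 2, 2, 0, 1, 1, 1, 0, 2, 0, 2, 2, 2, 0, 1, 1, 0, 1, 1, 1, 0, 2, 0, 2, 0, 1]]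

def O2 : List ℕ :=
  [2, 9, 8, 4, 6, 5, 7, 3, 10]

def P2 : List ℕ :=
  [0, 0, 1, 1, 2, 2, 3, 5, 6]

def G2 : List ℕ :=
  [0, 1, 0, 1, 0, 1, 0, 1, 0]

/-- the orbit certificate of level 2 -/
noncomputable def R2 : Orb where
  m := 9
  ng := 2
  gw := nthL w2
  par := Tabs.nth 0 P2
  gen := Tabs.nth 0 G2
  O := Tabs.nth 0 O2
  Inv := posIn O2

theorem R2_ok : allLt (fun c => chkOrb T R2 2 c) 9 = true := by decide +kernel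

theorem R2_hg : ∀ j < R2.ng, (∀ a ∈ R2.gw j, a < T.K) ∧
    ∀ b ∈ ([1, 0] : List ℕ), b < T.N ∧ T.followT (R2.gw j) b = b := by decide +kernel

/-- generator words of level 3 (fixing the earlier base points) -/
def w3 : List (List ℕ) :=
  [[2, 0, 1, 0, 1, 0, 2, 2, 2, 0, 2, 0, 1, 1, 1, 0, 1, 1, 0, 2, 2, 2, 0, 1, 0, 1, 1, 1, 0, 2, 2, 0, 2, 2, 2, 0, 1, 0, 1, 1, 1, 0, 2, 0, 2, 0, 1],
   [2, 0, 1, 0, 1, 0, 2, 2, 2, 0, 2, 2, 0, 1, 1, 1, 0, 1, 1, 0, 2, 2, 2, 0, 1, 0, 1, 1, 1, 0, 1, 1, 0, 2, 2, 2, 0, 2, 0, 1, 1, 1, 0, 2, 2, 0, 2, 2, 2, 0, 2, 0, 1, 1, 1, 0, 2, 2, 2, 0, 2, 2, 2, 0, 1, 1, 0, 1, 1, 1, 0, 2, 0, 2, 0, 1]]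

def O3 : List ℕ :=
  [3, 4, 5, 7, 6, 9, 10, 8]

def P3 : List ℕ :=
  [0, 0, 0, 1, 1, 2, 3, 3]

def G3 : List ℕ :=
  [0, 0, 1, 0, 1, 0, 0, 1]

/-- the orbit certificate of level 3 -/
noncomputable def R3 : Orb where
  m := 8
  ng := 2
  gw := nthL w3
  par := Tabs.nth 0 P3
  gen := Tabs.nth 0 G3
  O := Tabs.nth 0 O3
  Inv := posIn O3

theorem R3_ok : allLt (fun c => chkOrb T R3 3 c) 8 = true := by decide +kernel

theorem R3_hg : ∀ j < R3.ng, (∀ a ∈ R3.gw j, a < T.K) ∧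
    ∀ b ∈ ([2, 1, 0] : List ℕ), b < T.N ∧ T.followT (R3.gw j) b = b := by decide +kernel

end Cfsg.Agent.Lib.Helper19.M11M
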