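import Cfsg.Agent.Lib.Helper19.BSGS

/-!
# The Mathieu groups `M₁₂`, `M₁₁` on 12 points from explicit generators: stabiliser chain
-/

set_option autoImplicit false

namespace Cfsg.Agent.Lib.Helper19.M12

open Equiv Cfsg.Agent.Lib.Helper19.BSGS

/-- generator `u` -/
def gu : Perm (Fin 12) :=
  Equiv.swap (4 : Fin 12) 9 * Equiv.swap (4 : Fin 12) 5 * Equiv.swap (4 : Fin 12) 6 * Equiv.swap (7 : Fin 12) 10 * Equiv.swap (7 : Fin 12) 11 * Equiv.swap (7 : Fin 12) 8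

/-- generator `v` -/
def gv : Perm (Fin 12) :=
  Equiv.swap (4 : Fin 12) 11 * Equiv.swap (4 : Fin 12) 5 * Equiv.swap (4 : Fin 12) 7 * Equiv.swap (6 : Fin 12) 8 * Equiv.swap (6 : Fin 12) 9 * Equiv.swap (6 : Fin 12) 10

/-- generator `w` -/
def gw : Perm (Fin 12) :=
  Equiv.swap (4 : Fin 12) 8 * Equiv.swap (4 : Fin 12) 5 * Equiv.swap (4 : Fin 12) 10 * Equiv.swap (6 : Fin 12) 7 * Equiv.swap (6 : Fin 12) 9 * Equiv.swap (6 : Fin 12) 11

/-- generator `s` -/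
def gs : Perm (Fin 12) :=
  Equiv.swap (3 : Fin 12) 5 * Equiv.swap (3 : Fin 12) 4 * Equiv.swap (6 : Fin 12) 8 * Equiv.swap (6 : Fin 12) 7 * Equiv.swap (9 : Fin 12) 11 * Equiv.swap (9 : Fin 12) 10

/-- generator `t` -/
def gt : Perm (Fin 12) :=
  Equiv.swap (3 : Fin 12) 9 * Equiv.swap (3 : Fin 12) 6 * Equiv.swap (4 : Fin 12) 10 * Equiv.swap (4 : Fin 12) 7 * Equiv.swap (5 : Fin 12) 11 * Equiv.swap (5 : Fin 12) 8

/-- generator `x1` -/
def gx1 : Perm (Fin 12) :=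
  Equiv.swap (0 : Fin 12) 3 * Equiv.swap (6 : Fin 12) 7 * Equiv.swap (8 : Fin 12) 10 * Equiv.swap (9 : Fin 12) 11

/-- generator `x2` -/
def gx2 : Perm (Fin 12) :=
  Equiv.swap (0 : Fin 12) 1 * Equiv.swap (6 : Fin 12) 9 * Equiv.swap (7 : Fin 12) 10 * Equiv.swap (8 : Fin 12) 11

/-- generator `x3` -/
def gx3 : Perm (Fin 12) :=
  Equiv.swap (1 : Fin 12) 2 * Equiv.swap (6 : Fin 12) 11 * Equiv.swap (7 : Fin 12) 9 * Equiv.swap (8 : Fin 12) 10

/-- the generators, ordered so that the groups of the stabiliser chain are generated by prefixes -/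
def gens : List (Perm (Fin 12)) := [gu, gv, gw, gs, gt, gx1, gx2, gx3]

/-- level 1 of the chain -/
def L1 : Level 12 where
  k := 8
  k' := 7
  b := 2
  O := [0, 1, 2, 3, 4, 5, 6, 7, 8, 9, 10, 11]
  tree := [[6, 7], [7], [], [5, 6, 7], [3, 5, 6, 7], [3, 3, 5, 6, 7], [4, 5, 6, 7], [1, 3, 5, 6, 7], [0, 1, 3, 5, 6, 7], [4, 4, 5, 6, 7], [2, 3, 5, 6, 7], [2, 4, 5, 6, 7]]
  cert := [[[1], [2, 0], [0], [0, 1], [0, 1], [0, 1], [0, 1], [], [0, 1], [0, 1], [], [2]], [[0, 1], [1, 2], [1], [1], [], [2], [2], [0, 0], [0, 1], [0, 1], [2], [2]], [[1, 2], [0, 1], [2], [0], [], [0, 0], [], [0, 1], [], [0, 1], [0, 0], [0, 0]], [[3], [3], [3], [], [], [], [2, 0], [0, 1], [1, 2], [1, 2], [], [0]], [[4, 3], [2, 4, 0, 1], [4], [], [2, 0], [0], [], [2], [0, 0], [], [0], [0]], [[], [5], [5], [], [0, 4, 0], [3, 0, 0], [0, 4, 1], [2, 3], [0, 4, 0], [4, 4, 3], [0, 4, 0], [4, 3, 3]], [[], [], [6], [5], [5], [5], [5], [5],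 [5, 2], [5], [5], [5, 2]], [[6], [], [], [6], [6], [6], [6, 0], [6, 1], [6], [6, 0, 1], [6], [6, 0]]]

theorem L1_check : L1.Check gens := by decide +kernel

/-- level 2 of the chain -/
def L2 : Level 12 where
  k := 7
  k' := 6
  b := 1
  O := [0, 1, 3, 4, 5, 6, 7, 8, 9, 10, 11]
  tree := [[6], [], [], [5, 6], [3, 5, 6], [3, 3, 5, 6], [4, 5, 6], [1, 3, 5, 6], [0, 1, 3, 5, 6], [4, 4, 5, 6], [2, 3, 5, 6], [2, 4, 5, 6]]
  cert := [[[1, 2], [0], [], [2], [2], [2], [2], [], [2], [2], [], [0, 1]], [[2], [1], [], [1, 2], [], [0, 1], [0, 1], [0, 0], [2], [2], [0, 1], [0, 1]], [[1], [2], [], [2, 0], [], [0, 0], [], [2], [], [2], [0, 0], [0, 0]], [[3], [3], [], [], [], [], [0], [2], [1], [1], [], [2, 0]], [[4, 4], [4], [], [], [0], [2, 0], [], [0, 1], [0, 0], [], [2, 0], [2, 0]], [[], [5], [], [], [0, 4, 0], [3, 0, 0], [3, 3, 2], [0, 1, 3], [0, 4, 0], [4, 3, 3], [0, 4, 0], [4, 4, 3]], [[], [], [], [5],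 [5], [5], [5], [5], [2, 5], [5], [5], [2, 5]]]

theorem L2_check : L2.Check gens := by decide +kernel

/-- level 3 of the chain -/
def L3 : Level 12 where
  k := 6
  k' := 5
  b := 0
  O := [0, 3, 4, 5, 6, 7, 8, 9, 10, 11]
  tree := [[], [], [], [5], [3, 5], [3, 3, 5], [4, 5], [1, 3, 5], [0, 1, 3, 5], [4, 4, 5], [2, 3, 5], [2, 4, 5]]
  cert := [[[0], [], [], [1], [1], [1], [1], [], [1], [1], [], [2, 0]], [[1], [], [], [0], [], [2, 0], [2, 0], [0, 0], [1], [1], [2, 0], [2, 0]], [[2], [], [], [0, 1], [], [0, 0], [], [1], [], [1], [0, 0], [0, 0]], [[3], [], [], [], [], [], [1, 2], [1], [2], [2], [], [0, 1]], [[4], [], [], [], [1, 2], [0, 1], [], [2, 0], [0, 0], [], [0, 1], [0, 1]], [[], [], [], [], [0, 4, 0], [3, 0, 0], [3, 3, 1], [2, 4, 0], [0, 4, 0], [2, 4, 0, 1], [0, 4, 0], [4, 3]]]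

theorem L3_check : L3.Check gens := by decide +kernel

/-- level 4 of the chain -/
def L4 : Level 12 where
  k := 5
  k' := 3
  b := 3
  O := [3, 4, 5, 6, 7, 8, 9, 10, 11]
  tree := [[], [], [], [], [3], [3, 3], [4], [1, 3], [0, 1, 3], [4, 4], [2, 3], [2, 4]]
  cert := [[[], [], [], [0], [0], [0], [0], [], [0], [0], [], [1, 2]], [[], [], [], [1], [], [1, 2], [1, 2], [0, 0], [0], [0], [1, 2], [1, 2]], [[], [], [], [2], [], [0, 0], [], [0], [], [0], [0, 0], [0, 0]], [[], [], [], [], [], [], [2, 0], [0], [0, 1], [0, 1], [], [2]], [[], [], [], [], [2, 0], [2], [], [1, 2], [0, 0], [], [2], [2]]]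

theorem L4_check : L4.Check gens := by decide +kernel

/-- level 5 of the chain -/
def L5 : Level 12 where
  k := 3
  k' := 0
  b := 4
  O := [4, 5, 6, 7, 8, 9, 10, 11]
  tree := [[], [], [], [], [], [0, 0], [0], [1], [0, 1], [1, 2], [2], [2, 0]]
  cert := [[[], [], [], [], [], [], [], [], [], [], [], []], [[], [], [], [], [], [], [], [], [], [], [], []], [[], [], [], [], [], [], [], [], [], [], [], []]]

theorem L5_check : L5.Check gens := by decide +kernel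

end Cfsg.Agent.Lib.Helper19.M12
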