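import Cfsg.Agent.Lib.Helper56.ON122760.D
import Cfsg.Agent.Lib.Helper56.TCPerm

/-!
# The O'Nan group on 122760 points: data for the stabiliser chain

The permutation representation is the one on the final names of helper56's coset enumeration
certificate `Cfsg.Agent.Lib.Helper56.ON122760.T` (letters: `0 = g`, `1, …, 6 = a, …, f`,
`7 = g⁻¹`).  Here: three words in `a, …, f` fixing the names `0` and `1`, with an orbit of 64
names; the labels of the names are `< 5`.
-/

set_option autoImplicit false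
set_option maxRecDepth 1000000

namespace Cfsg.Agent.Lib.Helper19.ONG

open Cfsg.Agent.Lib.Helper56.TC Cfsg.Agent.Lib.Helper56.TC.Tabs
open Cfsg.Agent.Lib.Helper56.ON122760 (T)

/-- position of `y` in a list (its length if `y` does not occur) -/
noncomputable def idxIn (l : List ℕ) (y : ℕ) : ℕ :=
  List.rec (motive := fun _ => ℕ → ℕ) (fun i => i)
    (fun a _ ih i => Bool.rec (motive := fun _ => ℕ) (ih (Nat.succ i)) i (Nat.beq a y)) l 0

/-- three words in `a, …, f` fixing the names `0` and `1` -/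
def w2 : List (List ℕ) :=
  [[2, 3, 4, 3, 2, 4, 3, 5, 4, 3, 6, 5, 4, 3, 2, 4, 3, 6, 5, 4, 2, 3, 4, 5, 6, 4, 3, 4, 5, 2, 3, 4, 2, 3, 2],
   [2, 5, 4, 3, 2, 4, 3, 4, 3, 2, 5, 4, 3, 4, 3, 2, 5, 4, 6, 5, 3, 4, 2, 3, 4, 5, 1, 2, 3, 4, 3, 4, 5, 4, 2, 3],
   [2, 4, 3, 2, 1, 5, 4, 3, 2, 4, 3, 4, 3, 5, 4, 3, 2, 1, 3, 1, 2, 3, 4, 5, 3, 4, 2, 3, 4, 1, 2, 3, 4, 5, 4, 3]]

/-- the 64 names of an orbit -/
def oO : List ℕ :=
  [29, 74895, 13712, 237, 19330, 82, 65668, 21333, 1405, 2939, 35649, 161, 951, 78150, 22181, 529, 828, 43302, 49179, 70374, 27479, 28147, 377, 53232, 27478, 52242, 43438, 357, 38215, 9906, 52827, 41240, 20298, 68007, 66, 3126, 16597, 201, 34487, 81350, 6321, 58825, 21330, 78049, 42096, 37660, 38669, 1752, 70, 22178, 36, 3475, 83553, 173, 26269, 2146, 49520, 75383, 36918, 102, 784, 20319, 452, 44344]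

/-- the parents in the orbit tree -/
def oPar : List ℕ :=
  [0, 0, 0, 0, 1, 1, 1, 2, 2, 3, 3, 3, 4, 4, 4, 5, 6, 6, 6, 7, 7, 7, 8, 8, 8, 9, 10, 12, 12, 12, 13, 14, 14, 14, 15, 16, 17, 19, 19, 19, 21, 21, 21, 23, 25, 26, 27, 27, 27, 29, 29, 29, 30, 32, 35, 36, 37, 39, 39, 41, 46, 48, 48, 50]

/-- the labels of the edges of the orbit tree -/
def oGen : List ℕ :=
  [0, 0, 1, 2, 0, 1, 2, 0, 2, 0, 1, 2, 0, 1, 2, 2, 0, 1, 2, 0, 1, 2, 0, 1, 2, 0, 0, 0, 1, 2, 2, 0, 1, 2, 2, 0, 0, 0, 1, 2, 0, 1, 2, 0, 2, 2, 0, 1, 2, 0, 1, 2, 2, 0, 2, 2, 1, 0, 2, 0, 1, 0, 2, 0]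

/-- the orbit certificate -/
noncomputable def R2 : Orb where
  m := 64
  ng := 3
  gw := nthL w2
  par := Tabs.nth 0 oPar
  gen := Tabs.nth 0 oGen
  O := Tabs.nth 0 oO
  Inv := idxIn oO

theorem R2_ok : allLt (fun c => chkOrb T R2 29 c) 64 = true := by decide +kernel

theorem w2_fix : allW (fun w => Nat.beq (T.followT w 0) 0 && Nat.beq (T.followT w 1) 1) w2 = true := by
  decide +kernel

theorem w2_lt : ∀ w ∈ w2, ∀ a ∈ w, a < 8 := by decide

theorem ol_zero : T.ol 0 = 0 := by decide +kernel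

theorem orep_lt : ∀ c < 5, T.orep c < 122760 := by decide +kernel

theorem olS_0 : allRange (fun x => forceN (fun v => Nat.blt (T.ol v) 5) x) 0 15345 = true := by
  decide +kernel
theorem olS_15345 : allRange (fun x => forceN (fun v => Nat.blt (T.ol v) 5) x) 15345 15345 = true := by
  decide +kernel
theorem olS_30690 : allRange (fun x => forceN (fun v => Nat.blt (T.ol v) 5) x) 30690 15345 = true := by
  decide +kernel
theorem olS_46035 : allRange (fun x => forceN (fun v => Nat.blt (T.ol v) 5) x) 46035 15345 = true := by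
  decide +kernel
theorem olS_61380 : allRange (fun x => forceN (fun v => Nat.blt (T.ol v) 5) x) 61380 15345 = true := by
  decide +kernel
theorem olS_76725 : allRange (fun x => forceN (fun v => Nat.blt (T.ol v) 5) x) 76725 15345 = true := by
  decide +kernel
theorem olS_92070 : allRange (fun x => forceN (fun v => Nat.blt (T.ol v) 5) x) 92070 15345 = true := by
  decide +kernel
theorem olS_107415 : allRange (fun x => forceN (fun v => Nat.blt (T.ol v) 5) x) 107415 15345 = true := by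
  decide +kernel

theorem olU_15345 : Upto (fun v => Nat.blt (T.ol v) 5) 15345 := upto_add (upto_zero _) rfl olS_0
theorem olU_30690 : Upto (fun v => Nat.blt (T.ol v) 5) 30690 := upto_add olU_15345 rfl olS_15345
theorem olU_46035 : Upto (fun v => Nat.blt (T.ol v) 5) 46035 := upto_add olU_30690 rfl olS_30690
theorem olU_61380 : Upto (fun v => Nat.blt (T.ol v) 5) 61380 := upto_add olU_46035 rfl olS_46035
theorem olU_76725 : Upto (fun v => Nat.blt (T.ol v) 5) 76725 := upto_add olU_61380 rfl olS_61380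
theorem olU_92070 : Upto (fun v => Nat.blt (T.ol v) 5) 92070 := upto_add olU_76725 rfl olS_76725
theorem olU_107415 : Upto (fun v => Nat.blt (T.ol v) 5) 107415 := upto_add olU_92070 rfl olS_92070
theorem olU_122760 : Upto (fun v => Nat.blt (T.ol v) 5) 122760 := upto_add olU_107415 rfl olS_107415

/-- the labels of the names are less than 5 -/
theorem ol_lt : ∀ v < 122760, T.ol v < 5 := fun v hv => blt_true (olU_122760 v hv)

end Cfsg.Agent.Lib.Helper19.ONG
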