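import Cfsg.Agent.Lib.Helper19.ONU6D

set_option autoImplicit false
set_option maxRecDepth 1000000

namespace Cfsg.Agent.Lib.Helper19.ONU6

open Cfsg.Agent.Lib.Helper56.TC Cfsg.Agent.Lib.Helper56.TC.Tabs

theorem cF_10800 : allRange (fun x => forceN T.chkFinName x) 10800 1200 = true := by decide +kernel
theorem cF_12000 : allRange (fun x => forceN T.chkFinName x) 12000 1200 = true := by decide +kernel
theorem cF_13200 : allRange (fun x => forceN T.chkFinName x) 13200 1200 = true := by decide +kernel
theorem cF_14400 : allRange (fun x => forceN T.chkFinName x) 14400 1200 = true := by decide +kernel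
theorem cF_15600 : allRange (fun x => forceN T.chkFinName x) 15600 1200 = true := by decide +kernel
theorem cF_16800 : allRange (fun x => forceN T.chkFinName x) 16800 1200 = true := by decide +kernel

end Cfsg.Agent.Lib.Helper19.ONU6
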