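import Cfsg.Agent.Lib.Helper19.FastPermI

/-!
# Stabiliser chains with explicit transversal words, and enumeration by sifting

For a permutation group `G ≤ Sym(d)` of known order with a base `b1, b2, b3, b4` and transversal
words for the stabiliser chain, every element of `G` factors as a product of transversal
elements (`fact_of_lvl`).  If the base points `b3, b4` are images of `b2` under words `A3, A4`,
the elements `g ∈ G` with `g * Y = Y' * g` (and `g * A3 = A3' * g`, `g * A4 = A4' * g`) are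
determined by the images of `b1` and `b2`; `siftOK` checks, for every such pair of images, that
the element is in an explicit list or violates the equation at a witness point (`sift_sound`).
-/

set_option autoImplicit false

namespace Cfsg.Agent.Lib.Helper19.Sift

open Equiv
open Cfsg.Agent.Lib.Helper19.RC (allBelow allBelow_iff)
open Cfsg.Agent.Lib.Helper19.FPI (PDataI)

/-- the word of a node of a Schreier tree (with fuel) -/
def tw (gw : ℕ → List ℕ) (par gen : ℕ → ℕ) : ℕ → ℕ → List ℕ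
  | 0, _ => []
  | f + 1, c => bif Nat.beq c 0 then [] else gw (gen c) ++ tw gw par gen f (par c)

/-- a level of a stabiliser chain: transversal words, their images of the base point, and the
inverse table of the images -/
structure Lvl where
  /-- transversal words -/
  w : ℕ → List ℕ
  /-- images of the base point -/
  O : ℕ → ℕ
  /-- inverse of `O` -/
  Inv : ℕ → ℕ
  /-- length of the orbit -/
  m : ℕ

/-- the word of a quadruple of transversal indices -/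
def wordOf (L1 L2 L3 L4 : Lvl) (τ : ℕ × ℕ × ℕ × ℕ) : List ℕ :=
  L1.w τ.1 ++ (L2.w τ.2.1 ++ (L3.w τ.2.2.1 ++ L4.w τ.2.2.2))

section
variable (P : PDataI)

/-- the product of the permutations of a word -/
def pr (h : P.ok = true) (w : List ℕ) : Perm (Fin P.d) := (w.map (P.perm h)).prod

theorem pr_val (h : P.ok = true) (w : List ℕ) (hw : P.wok w = true) (x : Fin P.d) :
    (pr P h w x).val = P.app w x.val := P.prod_val h w hw x

theorem pr_append (h : P.ok = true) (u v : List ℕ) : pr P h (u ++ v) = pr P h u * pr P h v := by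
  unfold pr
  rw [List.map_append, List.prod_append]

theorem wok_append (u v : List ℕ) (hu : P.wok u = true) (hv : P.wok v = true) :
    P.wok (u ++ v) = true := by
  rw [PDataI.wok_iff] at hu hv ⊢
  intro i hi
  rcases List.mem_append.mp hi with h | h
  · exact hu i h
  · exact hv i h

/-- apply the inverse of a word to a point -/
def appInv : List ℕ → ℕ → ℕ
  | [], x => x
  | i :: w, x => appInv w (P.π (P.inv i) x)

theorem pr_inv_val (h : P.ok = true) (w : List ℕ) (hw : P.wok w = true) (x : Fin P.d) :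
    ((pr P h w)⁻¹ x).val = appInv P w x.val := by
  induction w generalizing x with
  | nil => simp [pr, appInv]
  | cons a t ih =>
    rw [PDataI.wok_iff] at hw
    have hwt : P.wok t = true := (P.wok_iff t).mpr fun i hi => hw i (List.mem_cons_of_mem _ hi)
    have ha : a < P.n := hw a List.mem_cons_self
    have e : pr P h (a :: t) = P.perm h a * pr P h t := by
      unfold pr; rw [List.map_cons, List.prod_cons]
    rw [e, mul_inv_rev, Perm.mul_apply, ih hwt, ← P.perm_inv h a, PDataI.perm_val]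
    have hia : P.inv' a = P.inv a := by unfold PDataI.inv'; rw [if_pos ha]
    have hia' : P.inv a < P.n := ((P.ok_iff.mp h) a ha).1.1
    simp only [PDataI.act, hia, hia', x.2, if_true, appInv]

/-- the transversal words of a level map the base point `b` to distinct points and fix the
points of `fixed` -/
def lvlOK (L : Lvl) (b : ℕ) (fixed : List ℕ) : Bool :=
  allBelow (fun c => P.wok (L.w c) && Nat.beq (P.app (L.w c) b) (L.O c) &&
    Nat.beq (L.Inv (L.O c)) c && fixed.all (fun b' => Nat.beq (P.app (L.w c) b') b')) L.m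

theorem lvl_spec (L : Lvl) (b : ℕ) (fixed : List ℕ) (hl : lvlOK P L b fixed = true) :
    ∀ c < L.m, P.wok (L.w c) = true ∧ P.app (L.w c) b = L.O c ∧ L.Inv (L.O c) = c ∧
      ∀ b' ∈ fixed, P.app (L.w c) b' = b' := by
  simp only [lvlOK, allBelow_iff, Bool.and_eq_true, Nat.beq_eq, List.all_eq_true] at hl
  intro c hc
  obtain ⟨⟨⟨h1, h2⟩, h3⟩, h4⟩ := hl c hc
  exact ⟨h1, h2, h3, h4⟩

theorem lvl_inj (L : Lvl) (b : ℕ) (fixed : List ℕ) (hl : lvlOK P L b fixed = true) :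
    ∀ c < L.m, ∀ c' < L.m, L.O c = L.O c' → c = c' := by
  intro c hc c' hc' he
  rw [← (lvl_spec P L b fixed hl c hc).2.2.1, ← (lvl_spec P L b fixed hl c' hc').2.2.1, he]

theorem pr_fix (h : P.ok = true) (w : List ℕ) (hw : P.wok w = true) (b : ℕ) (hb : b < P.d)
    (hf : P.app w b = b) : pr P h w ⟨b, hb⟩ = ⟨b, hb⟩ := by
  apply Fin.ext
  rw [pr_val P h w hw]
  exact hf

end

/-- factorisation along a stabiliser chain of length four, from the order of the group -/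
theorem fact4 {d : ℕ} (G : Subgroup (Perm (Fin d))) (b1 b2 b3 b4 : Fin d) (m1 m2 m3 m4 : ℕ)
    (t1 t2 t3 t4 : ℕ → Perm (Fin d)) (O1 O2 O3 O4 : ℕ → ℕ)
    (h1 : ∀ c < m1, t1 c ∈ G ∧ (t1 c b1).val = O1 c)
    (i1 : ∀ c < m1, ∀ c' < m1, O1 c = O1 c' → c = c')
    (h2 : ∀ c < m2, t2 c ∈ G ∧ t2 c b1 = b1 ∧ (t2 c b2).val = O2 c)
    (i2 : ∀ c < m2, ∀ c' < m2, O2 c = O2 c' → c = c')
    (h3 : ∀ c < m3, t3 c ∈ G ∧ t3 c b1 = b1 ∧ t3 c b2 = b2 ∧ (t3 c b3).val = O3 c)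
    (i3 : ∀ c < m3, ∀ c' < m3, O3 c = O3 c' → c = c')
    (h4 : ∀ c < m4, t4 c ∈ G ∧ t4 c b1 = b1 ∧ t4 c b2 = b2 ∧ t4 c b3 = b3 ∧
      (t4 c b4).val = O4 c)
    (i4 : ∀ c < m4, ∀ c' < m4, O4 c = O4 c' → c = c')
    (hcard : Nat.card G ≤ m1 * m2 * m3 * m4) :
    ∀ g ∈ G, ∃ c1 < m1, ∃ c2 < m2, ∃ c3 < m3, ∃ c4 < m4,
      g = t1 c1 * t2 c2 * t3 c3 * t4 c4 := by
  let F : Fin m1 × Fin m2 × Fin m3 × Fin m4 → G := fun p =>
    ⟨t1 p.1 * t2 p.2.1 * t3 p.2.2.1 * t4 p.2.2.2,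
      mul_mem (mul_mem (mul_mem (h1 _ p.1.2).1 (h2 _ p.2.1.2).1) (h3 _ p.2.2.1.2).1)
        (h4 _ p.2.2.2.2).1⟩
  have hF : Function.Injective F := by
    rintro ⟨a1, a2, a3, a4⟩ ⟨c1, c2, c3, c4⟩ heq
    have heq' : t1 a1 * t2 a2 * t3 a3 * t4 a4 = t1 c1 * t2 c2 * t3 c3 * t4 c4 :=
      congrArg Subtype.val heq
    have e1 : ∀ (x1 : Fin m1) (x2 : Fin m2) (x3 : Fin m3) (x4 : Fin m4),
        ((t1 x1 * t2 x2 * t3 x3 * t4 x4) b1).val = O1 x1 := by
      intro x1 x2 x3 x4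
      rw [Perm.mul_apply, Perm.mul_apply, Perm.mul_apply, (h4 _ x4.2).2.1, (h3 _ x3.2).2.1,
        (h2 _ x2.2).2.1]
      exact (h1 _ x1.2).2
    have ha1 : a1 = c1 := Fin.ext (i1 _ a1.2 _ c1.2
      (by rw [← e1 a1 a2 a3 a4, ← e1 c1 c2 c3 c4, heq']))
    subst ha1
    have heq2 : t2 a2 * t3 a3 * t4 a4 = t2 c2 * t3 c3 * t4 c4 := by
      have h := heq'
      simp only [mul_assoc] at h
      have h' := mul_left_cancel h
      simpa only [mul_assoc] using h'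
    have e2 : ∀ (x2 : Fin m2) (x3 : Fin m3) (x4 : Fin m4),
        ((t2 x2 * t3 x3 * t4 x4) b2).val = O2 x2 := by
      intro x2 x3 x4
      rw [Perm.mul_apply, Perm.mul_apply, (h4 _ x4.2).2.2.1, (h3 _ x3.2).2.2.1]
      exact (h2 _ x2.2).2.2
    have ha2 : a2 = c2 := Fin.ext (i2 _ a2.2 _ c2.2
      (by rw [← e2 a2 a3 a4, ← e2 c2 c3 c4, heq2]))
    subst ha2
    have heq3 : t3 a3 * t4 a4 = t3 c3 * t4 c4 := by
      have h := heq2
      simp only [mul_assoc] at h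
      exact mul_left_cancel h
    have e3 : ∀ (x3 : Fin m3) (x4 : Fin m4), ((t3 x3 * t4 x4) b3).val = O3 x3 := by
      intro x3 x4
      rw [Perm.mul_apply, (h4 _ x4.2).2.2.2.1]
      exact (h3 _ x3.2).2.2.2
    have ha3 : a3 = c3 := Fin.ext (i3 _ a3.2 _ c3.2 (by rw [← e3 a3 a4, ← e3 c3 c4, heq3]))
    subst ha3
    have heq4 : t4 a4 = t4 c4 := mul_left_cancel heq3
    have ha4 : a4 = c4 := Fin.ext (i4 _ a4.2 _ c4.2
      (by rw [← (h4 _ a4.2).2.2.2.2, ← (h4 _ c4.2).2.2.2.2, heq4]))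
    subst ha4
    rfl
  have hc : Nat.card G ≤ Nat.card (Fin m1 × Fin m2 × Fin m3 × Fin m4) := by
    rw [Nat.card_prod, Nat.card_prod, Nat.card_prod, Nat.card_fin, Nat.card_fin, Nat.card_fin,
      Nat.card_fin, ← Nat.mul_assoc, ← Nat.mul_assoc]
    exact hcard
  have hb : Function.Bijective F := hF.bijective_of_nat_card_le hc
  intro g hg
  obtain ⟨⟨a1, a2, a3, a4⟩, ha⟩ := hb.2 ⟨g, hg⟩
  exact ⟨a1, a1.2, a2, a2.2, a3, a3.2, a4, a4.2, (congrArg Subtype.val ha).symm⟩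

section
variable (P : PDataI)

/-- factorisation from the level certificates -/
theorem fact_of_lvl (h : P.ok = true) (G : Subgroup (Perm (Fin P.d)))
    (hG : ∀ i < P.n, P.perm h i ∈ G)
    (L1 L2 L3 L4 : Lvl) (b1 b2 b3 b4 : ℕ) (hb1 : b1 < P.d) (hb2 : b2 < P.d) (hb3 : b3 < P.d)
    (hb4 : b4 < P.d)
    (hl1 : lvlOK P L1 b1 [] = true) (hl2 : lvlOK P L2 b2 [b1] = true)
    (hl3 : lvlOK P L3 b3 [b1, b2] = true) (hl4 : lvlOK P L4 b4 [b1, b2, b3] = true)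
    (hcard : Nat.card G ≤ L1.m * L2.m * L3.m * L4.m) :
    ∀ g ∈ G, ∃ c1 < L1.m, ∃ c2 < L2.m, ∃ c3 < L3.m, ∃ c4 < L4.m,
      g = pr P h (L1.w c1) * pr P h (L2.w c2) * pr P h (L3.w c3) * pr P h (L4.w c4) := by
  have hmem : ∀ w : List ℕ, P.wok w = true → pr P h w ∈ G := by
    intro w hw
    apply Subgroup.list_prod_mem
    intro x hx
    rw [List.mem_map] at hx
    obtain ⟨i, hi, rfl⟩ := hx
    exact hG i ((P.wok_iff w).mp hw i hi)
  have s1 := lvl_spec P L1 b1 [] hl1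
  have s2 := lvl_spec P L2 b2 [b1] hl2
  have s3 := lvl_spec P L3 b3 [b1, b2] hl3
  have s4 := lvl_spec P L4 b4 [b1, b2, b3] hl4
  apply fact4 G ⟨b1, hb1⟩ ⟨b2, hb2⟩ ⟨b3, hb3⟩ ⟨b4, hb4⟩ L1.m L2.m L3.m L4.m
    (fun c => pr P h (L1.w c)) (fun c => pr P h (L2.w c)) (fun c => pr P h (L3.w c))
    (fun c => pr P h (L4.w c)) L1.O L2.O L3.O L4.O
  · intro c hc
    obtain ⟨hw, ho, _, _⟩ := s1 c hc
    exact ⟨hmem _ hw, by rw [pr_val P h _ hw]; exact ho⟩
  · exact lvl_inj P L1 b1 [] hl1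
  · intro c hc
    obtain ⟨hw, ho, _, hf⟩ := s2 c hc
    exact ⟨hmem _ hw, pr_fix P h _ hw b1 hb1 (hf b1 (by simp)),
      by rw [pr_val P h _ hw]; exact ho⟩
  · exact lvl_inj P L2 b2 [b1] hl2
  · intro c hc
    obtain ⟨hw, ho, _, hf⟩ := s3 c hc
    exact ⟨hmem _ hw, pr_fix P h _ hw b1 hb1 (hf b1 (by simp)),
      pr_fix P h _ hw b2 hb2 (hf b2 (by simp)), by rw [pr_val P h _ hw]; exact ho⟩
  · exact lvl_inj P L3 b3 [b1, b2] hl3
  · intro c hc
    obtain ⟨hw, ho, _, hf⟩ := s4 c hc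
    exact ⟨hmem _ hw, pr_fix P h _ hw b1 hb1 (hf b1 (by simp)),
      pr_fix P h _ hw b2 hb2 (hf b2 (by simp)), pr_fix P h _ hw b3 hb3 (hf b3 (by simp)),
      by rw [pr_val P h _ hw]; exact ho⟩
  · exact lvl_inj P L4 b4 [b1, b2, b3] hl4
  · exact hcard

/-- the check for the images `c1`, `c2` of the first two base points -/
def siftChk (L1 L2 L3 L4 : Lvl) (wY Y' A3' A4' : List ℕ) (acc : List (ℕ × ℕ × ℕ × ℕ))
    (wit : ℕ → ℕ → ℕ) (c1 c2 : ℕ) : Bool :=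
  let ω := P.app (L1.w c1) (L2.O c2)
  let c3 := L3.Inv (appInv P (L2.w c2) (appInv P (L1.w c1) (P.app A3' ω)))
  let c4 := L4.Inv (appInv P (L3.w c3) (appInv P (L2.w c2) (appInv P (L1.w c1) (P.app A4' ω))))
  acc.contains (c1, c2, c3, c4) ||
    (Nat.blt (wit c1 c2) P.d &&
      !(Nat.beq (P.app (wordOf L1 L2 L3 L4 (c1, c2, c3, c4)) (P.app wY (wit c1 c2)))
        (P.app Y' (P.app (wordOf L1 L2 L3 L4 (c1, c2, c3, c4)) (wit c1 c2)))))

/-- the sifting check -/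
def siftOK (L1 L2 L3 L4 : Lvl) (wY Y' A3' A4' : List ℕ) (acc : List (ℕ × ℕ × ℕ × ℕ))
    (wit : ℕ → ℕ → ℕ) : Bool :=
  allBelow (fun c1 => !(Nat.beq (P.app Y' (L1.O c1)) (L1.O c1)) ||
    allBelow (fun c2 => siftChk P L1 L2 L3 L4 wY Y' A3' A4' acc wit c1 c2) L2.m) L1.m

theorem sift_sound (h : P.ok = true) (G : Subgroup (Perm (Fin P.d)))
    (L1 L2 L3 L4 : Lvl) (b1 b2 b3 b4 : ℕ) (hb1 : b1 < P.d) (hb2 : b2 < P.d) (hb3 : b3 < P.d)
    (hb4 : b4 < P.d)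
    (hl1 : lvlOK P L1 b1 [] = true) (hl2 : lvlOK P L2 b2 [b1] = true)
    (hl3 : lvlOK P L3 b3 [b1, b2] = true) (hl4 : lvlOK P L4 b4 [b1, b2, b3] = true)
    (hfact : ∀ g ∈ G, ∃ c1 < L1.m, ∃ c2 < L2.m, ∃ c3 < L3.m, ∃ c4 < L4.m,
      g = pr P h (L1.w c1) * pr P h (L2.w c2) * pr P h (L3.w c3) * pr P h (L4.w c4))
    (wY Y' A3 A3' A4 A4' : List ℕ) (hwY : P.wok wY = true) (hY' : P.wok Y' = true)
    (hA3 : P.wok A3 = true) (hA3' : P.wok A3' = true) (hA4 : P.wok A4 = true)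
    (hA4' : P.wok A4' = true)
    (hYb1 : P.app wY b1 = b1) (hb3e : P.app A3 b2 = b3) (hb4e : P.app A4 b2 = b4)
    (acc : List (ℕ × ℕ × ℕ × ℕ)) (wit : ℕ → ℕ → ℕ)
    (hchk : siftOK P L1 L2 L3 L4 wY Y' A3' A4' acc wit = true)
    (g : Perm (Fin P.d)) (hg : g ∈ G)
    (hgY : g * pr P h wY = pr P h Y' * g) (hg3 : g * pr P h A3 = pr P h A3' * g)
    (hg4 : g * pr P h A4 = pr P h A4' * g) :
    ∃ k < acc.length, g = pr P h (wordOf L1 L2 L3 L4 (acc.getD k (0, 0, 0, 0))) := by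
  obtain ⟨c1, hc1, c2, hc2, c3, hc3, c4, hc4, hgf⟩ := hfact g hg
  obtain ⟨w1, o1, -, -⟩ := lvl_spec P L1 b1 [] hl1 c1 hc1
  obtain ⟨w2, o2, -, f2⟩ := lvl_spec P L2 b2 [b1] hl2 c2 hc2
  obtain ⟨w3, o3, v3, f3⟩ := lvl_spec P L3 b3 [b1, b2] hl3 c3 hc3
  obtain ⟨w4, o4, v4, f4⟩ := lvl_spec P L4 b4 [b1, b2, b3] hl4 c4 hc4
  set g1 := pr P h (L1.w c1) with hg1
  set g2 := pr P h (L2.w c2) with hg2
  set g3 := pr P h (L3.w c3) with hg3'
  set g4 := pr P h (L4.w c4) with hg4'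
  -- fixed points
  have g2b1 : g2 ⟨b1, hb1⟩ = ⟨b1, hb1⟩ := pr_fix P h _ w2 b1 hb1 (f2 b1 (by simp))
  have g3b1 : g3 ⟨b1, hb1⟩ = ⟨b1, hb1⟩ := pr_fix P h _ w3 b1 hb1 (f3 b1 (by simp))
  have g3b2 : g3 ⟨b2, hb2⟩ = ⟨b2, hb2⟩ := pr_fix P h _ w3 b2 hb2 (f3 b2 (by simp))
  have g4b1 : g4 ⟨b1, hb1⟩ = ⟨b1, hb1⟩ := pr_fix P h _ w4 b1 hb1 (f4 b1 (by simp))
  have g4b2 : g4 ⟨b2, hb2⟩ = ⟨b2, hb2⟩ := pr_fix P h _ w4 b2 hb2 (f4 b2 (by simp))
  have g4b3 : g4 ⟨b3, hb3⟩ = ⟨b3, hb3⟩ := pr_fix P h _ w4 b3 hb3 (f4 b3 (by simp))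
  -- images of the base points
  have gb1 : g ⟨b1, hb1⟩ = g1 ⟨b1, hb1⟩ := by
    rw [hgf, Perm.mul_apply, Perm.mul_apply, Perm.mul_apply, g4b1, g3b1, g2b1]
  have gb1v : (g ⟨b1, hb1⟩).val = L1.O c1 := by
    rw [gb1, hg1, pr_val P h _ w1]; exact o1
  have gb2 : g ⟨b2, hb2⟩ = g1 (g2 ⟨b2, hb2⟩) := by
    rw [hgf, Perm.mul_apply, Perm.mul_apply, Perm.mul_apply, g4b2, g3b2]
  have g2b2v : (g2 ⟨b2, hb2⟩).val = L2.O c2 := by
    rw [hg2, pr_val P h _ w2]; exact o2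
  have gb2v : (g ⟨b2, hb2⟩).val = P.app (L1.w c1) (L2.O c2) := by
    rw [gb2, hg1, pr_val P h _ w1, g2b2v]
  have gb3 : g ⟨b3, hb3⟩ = g1 (g2 (g3 ⟨b3, hb3⟩)) := by
    rw [hgf, Perm.mul_apply, Perm.mul_apply, Perm.mul_apply, g4b3]
  have gb4 : g ⟨b4, hb4⟩ = g1 (g2 (g3 (g4 ⟨b4, hb4⟩))) := by
    rw [hgf, Perm.mul_apply, Perm.mul_apply, Perm.mul_apply]
  -- the equation at the first base point
  have eY : pr P h wY ⟨b1, hb1⟩ = ⟨b1, hb1⟩ := pr_fix P h _ hwY b1 hb1 hYb1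
  have hfix : P.app Y' (L1.O c1) = L1.O c1 := by
    have e := congrArg (fun p : Perm (Fin P.d) => (p ⟨b1, hb1⟩).val) hgY
    simp only [Perm.mul_apply] at e
    rw [eY, pr_val P h _ hY', gb1v] at e
    exact e.symm
  -- the images of the third and fourth base points
  have e3 : pr P h A3 ⟨b2, hb2⟩ = ⟨b3, hb3⟩ := by
    apply Fin.ext; rw [pr_val P h _ hA3]; exact hb3e
  have e4 : pr P h A4 ⟨b2, hb2⟩ = ⟨b4, hb4⟩ := by
    apply Fin.ext; rw [pr_val P h _ hA4]; exact hb4e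
  have gb3v : (g ⟨b3, hb3⟩).val = P.app A3' (P.app (L1.w c1) (L2.O c2)) := by
    have e := congrArg (fun p : Perm (Fin P.d) => (p ⟨b2, hb2⟩).val) hg3
    simp only [Perm.mul_apply] at e
    rw [e3, pr_val P h _ hA3', gb2v] at e
    exact e
  have gb4v : (g ⟨b4, hb4⟩).val = P.app A4' (P.app (L1.w c1) (L2.O c2)) := by
    have e := congrArg (fun p : Perm (Fin P.d) => (p ⟨b2, hb2⟩).val) hg4
    simp only [Perm.mul_apply] at e
    rw [e4, pr_val P h _ hA4', gb2v] at e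
    exact e
  have k3 : L3.O c3 = appInv P (L2.w c2) (appInv P (L1.w c1)
      (P.app A3' (P.app (L1.w c1) (L2.O c2)))) := by
    have e : g3 ⟨b3, hb3⟩ = g2⁻¹ (g1⁻¹ (g ⟨b3, hb3⟩)) := by
      rw [gb3, Perm.inv_def, Perm.inv_def, Equiv.symm_apply_apply, Equiv.symm_apply_apply]
    have e' := congrArg Fin.val e
    rw [hg3', pr_val P h _ w3, o3, hg2, pr_inv_val P h _ w2, hg1, pr_inv_val P h _ w1, gb3v]
      at e'
    exact e'
  have k4 : L4.O c4 = appInv P (L3.w c3) (appInv P (L2.w c2) (appInv P (L1.w c1)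
      (P.app A4' (P.app (L1.w c1) (L2.O c2))))) := by
    have e : g4 ⟨b4, hb4⟩ = g3⁻¹ (g2⁻¹ (g1⁻¹ (g ⟨b4, hb4⟩))) := by
      rw [gb4, Perm.inv_def, Perm.inv_def, Perm.inv_def, Equiv.symm_apply_apply,
        Equiv.symm_apply_apply, Equiv.symm_apply_apply]
    have e' := congrArg Fin.val e
    rw [hg4', pr_val P h _ w4, o4, hg3', pr_inv_val P h _ w3, hg2, pr_inv_val P h _ w2, hg1,
      pr_inv_val P h _ w1, gb4v] at e'
    exact e'
  -- the check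
  simp only [siftOK, allBelow_iff, Bool.or_eq_true, Bool.not_eq_true'] at hchk
  have hc := (hchk c1 hc1).resolve_left (fun hne => Nat.ne_of_beq_eq_false hne hfix) c2 hc2
  simp only [siftChk, ← k3, v3, ← k4, v4, Bool.or_eq_true, Bool.and_eq_true, Nat.blt_eq,
    Bool.not_eq_true'] at hc
  have hword : g = pr P h (wordOf L1 L2 L3 L4 (c1, c2, c3, c4)) := by
    rw [hgf]
    show g1 * g2 * g3 * g4 = pr P h (L1.w c1 ++ (L2.w c2 ++ (L3.w c3 ++ L4.w c4)))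
    rw [pr_append, pr_append, pr_append, hg1, hg2, hg3', hg4']
    simp only [mul_assoc]
  have hwok : P.wok (wordOf L1 L2 L3 L4 (c1, c2, c3, c4)) = true :=
    wok_append P _ _ w1 (wok_append P _ _ w2 (wok_append P _ _ w3 w4))
  rcases hc with hc | ⟨hv, hne⟩
  · have hmem : (c1, c2, c3, c4) ∈ acc := List.mem_of_elem_eq_true hc
    obtain ⟨k, hk, hkv⟩ := List.getElem_of_mem hmem
    refine ⟨k, hk, ?_⟩
    rw [List.getD_eq_getElem _ _ hk, hkv]
    exact hword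
  · exfalso
    apply Nat.ne_of_beq_eq_false hne
    have e := congrArg (fun p : Perm (Fin P.d) => (p ⟨wit c1 c2, hv⟩).val) hgY
    simp only [Perm.mul_apply] at e
    rw [hword, pr_val P h _ hwok, pr_val P h _ hwY, pr_val P h _ hY', pr_val P h _ hwok] at e
    exact e

end

end Cfsg.Agent.Lib.Helper19.Sift
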