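import Cfsg.Agent.Lib.Helper19.SiftB

/-!
# Stabiliser chains of arbitrary length, and enumeration by sifting

A list of levels `Ls` for a list of base points `bs` (`lvlsOK`); if the product of the lengths of
the transversals is at least the order of the group, every element is the product of transversal
words (`factL`), and the word is computed from the images of the base points (`siftW`).  For a
base of the form `b, Y b, Y² b, …` the elements `g` with `g Y = Y' g` are determined by the image
of `b`; `siftChkY` checks, for every candidate image, that the element is in an explicit list or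
violates the equation at a witness point (`sift_soundY`).  Also: membership of all letters in a
subgroup from defining words (`mem_hier`).
-/

set_option autoImplicit false

namespace Cfsg.Agent.Lib.Helper19.Sift

open Equiv
open Cfsg.Agent.Lib.Helper19.RC (allBelow allBelow_iff)
open Cfsg.Agent.Lib.Helper19.FPI (PDataI)

variable (P : PDataI)

/-- the levels are certified for the base points `bs`, fixing the points of `fixed` -/
def lvlsOK : List Lvl → List ℕ → List ℕ → Bool
  | [], [], _ => true
  | L :: Ls, b :: bs, fixed => Nat.blt b P.d && lvlOK P L b fixed && lvlsOK Ls bs (b :: fixed)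
  | _, _, _ => false

/-- the word of a list of transversal indices -/
def wordL : List Lvl → List ℕ → List ℕ
  | L :: Ls, c :: cs => L.w c ++ wordL Ls cs
  | _, _ => []

/-- valid transversal indices -/
def validL : List Lvl → List ℕ → Prop
  | [], [] => True
  | L :: Ls, c :: cs => c < L.m ∧ validL Ls cs
  | _, _ => False

theorem lvls_nil (fixed : List ℕ) : lvlsOK P [] [] fixed = true := rfl

theorem lvls_cons (L : Lvl) (Ls : List Lvl) (b : ℕ) (bs fixed : List ℕ) (hb : b < P.d)
    (hl : lvlOK P L b fixed = true) (hr : lvlsOK P Ls bs (b :: fixed) = true) :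
    lvlsOK P (L :: Ls) (b :: bs) fixed = true := by
  simp only [lvlsOK, Bool.and_eq_true, Nat.blt_eq]
  exact ⟨⟨hb, hl⟩, hr⟩

theorem app_append (u v : List ℕ) (x : ℕ) : P.app (u ++ v) x = P.app u (P.app v x) := by
  induction u with
  | nil => rfl
  | cons a t ih =>
    show P.π a (P.app (t ++ v) x) = P.π a (P.app t (P.app v x))
    rw [ih]

theorem lvls_lt : ∀ (Ls : List Lvl) (bs fixed : List ℕ), lvlsOK P Ls bs fixed = true →
    ∀ b ∈ bs, b < P.d
  | [], [], _, _ => by intro b hb; simp at hb
  | [], _ :: _, _, h => by simp [lvlsOK] at h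
  | _ :: _, [], _, h => by simp [lvlsOK] at h
  | L :: Ls, b :: bs, fixed, h => by
    simp only [lvlsOK, Bool.and_eq_true, Nat.blt_eq] at h
    intro b' hb'
    rcases List.mem_cons.mp hb' with rfl | hb'
    · exact h.1.1
    · exact lvls_lt Ls bs (b :: fixed) h.2 b' hb'

theorem lvls_spec : ∀ (Ls : List Lvl) (bs fixed : List ℕ), lvlsOK P Ls bs fixed = true →
    ∀ L ∈ Ls, ∀ c < L.m, P.wok (L.w c) = true ∧ ∀ b' ∈ fixed, P.app (L.w c) b' = b'
  | [], _, _, _ => by intro L hL; simp at hL
  | _ :: _, [], _, h => by simp [lvlsOK] at h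
  | L :: Ls, b :: bs, fixed, h => by
    simp only [lvlsOK, Bool.and_eq_true, Nat.blt_eq] at h
    obtain ⟨⟨_, hl⟩, hr⟩ := h
    intro L' hL' c hc
    rcases List.mem_cons.mp hL' with rfl | hL'
    · obtain ⟨hw, _, _, hf⟩ := lvl_spec P L' b fixed hl c hc
      exact ⟨hw, hf⟩
    · obtain ⟨hw, hf⟩ := lvls_spec Ls bs (b :: fixed) hr L' hL' c hc
      exact ⟨hw, fun b' hb' => hf b' (List.mem_cons_of_mem _ hb')⟩

theorem wordL_spec : ∀ (Ls : List Lvl) (bs fixed : List ℕ), lvlsOK P Ls bs fixed = true →
    ∀ cs, validL Ls cs → P.wok (wordL Ls cs) = true ∧ ∀ b' ∈ fixed, P.app (wordL Ls cs) b' = b'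
  | [], _, _, _ => by
    intro cs _
    exact ⟨rfl, fun b' _ => rfl⟩
  | _ :: _, [], _, h => by simp [lvlsOK] at h
  | L :: Ls, b :: bs, fixed, h => by
    intro cs hcs
    cases cs with
    | nil => exact absurd hcs (by simp [validL])
    | cons c cs =>
      obtain ⟨hc, hcs'⟩ := hcs
      simp only [lvlsOK, Bool.and_eq_true, Nat.blt_eq] at h
      obtain ⟨⟨_, hl⟩, hr⟩ := h
      obtain ⟨hw, _, _, hf⟩ := lvl_spec P L b fixed hl c hc
      obtain ⟨hwW, hfW⟩ := wordL_spec Ls bs (b :: fixed) hr cs hcs'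
      refine ⟨wok_append P _ _ hw hwW, fun b' hb' => ?_⟩
      show P.app (L.w c ++ wordL Ls cs) b' = b'
      rw [app_append, hfW b' (List.mem_cons_of_mem _ hb'), hf b' hb']

/-- factorisation along a stabiliser chain, from the order of the group -/
theorem factL (h : P.ok = true) : ∀ (Ls : List Lvl) (bs fixed : List ℕ),
    lvlsOK P Ls bs fixed = true →
    ∀ H : Subgroup (Perm (Fin P.d)), (∀ L ∈ Ls, ∀ c < L.m, pr P h (L.w c) ∈ H) →
      Nat.card H ≤ (Ls.map (fun L => L.m)).prod →
      (Ls.map (fun L => L.m)).prod ≤ Nat.card H ∧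
        ∀ g ∈ H, ∃ cs, validL Ls cs ∧ g = pr P h (wordL Ls cs)
  | [], _, _, _ => by
    intro H _ hc
    simp only [List.map_nil, List.prod_nil] at hc ⊢
    refine ⟨Nat.card_pos, fun g hg => ⟨[], trivial, ?_⟩⟩
    have hbot : H = ⊥ := H.eq_bot_of_card_le hc
    rw [hbot, Subgroup.mem_bot] at hg
    rw [hg]
    rfl
  | _ :: _, [], _, hl => by simp [lvlsOK] at hl
  | L :: Ls, b :: bs, fixed, hl => by
    intro H hH hc
    simp only [lvlsOK, Bool.and_eq_true, Nat.blt_eq] at hl
    obtain ⟨⟨hb, hl1⟩, hr⟩ := hl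
    rw [List.map_cons, List.prod_cons] at hc ⊢
    have hspec := lvl_spec P L b fixed hl1
    have hinj := lvl_inj P L b fixed hl1
    have hHb : ∀ L' ∈ Ls, ∀ c < L'.m, pr P h (L'.w c) ∈
        (H ⊓ MulAction.stabilizer (Perm (Fin P.d)) (⟨b, hb⟩ : Fin P.d) :
          Subgroup (Perm (Fin P.d))) := by
      intro L' hL' c hc'
      obtain ⟨hw, hf⟩ := lvls_spec P Ls bs (b :: fixed) hr L' hL' c hc'
      refine Subgroup.mem_inf.mpr ⟨hH L' (List.mem_cons_of_mem _ hL') c hc', ?_⟩
      rw [MulAction.mem_stabilizer_iff, Perm.smul_def]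
      exact pr_fix P h _ hw b hb (hf b List.mem_cons_self)
    have hfixed : ∀ p : (H ⊓ MulAction.stabilizer (Perm (Fin P.d)) (⟨b, hb⟩ : Fin P.d) :
        Subgroup (Perm (Fin P.d))), (p : Perm (Fin P.d)) ⟨b, hb⟩ = ⟨b, hb⟩ := by
      intro p
      have := (Subgroup.mem_inf.mp p.2).2
      rwa [MulAction.mem_stabilizer_iff, Perm.smul_def] at this
    let F : Fin L.m × (H ⊓ MulAction.stabilizer (Perm (Fin P.d)) (⟨b, hb⟩ : Fin P.d) :
        Subgroup (Perm (Fin P.d))) → H := fun p =>
      ⟨pr P h (L.w p.1) * p.2, mul_mem (hH L List.mem_cons_self p.1 p.1.2)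
        (Subgroup.mem_inf.mp p.2.2).1⟩
    have h1 : ∀ (c : Fin L.m) (p : (H ⊓ MulAction.stabilizer (Perm (Fin P.d))
        (⟨b, hb⟩ : Fin P.d) : Subgroup (Perm (Fin P.d)))),
        ((pr P h (L.w c) * (p : Perm (Fin P.d))) ⟨b, hb⟩).val = L.O c := by
      intro c p
      rw [Perm.mul_apply, hfixed p, pr_val P h _ (hspec c c.2).1]
      exact (hspec c c.2).2.1
    have hF : Function.Injective F := by
      rintro ⟨c, p⟩ ⟨c', p'⟩ heq
      have heq' : pr P h (L.w c) * (p : Perm (Fin P.d)) =
          pr P h (L.w c') * (p' : Perm (Fin P.d)) := congrArg Subtype.val heq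
      have hcc : (c : ℕ) = c' := hinj c c.2 c' c'.2 (by rw [← h1 c p, ← h1 c' p', heq'])
      have hcc' : c = c' := Fin.ext hcc
      subst hcc'
      have := mul_left_cancel heq'
      rw [Subtype.ext this]
    have hcardF : Nat.card (Fin L.m × (H ⊓ MulAction.stabilizer (Perm (Fin P.d))
        (⟨b, hb⟩ : Fin P.d) : Subgroup (Perm (Fin P.d)))) =
        L.m * Nat.card (H ⊓ MulAction.stabilizer (Perm (Fin P.d)) (⟨b, hb⟩ : Fin P.d) :
          Subgroup (Perm (Fin P.d))) := by
      rw [Nat.card_prod, Nat.card_fin]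
    have hle1 : L.m * Nat.card (H ⊓ MulAction.stabilizer (Perm (Fin P.d)) (⟨b, hb⟩ : Fin P.d) :
        Subgroup (Perm (Fin P.d))) ≤ Nat.card H := by
      rw [← hcardF]
      exact Nat.card_le_card_of_injective F hF
    have hmpos : 0 < L.m := by
      rcases Nat.eq_zero_or_pos L.m with h0 | h0
      · rw [h0, Nat.zero_mul] at hc
        have := Nat.card_pos (α := H)
        omega
      · exact h0
    have hle2 : Nat.card (H ⊓ MulAction.stabilizer (Perm (Fin P.d)) (⟨b, hb⟩ : Fin P.d) :
        Subgroup (Perm (Fin P.d))) ≤ (Ls.map (fun L => L.m)).prod :=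
      Nat.le_of_mul_le_mul_left (le_trans hle1 hc) hmpos
    obtain ⟨hlow, hfac⟩ := factL h Ls bs (b :: fixed) hr _ hHb hle2
    have hbij : Function.Bijective F := hF.bijective_of_nat_card_le (by
      rw [hcardF]
      exact le_trans hc (Nat.mul_le_mul_left _ hlow))
    refine ⟨le_trans (Nat.mul_le_mul_left _ hlow) hle1, fun g hg => ?_⟩
    obtain ⟨⟨c, p⟩, hp⟩ := hbij.2 ⟨g, hg⟩
    obtain ⟨cs, hcs, hpe⟩ := hfac p p.2
    refine ⟨c :: cs, ⟨c.2, hcs⟩, ?_⟩
    have hp' : pr P h (L.w c) * (p : Perm (Fin P.d)) = g := congrArg Subtype.val hp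
    show g = pr P h (L.w c ++ wordL Ls cs)
    rw [pr_append, ← hpe]
    exact hp'.symm

/-- the image of a point under a permutation, on `ℕ` -/
def valOf {d : ℕ} (g : Perm (Fin d)) (b : ℕ) : ℕ := if hb : b < d then (g ⟨b, hb⟩).val else b

theorem valOf_lt {d : ℕ} (g : Perm (Fin d)) (b : ℕ) (hb : b < d) :
    valOf g b = (g ⟨b, hb⟩).val := dif_pos hb

theorem valOf_pr (h : P.ok = true) (w : List ℕ) (hw : P.wok w = true) (b : ℕ) (hb : b < P.d) :
    valOf (pr P h w) b = P.app w b := by
  rw [valOf_lt _ b hb, pr_val P h w hw]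

/-- sifting: the word of the element with the given images of the base points -/
def siftW : List Lvl → List ℕ → List ℕ → Option (List ℕ)
  | [], _, acc => some acc
  | _ :: _, [], _ => none
  | L :: Ls, T :: Ts, acc =>
    bif Nat.blt (L.Inv (appInv P acc T)) L.m &&
        Nat.beq (L.O (L.Inv (appInv P acc T))) (appInv P acc T) then
      siftW Ls Ts (acc ++ L.w (L.Inv (appInv P acc T)))
    else none

theorem siftW_spec (h : P.ok = true) : ∀ (Ls : List Lvl) (bs fixed : List ℕ),
    lvlsOK P Ls bs fixed = true → ∀ (cs : List ℕ), validL Ls cs →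
    ∀ (acc : List ℕ), P.wok acc = true →
      siftW P Ls (bs.map (valOf (pr P h acc * pr P h (wordL Ls cs)))) acc =
        some (acc ++ wordL Ls cs)
  | [], _, _, _ => by
    intro cs _ acc _
    show some acc = some (acc ++ [])
    rw [List.append_nil]
  | _ :: _, [], _, hl => by simp [lvlsOK] at hl
  | L :: Ls, b :: bs, fixed, hl => by
    intro cs hcs acc hacc
    cases cs with
    | nil => exact absurd hcs (by simp [validL])
    | cons c cs =>
      obtain ⟨hc, hcs'⟩ := hcs
      simp only [lvlsOK, Bool.and_eq_true, Nat.blt_eq] at hl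
      obtain ⟨⟨hb, hl1⟩, hr⟩ := hl
      obtain ⟨hw, ho, hv, _⟩ := lvl_spec P L b fixed hl1 c hc
      obtain ⟨hwW, hfW⟩ := wordL_spec P Ls bs (b :: fixed) hr cs hcs'
      have e1 : wordL (L :: Ls) (c :: cs) = L.w c ++ wordL Ls cs := rfl
      have hg : pr P h acc * pr P h (wordL (L :: Ls) (c :: cs)) =
          pr P h (acc ++ L.w c) * pr P h (wordL Ls cs) := by
        rw [e1, pr_append, pr_append, mul_assoc]
      have hp : appInv P acc (valOf (pr P h acc * pr P h (wordL (L :: Ls) (c :: cs))) b) =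
          L.O c := by
        rw [valOf_lt _ b hb, ← pr_inv_val P h acc hacc, e1, pr_append, Perm.mul_apply,
          Perm.mul_apply, pr_fix P h _ hwW b hb (hfW b List.mem_cons_self), Perm.inv_def, Equiv.symm_apply_apply,
          pr_val P h _ hw]
        exact ho
      have hlt : Nat.blt c L.m = true := by rw [Nat.blt_eq]; exact hc
      rw [List.map_cons]
      show (bif Nat.blt (L.Inv (appInv P acc _)) L.m &&
          Nat.beq (L.O (L.Inv (appInv P acc _))) (appInv P acc _) then
        siftW P Ls _ (acc ++ L.w (L.Inv (appInv P acc _))) else none) = _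
      rw [hp, hv, hlt, Nat.beq_refl, Bool.and_self, cond_true, hg,
        siftW_spec h Ls bs (b :: fixed) hr cs hcs' (acc ++ L.w c) (wok_append P _ _ hacc hw),
        List.append_assoc]
      rfl

/-- two elements of the group with the same images of the base points are equal -/
theorem base_eqL (h : P.ok = true) (G : Subgroup (Perm (Fin P.d))) (Ls : List Lvl) (bs : List ℕ)
    (hl : lvlsOK P Ls bs [] = true)
    (hfact : ∀ g ∈ G, ∃ cs, validL Ls cs ∧ g = pr P h (wordL Ls cs))
    (u v : Perm (Fin P.d)) (hu : u ∈ G) (hv : v ∈ G) (he : ∀ b ∈ bs, valOf u b = valOf v b) :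
    u = v := by
  obtain ⟨cu, hcu, hu'⟩ := hfact u hu
  obtain ⟨cv, hcv, hv'⟩ := hfact v hv
  have su := siftW_spec P h Ls bs [] hl cu hcu [] rfl
  have sv := siftW_spec P h Ls bs [] hl cv hcv [] rfl
  rw [pr_nil, one_mul, ← hu'] at su
  rw [pr_nil, one_mul, ← hv'] at sv
  have hm : bs.map (valOf u) = bs.map (valOf v) := List.map_congr_left he
  rw [hm, sv] at su
  have e := Option.some.inj su
  rw [List.nil_append, List.nil_append] at e
  rw [hu', hv', e]

/-- two words in the group with the same images of the base points are equal -/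
theorem base_eqW (h : P.ok = true) (G : Subgroup (Perm (Fin P.d))) (Ls : List Lvl) (bs : List ℕ)
    (hl : lvlsOK P Ls bs [] = true)
    (hfact : ∀ g ∈ G, ∃ cs, validL Ls cs ∧ g = pr P h (wordL Ls cs))
    (u v : List ℕ) (hu : P.wok u = true) (hv : P.wok v = true) (huG : pr P h u ∈ G)
    (hvG : pr P h v ∈ G) (he : ∀ b ∈ bs, P.app u b = P.app v b) : pr P h u = pr P h v := by
  apply base_eqL P h G Ls bs hl hfact _ _ huG hvG
  intro b hb
  have hlt := lvls_lt P Ls bs [] hl b hb
  rw [valOf_pr P h u hu b hlt, valOf_pr P h v hv b hlt]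
  exact he b hb

theorem valOf_iterate (h : P.ok = true) (g : Perm (Fin P.d)) (wY Y' : List ℕ)
    (hwY : P.wok wY = true) (hY' : P.wok Y' = true)
    (hgY : g * pr P h wY = pr P h Y' * g) : ∀ (n b : ℕ), b < P.d →
    (List.iterate (P.app wY) b n).map (valOf g) = List.iterate (P.app Y') (valOf g b) n
  | 0, _, _ => rfl
  | n + 1, b, hb => by
    have hb' : P.app wY b < P.d := by
      have := (pr P h wY ⟨b, hb⟩).2
      rwa [pr_val P h wY hwY] at this
    have e : valOf g (P.app wY b) = P.app Y' (valOf g b) := by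
      rw [valOf_lt g _ hb', valOf_lt g _ hb]
      have e1 := congrArg (fun p : Perm (Fin P.d) => (p ⟨b, hb⟩).val) hgY
      simp only [Perm.mul_apply] at e1
      rw [pr_val P h Y' hY'] at e1
      rw [← e1]
      congr 2
      apply Fin.ext
      rw [pr_val P h wY hwY]
    show (b :: List.iterate (P.app wY) (P.app wY b) n).map (valOf g) =
      valOf g b :: List.iterate (P.app Y') (P.app Y' (valOf g b)) n
    rw [List.map_cons, valOf_iterate h g wY Y' hwY hY' hgY n _ hb', e]

/-- the check for the image `v` of the first base point -/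
def siftChkY (Ls : List Lvl) (wY Y' : List ℕ) (n : ℕ) (acc : List (List ℕ)) (wit : ℕ → ℕ)
    (v : ℕ) : Bool :=
  match siftW P Ls (List.iterate (P.app Y') v n) [] with
  | none => true
  | some w => acc.contains w || (Nat.blt (wit v) P.d &&
      !(Nat.beq (P.app w (P.app wY (wit v))) (P.app Y' (P.app w (wit v)))))

theorem sift_soundY (h : P.ok = true) (G : Subgroup (Perm (Fin P.d))) (Ls : List Lvl)
    (b0 n : ℕ) (hb0 : b0 < P.d) (wY Y' : List ℕ) (hwY : P.wok wY = true)
    (hY' : P.wok Y' = true)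
    (hl : lvlsOK P Ls (List.iterate (P.app wY) b0 n) [] = true)
    (hfact : ∀ g ∈ G, ∃ cs, validL Ls cs ∧ g = pr P h (wordL Ls cs))
    (acc : List (List ℕ)) (wit : ℕ → ℕ)
    (hchk : allBelow (fun v => siftChkY P Ls wY Y' n acc wit v) P.d = true)
    (g : Perm (Fin P.d)) (hg : g ∈ G) (hgY : g * pr P h wY = pr P h Y' * g) :
    ∃ k < acc.length, g = pr P h (acc.getD k []) := by
  obtain ⟨cs, hcs, hgw⟩ := hfact g hg
  obtain ⟨hwok, -⟩ := wordL_spec P Ls _ [] hl cs hcs
  have key : ∀ u, u < P.d →
      P.app (wordL Ls cs) (P.app wY u) = P.app Y' (P.app (wordL Ls cs) u) := by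
    intro u hu
    have e := congrArg (fun p : Perm (Fin P.d) => (p ⟨u, hu⟩).val) hgY
    simp only [Perm.mul_apply] at e
    rw [hgw, pr_val P h _ hwok, pr_val P h _ hwY, pr_val P h _ hY', pr_val P h _ hwok] at e
    exact e
  have hs := siftW_spec P h Ls _ [] hl cs hcs [] rfl
  have e0 : pr P h [] * pr P h (wordL Ls cs) = g := by rw [pr_nil, one_mul, hgw]
  rw [e0, valOf_iterate P h g wY Y' hwY hY' hgY n b0 hb0, List.nil_append] at hs
  rw [allBelow_iff] at hchk
  have hv : valOf g b0 < P.d := by
    rw [valOf_lt g b0 hb0]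
    exact Fin.isLt _
  have hc := hchk _ hv
  unfold siftChkY at hc
  rw [hs] at hc
  simp only [Bool.or_eq_true, Bool.and_eq_true, Nat.blt_eq, Bool.not_eq_true'] at hc
  rcases hc with hc | ⟨hv', hne⟩
  · have hmem : wordL Ls cs ∈ acc := List.mem_of_elem_eq_true hc
    obtain ⟨k, hk, hkv⟩ := List.getElem_of_mem hmem
    exact ⟨k, hk, by rw [List.getD_eq_getElem _ _ hk, hkv]; exact hgw⟩
  · exact absurd (key _ hv') (Nat.ne_of_beq_eq_false hne)

/-- the structure of the defining words: every letter in scope is a base letter, the inverse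
letter of a smaller letter in scope, or has a defining word in smaller letters in scope -/
def hierOK (ok base : ℕ → Bool) (dw : ℕ → List ℕ) : Bool :=
  allBelow (fun i => !(ok i) || base i || (Nat.blt (P.inv i) i && ok (P.inv i)) ||
    (Nat.blt i (P.inv i) && (dw i).all (fun a => ok a && Nat.blt a i))) P.n

theorem mem_hier (h : P.ok = true) (S : Subgroup (Perm (Fin P.d))) (ok base : ℕ → Bool)
    (dw : ℕ → List ℕ) (hh : hierOK P ok base dw = true)
    (hbase : ∀ i < P.n, base i = true → P.perm h i ∈ S)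
    (hdef : ∀ i < P.n, i < P.inv i → pr P h (dw i) = P.perm h i) :
    ∀ i < P.n, ok i = true → P.perm h i ∈ S := by
  simp only [hierOK, allBelow_iff, Bool.or_eq_true, Bool.and_eq_true, Bool.not_eq_true',
    Nat.blt_eq, List.all_eq_true] at hh
  intro i
  induction i using Nat.strong_induction_on with
  | _ i ih =>
    intro hi hok
    rcases hh i hi with ((hn | hb) | ⟨hlt, hoki⟩) | ⟨hlt, hall⟩
    · rw [hok] at hn
      exact absurd hn (by simp)
    · exact hbase i hi hb
    · have hi' : P.inv i < P.n := lt_trans hlt hi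
      have e : P.perm h i = (P.perm h (P.inv i))⁻¹ := by
        have h1 := P.perm_inv h (P.inv i)
        unfold PDataI.inv' at h1
        rw [if_pos hi', ((P.ok_iff.mp h) i hi).1.2] at h1
        exact h1
      rw [e]
      exact inv_mem (ih (P.inv i) hlt hi' hoki)
    · rw [← hdef i hi hlt]
      apply Subgroup.list_prod_mem
      intro g hg
      rw [List.mem_map] at hg
      obtain ⟨a, ha, rfl⟩ := hg
      obtain ⟨hoka, hai⟩ := hall a ha
      exact ih a hai (lt_trans hai hi) hoka

/-- a word all of whose letters lie in a subgroup lies in the subgroup -/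
theorem pr_mem_of (h : P.ok = true) (S : Subgroup (Perm (Fin P.d))) (w : List ℕ)
    (hw : ∀ a ∈ w, P.perm h a ∈ S) : pr P h w ∈ S := by
  apply Subgroup.list_prod_mem
  intro g hg
  rw [List.mem_map] at hg
  obtain ⟨a, ha, rfl⟩ := hg
  exact hw a ha

end Cfsg.Agent.Lib.Helper19.Sift
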