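import Cfsg.Agent.Lib.Helper19.SuzOrb
import Cfsg.Agent.Lib.Helper19.PermCert

/-!
# The Suzuki group on 1782 points: order and simplicity

`G = ⟨s 0, …, s 6⟩ ≤ Sym(1782)`.  The order is bounded above by the coset-table certificates
of the chain `⟨s 0, …, s (k-1)⟩` and below by orbit certificates; simplicity follows from
primitivity (rank 3, subdegrees 416 and 1365) and the fact that a Sylow 11-subgroup has order 11
while 11 divides the degree.
-/

set_option autoImplicit false

namespace Cfsg.Agent.Lib.Helper19.Suz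

open Equiv MulAction
open Cfsg.Agent.Lib.Helper19
open Cfsg.Agent.Lib.Helper19.Cox (L L_mono mem_L L_zero)
open Cfsg.Agent.Lib.Helper19.RC (allBelow allBelow_iff)
open Cfsg.Agent.Lib.Helper19.FP (tg16)

/-- the seven generating involutions -/
def s (i : ℕ) : Perm (Fin P.d) := P.perm P_ok i

theorem hs : ∀ i, s i * s i = 1 := P.perm_mul_self P_ok

theorem hrel : ∀ r, ((rels.getD r []).map s).prod = 1 := P.rel_getD P_ok rels rels_ok

/-- a point of `Fin 1782` -/
def pt (x : ℕ) (h : x < 1782 := by norm_num) : Fin P.d := ⟨x, h⟩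

/-! ### The upper bound -/

theorem card_L0 : Nat.card (L s 0) = 1 := by
  rw [L_zero]; exact Subgroup.card_bot

theorem upper : Nat.card (L s 7) ≤ 448345497600 := by
  have h1 := (RC.step_upper s C1 0 rfl C1_check hs hrel).2
  have h2 := (RC.step_upper s C2 1 rfl C2_check hs hrel).2
  have h3 := (RC.step_upper s C3 2 rfl C3_check hs hrel).2
  have h4 := (RC.step_upper s C4 3 rfl C4_check hs hrel).2
  have h5 := (RC.step_upper s C5 4 rfl C5_check hs hrel).2
  have h6 := (RC.step_upper s C6 5 rfl C6_check hs hrel).2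
  have h7 := (RC.step_upper s C7 6 rfl C7_check hs hrel).2
  rw [card_L0] at h1
  have e1 : C1.N = 2 := rfl
  have e2 : C2.N = 5 := rfl
  have e3 : C3.N = 6 := rfl
  have e4 : C4.N = 36 := rfl
  have e5 : C5.N = 280 := rfl
  have e6 : C6.N = 416 := rfl
  have e7 : C7.N = 1782 := rfl
  rw [e1] at h1; rw [e2] at h2; rw [e3] at h3; rw [e4] at h4; rw [e5] at h5; rw [e6] at h6
  rw [e7] at h7
  norm_num at h1 h2 h3 h4 h5 h6 h7
  omega

/-! ### The lower bound -/

theorem gen_word_mem (k : ℕ) : ∀ j < k, (([j] : List ℕ).map s).prod ∈ L s k := by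
  intro j hj
  simp only [List.map_cons, List.map_nil, List.prod_cons, List.prod_nil, mul_one]
  exact mem_L s hj

theorem fix0 : ∀ i < 6, P.act i 0 = 0 := by decide +kernel

theorem fix995 : ∀ i < 5, P.act i 995 = 995 := by decide +kernel

theorem L_le_stab (k : ℕ) (y : Fin P.d) (h : ∀ i < k, P.act i y.val = y.val) :
    L s k ≤ stabilizer (Perm (Fin P.d)) y := by
  unfold L
  rw [Subgroup.closure_le]
  rintro g ⟨i, hi, rfl⟩
  rw [SetLike.mem_coe, mem_stabilizer_iff, Perm.smul_def]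
  apply Fin.ext
  exact h i hi

theorem low7 : 1782 * Nat.card (L s 6) ≤ Nat.card (L s 7) := by
  have h := FP.orbit_lower (L s 7) (pt 0) 1782 (fun c => c)
    (P.orb_inj _ _ _ _ _ _ _ _ orb7)
    (P.orb_reach P_ok _ _ _ _ _ _ _ _ orb7 (L s 7) (gen_word_mem 7) (pt 0) rfl)
  have hle : L s 6 ≤ L s 7 ⊓ stabilizer (Perm (Fin P.d)) (pt 0) :=
    le_inf (L_mono s (by norm_num)) (L_le_stab 6 (pt 0) fix0)
  have := Subgroup.card_le_of_le hle
  calc 1782 * Nat.card (L s 6) ≤ 1782 * Nat.card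
        (L s 7 ⊓ stabilizer (Perm (Fin P.d)) (pt 0) : Subgroup (Perm (Fin P.d))) :=
        Nat.mul_le_mul_left _ this
    _ ≤ Nat.card (L s 7) := h

theorem low6 : 416 * Nat.card (L s 5) ≤ Nat.card (L s 6) := by
  have h := FP.orbit_lower (L s 6) (pt 995) 416 (fun c => tg16 tO6 c)
    (P.orb_inj _ _ _ _ _ _ _ _ orb6)
    (P.orb_reach P_ok _ _ _ _ _ _ _ _ orb6 (L s 6) (gen_word_mem 6) (pt 995) rfl)
  have hle : L s 5 ≤ L s 6 ⊓ stabilizer (Perm (Fin P.d)) (pt 995) :=
    le_inf (L_mono s (by norm_num)) (L_le_stab 5 (pt 995) fix995)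
  have := Subgroup.card_le_of_le hle
  calc 416 * Nat.card (L s 5) ≤ 416 * Nat.card
        (L s 6 ⊓ stabilizer (Perm (Fin P.d)) (pt 995) : Subgroup (Perm (Fin P.d))) :=
        Nat.mul_le_mul_left _ this
    _ ≤ Nat.card (L s 6) := h

/-- the stabiliser of the point 21 in `⟨s 0, …, s 4⟩` -/
def K1 : Subgroup (Perm (Fin P.d)) := L s 5 ⊓ stabilizer (Perm (Fin P.d)) (pt 21)

/-- the stabiliser of the point 8 in `K1` -/
def K2 : Subgroup (Perm (Fin P.d)) := K1 ⊓ stabilizer (Perm (Fin P.d)) (pt 8)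

theorem low5 : 1050 * Nat.card K1 ≤ Nat.card (L s 5) :=
  FP.orbit_lower (L s 5) (pt 21) 1050 (fun c => tg16 tO5 c)
    (P.orb_inj _ _ _ _ _ _ _ _ orb5)
    (P.orb_reach P_ok _ _ _ _ _ _ _ _ orb5 (L s 5) (gen_word_mem 5) (pt 21) rfl)

theorem k1_mem : ∀ j < 5, ((k1w.getD j []).map s).prod ∈ K1 := by
  intro j _
  have hk := k1_ok
  simp only [List.all_eq_true, Bool.and_eq_true, Nat.blt_eq, Nat.beq_eq] at hk
  by_cases hlt : j < k1w.length
  · rw [List.getD_eq_getElem _ _ hlt]
    obtain ⟨⟨h1, h2⟩, h3⟩ := hk _ (List.getElem_mem hlt)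
    exact Subgroup.mem_inf.mpr ⟨P.prod_mem_L P_ok _ 5 h2, P.prod_mem_stab P_ok _ h1 (pt 21) h3⟩
  · rw [List.getD_eq_default _ _ (Nat.le_of_not_lt hlt)]
    simp only [List.map_nil, List.prod_nil]
    exact one_mem _

theorem low4 : 192 * Nat.card K2 ≤ Nat.card K1 :=
  FP.orbit_lower K1 (pt 8) 192 (fun c => tg16 tO4 c)
    (P.orb_inj _ _ _ _ _ _ _ _ orb4)
    (P.orb_reach P_ok _ _ _ _ _ _ _ _ orb4 K1 k1_mem (pt 8) rfl)

theorem k2_mem : ∀ j < 1, (((fun _ : ℕ => k2w) j).map s).prod ∈ K2 := by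
  intro j _
  have hk := k2_ok
  simp only [List.all_eq_true, Bool.and_eq_true, Nat.blt_eq, Nat.beq_eq] at hk
  obtain ⟨⟨⟨h1, h2⟩, h3⟩, h4⟩ := hk
  exact Subgroup.mem_inf.mpr ⟨Subgroup.mem_inf.mpr
    ⟨P.prod_mem_L P_ok _ 5 h2, P.prod_mem_stab P_ok _ h1 (pt 21) h3⟩,
    P.prod_mem_stab P_ok _ h1 (pt 8) h4⟩

theorem low3 : 3 ≤ Nat.card K2 := by
  have h := FP.orbit_lower K2 (pt 14) 3 (fun c => tg16 tO3 c)
    (P.orb_inj _ _ _ _ _ _ _ _ orb3)
    (P.orb_reach P_ok _ _ _ _ _ _ _ _ orb3 K2 k2_mem (pt 14) rfl)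
  have hpos : 0 < Nat.card
      (K2 ⊓ stabilizer (Perm (Fin P.d)) (pt 14) : Subgroup (Perm (Fin P.d))) := Nat.card_pos
  calc 3 = 3 * 1 := rfl
    _ ≤ 3 * Nat.card
      (K2 ⊓ stabilizer (Perm (Fin P.d)) (pt 14) : Subgroup (Perm (Fin P.d))) :=
      Nat.mul_le_mul_left _ hpos
    _ ≤ Nat.card K2 := h

theorem lower : 448345497600 ≤ Nat.card (L s 7) := by
  have h7 := low7
  have h6 := low6
  have h5 := low5
  have h4 := low4
  have h3 := low3
  omega

/-- The order of `G`. -/
theorem card_G : Nat.card (L s 7) = 448345497600 := le_antisymm upper lower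

/-! ### Primitivity -/

/-- the suborbit of length 416 -/
def OA : List (Fin P.d) := (List.finRange P.d).filter fun y => inA y.val

/-- the suborbit of length 1365 -/
def OB : List (Fin P.d) := (List.finRange P.d).filter fun y => inB y.val

theorem length_filter_val (n : ℕ) (q : ℕ → Bool) :
    ((List.finRange n).filter fun y => q y.val).length = (List.range n).countP q := by
  rw [← List.countP_eq_length_filter, ← List.map_coe_finRange_eq_range, List.countP_map]
  rfl

theorem fix6 : ∀ g ∈ L s 6, g (pt 0) = pt 0 := by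
  intro g hg
  have := L_le_stab 6 (pt 0) fix0 hg
  rwa [mem_stabilizer_iff, Perm.smul_def] at this

theorem transA : ∀ y ∈ OA, ∀ z ∈ OA, ∃ h ∈ L s 7, h (pt 0) = pt 0 ∧ h y = z := by
  have hr := P.orb_reach P_ok _ _ _ _ _ _ _ _ orb6 (L s 6) (gen_word_mem 6) (pt 995) rfl
  have key : ∀ y ∈ OA, ∃ g ∈ L s 6, g (pt 995) = y := by
    intro y hy
    have hy' : inA y.val = true := (List.mem_filter.mp hy).2
    simp only [inA, Bool.and_eq_true, Nat.blt_eq, Nat.beq_eq] at hy'
    obtain ⟨g, hg, hgv⟩ := hr _ hy'.1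
    exact ⟨g, hg, Fin.ext (by rw [hgv, hy'.2])⟩
  intro y hy z hz
  obtain ⟨g1, hg1, hg1y⟩ := key y hy
  obtain ⟨g2, hg2, hg2z⟩ := key z hz
  refine ⟨g2 * g1⁻¹, L_mono s (by norm_num) (mul_mem hg2 (inv_mem hg1)),
    fix6 _ (mul_mem hg2 (inv_mem hg1)), ?_⟩
  rw [Perm.mul_apply, ← hg1y, Perm.inv_eq_iff_eq.mpr rfl, hg2z]

theorem transB : ∀ y ∈ OB, ∀ z ∈ OB, ∃ h ∈ L s 7, h (pt 0) = pt 0 ∧ h y = z := by
  have hr := P.orb_reach P_ok _ _ _ _ _ _ _ _ orbB (L s 6) (gen_word_mem 6) (pt 1) rfl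
  have key : ∀ y ∈ OB, ∃ g ∈ L s 6, g (pt 1) = y := by
    intro y hy
    have hy' : inB y.val = true := (List.mem_filter.mp hy).2
    simp only [inB, Bool.and_eq_true, Nat.blt_eq, Nat.beq_eq] at hy'
    obtain ⟨g, hg, hgv⟩ := hr _ hy'.1
    exact ⟨g, hg, Fin.ext (by rw [hgv, hy'.2])⟩
  intro y hy z hz
  obtain ⟨g1, hg1, hg1y⟩ := key y hy
  obtain ⟨g2, hg2, hg2z⟩ := key z hz
  refine ⟨g2 * g1⁻¹, L_mono s (by norm_num) (mul_mem hg2 (inv_mem hg1)),
    fix6 _ (mul_mem hg2 (inv_mem hg1)), ?_⟩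
  rw [Perm.mul_apply, ← hg1y, Perm.inv_eq_iff_eq.mpr rfl, hg2z]

instance prim : IsPreprimitive (L s 7) (Fin P.d) := by
  apply BSGS.preprimitive_rank3 (L s 7) (pt 0) OA OB
  · intro y
    have h := (allBelow_iff _ _).mp cover_ok y.val y.2
    simp only [Bool.or_eq_true, Nat.beq_eq] at h
    rcases h with (h | h) | h
    · exact Or.inl (Fin.ext h)
    · exact Or.inr (Or.inl (List.mem_filter.mpr ⟨List.mem_finRange y, h⟩))
    · exact Or.inr (Or.inr (List.mem_filter.mpr ⟨List.mem_finRange y, h⟩))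
  · intro h
    have h' : inA 0 = true := (List.mem_filter.mp h).2
    rw [zeroA] at h'
    exact Bool.false_ne_true h'
  · intro h
    have h' : inB 0 = true := (List.mem_filter.mp h).2
    rw [zeroB] at h'
    exact Bool.false_ne_true h'
  · exact (List.nodup_finRange _).filter _
  · exact (List.nodup_finRange _).filter _
  · intro y
    obtain ⟨g, hg, hgv⟩ := P.orb_reach P_ok _ _ _ _ _ _ _ _ orb7 (L s 7) (gen_word_mem 7)
      (pt 0) rfl y.val y.2
    exact ⟨g, hg, Fin.ext hgv⟩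
  · exact transA
  · exact transB
  · have hl : OA.length = 416 := by
      unfold OA
      rw [length_filter_val]
      exact countA
    rw [hl]
    show ¬ (417 ∣ 1782)
    norm_num
  · have hl : OB.length = 1365 := by
      unfold OB
      rw [length_filter_val]
      exact countB
    rw [hl]
    show ¬ (1366 ∣ 1782)
    norm_num

/-! ### Simplicity -/

/-- A primitive permutation group `G` on `α` such that the full `p`-part of `|G|` divides `|α|`
and the elements of order dividing `p` generate `G` as a normal subgroup, is simple. -/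
theorem isSimpleGroup_of_primitive' {α : Type*} [Finite α] (G : Subgroup (Perm α))
    [IsPreprimitive G α]
    (p a : ℕ) (hp : p.Prime) (hα : p ^ a ∣ Nat.card α) (hG : ¬ p ^ (a + 1) ∣ Nat.card G)
    (hncl : ∀ N : Subgroup G, N.Normal → (∀ x : G, x ^ p = 1 → x ∈ N) → N = ⊤)
    (hnt : Nontrivial G) : IsSimpleGroup G := by
  refine { exists_pair_ne := hnt.exists_pair_ne, eq_bot_or_eq_top_of_normal := ?_ }
  intro N hN
  by_cases hbot : N = ⊥
  · exact Or.inl hbot
  · right
    apply hncl N hN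
    intro x hx
    apply BSGS.mem_of_pow_eq_one N p hp _ x hx
    intro hdvd
    apply hG
    have h1 : p ^ a ∣ Nat.card N := dvd_trans hα (BSGS.card_dvd_of_normal G N hbot)
    have h2 := Subgroup.card_mul_index N
    rw [← h2, pow_succ]
    exact mul_dvd_mul h1 hdvd

theorem s_eq_one (i : ℕ) (hi : 7 ≤ i) : s i = 1 := by
  ext x
  show P.act i x.val = x.val
  unfold FP.PData.act
  have : ¬ i < P.n := by
    show ¬ i < 7
    omega
  simp only [this, if_false]

theorem s_mem (i : ℕ) : s i ∈ L s 7 := by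
  by_cases hi : i < 7
  · exact mem_L s hi
  · rw [s_eq_one i (by omega)]
    exact one_mem _

/-- the generators as elements of `G` -/
def S (i : ℕ) : L s 7 := ⟨s i, s_mem i⟩

theorem val_prod_S (w : List ℕ) : ((w.map S).prod : L s 7).val = (w.map s).prod := by
  induction w with
  | nil => simp
  | cons a t ih =>
    rw [List.map_cons, List.prod_cons, Subgroup.coe_mul, ih, List.map_cons, List.prod_cons]
    rfl

theorem ncl : ∀ N : Subgroup (L s 7), N.Normal → (∀ x : L s 7, x ^ 11 = 1 → x ∈ N) → N = ⊤ := by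
  intro N hN h11
  -- the generator `s 0` is a product of two elements of order 11
  have hY : ((wy.map S).prod : L s 7) ^ 11 = 1 := by
    apply Subtype.ext
    rw [Subgroup.coe_pow, val_prod_S, Subgroup.coe_one]
    exact P.pow_eq_one P_ok wy 11 wy_ok
  have hZ : (((wy.reverse ++ [0]).map S).prod : L s 7) ^ 11 = 1 := by
    apply Subtype.ext
    rw [Subgroup.coe_pow, val_prod_S, Subgroup.coe_one]
    exact P.pow_eq_one P_ok _ 11 wz_ok
  have hS0 : S 0 = (wy.map S).prod * ((wy.reverse ++ [0]).map S).prod := by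
    apply Subtype.ext
    rw [Subgroup.coe_mul, val_prod_S, val_prod_S, List.map_append, List.prod_append,
      RC.rev_prod s hs wy]
    simp [S]
  have hS0N : S 0 ∈ N := by
    rw [hS0]
    exact N.mul_mem (h11 _ hY) (h11 _ hZ)
  -- work in the quotient
  let q : ℕ → (L s 7) ⧸ N := fun i => (QuotientGroup.mk (S i) : (L s 7) ⧸ N)
  have hq : ∀ w : List ℕ, (w.map s).prod = 1 → (w.map q).prod = 1 := by
    intro w hw
    have h1 : (w.map S).prod = 1 := by
      apply Subtype.ext
      rw [val_prod_S, hw, Subgroup.coe_one]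
    have h2 : (w.map q).prod = (QuotientGroup.mk ((w.map S).prod) : (L s 7) ⧸ N) := by
      rw [← QuotientGroup.mk'_apply, map_list_prod, List.map_map]
      rfl
    rw [h2, h1]
    rfl
  have hqq : ∀ i z, q i * (q i * z) = z := by
    intro i z
    have h1 : S i * S i = 1 := Subtype.ext (by rw [Subgroup.coe_mul, Subgroup.coe_one]; exact hs i)
    have h2 : q i * q i = 1 := by
      show (QuotientGroup.mk (S i) : (L s 7) ⧸ N) * QuotientGroup.mk (S i) = 1
      rw [← QuotientGroup.mk_mul, h1]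
      rfl
    rw [← mul_assoc, h2, one_mul]
  have hq0 : q 0 = 1 := (QuotientGroup.eq_one_iff _).mpr hS0N
  have hq1 : q 1 = 1 := by
    have h := hq [0, 1, 0, 1, 0, 1, 0, 1, 0, 1] (hrel 0)
    simpa only [List.map_cons, List.map_nil, List.prod_cons, List.prod_nil, hq0, one_mul, mul_one,
      hqq] using h
  have hq2 : q 2 = 1 := by
    have h := hq [1, 2, 1, 2, 1, 2] (hrel 6)
    simpa only [List.map_cons, List.map_nil, List.prod_cons, List.prod_nil, hq1, one_mul, mul_one,
      hqq] using h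
  have hq5 : q 5 = 1 := by
    have h := hq [1, 5, 1, 5, 1, 5] (hrel 9)
    simpa only [List.map_cons, List.map_nil, List.prod_cons, List.prod_nil, hq1, one_mul, mul_one,
      hqq] using h
  have hq6 : q 6 = 1 := by
    have h := hq [1, 6, 1, 6, 1, 6] (hrel 10)
    simpa only [List.map_cons, List.map_nil, List.prod_cons, List.prod_nil, hq1, one_mul, mul_one,
      hqq] using h
  have hq4 : q 4 = 1 := by
    have h := hq (rels.getD 25 []) (hrel 25)
    rw [show rels.getD 25 [] = [1, 2, 3, 2, 3, 1, 2, 3, 2, 3, 1, 2, 3, 2, 3, 1, 2, 3, 2, 3, 1, 2,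
      3, 2, 3, 4, 1, 2, 3, 2, 3, 1, 2, 3, 2, 3, 1, 2, 3, 2, 3, 1, 2, 3, 2, 3, 1, 2, 3, 2, 3, 4,
      1, 2, 3, 2, 3, 1, 2, 3, 2, 3, 1, 2, 3, 2, 3, 1, 2, 3, 2, 3, 1, 2, 3, 2, 3, 4] from rfl] at h
    simpa only [List.map_cons, List.map_nil, List.prod_cons, List.prod_nil, hq1, hq2, one_mul,
      mul_one, hqq] using h
  have hq3 : q 3 = 1 := by
    have h := hq [3, 4, 3, 4, 3, 4] (hrel 15)
    simpa only [List.map_cons, List.map_nil, List.prod_cons, List.prod_nil, hq4, one_mul, mul_one,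
      hqq] using h
  have hSN : ∀ i, i < 7 → S i ∈ N := by
    intro i hi
    apply (QuotientGroup.eq_one_iff _).mp
    show q i = 1
    interval_cases i
    · exact hq0
    · exact hq1
    · exact hq2
    · exact hq3
    · exact hq4
    · exact hq5
    · exact hq6
  rw [eq_top_iff]
  rintro ⟨g, hg⟩ _
  have : ∀ g (hg : g ∈ L s 7), (⟨g, hg⟩ : L s 7) ∈ N := by
    intro g hg
    unfold L at hg
    induction hg using Subgroup.closure_induction with
    | mem y hy =>
      obtain ⟨i, hi, rfl⟩ := hy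
      exact hSN i hi
    | one => exact N.one_mem
    | mul a b ha hb iha ihb => exact N.mul_mem iha ihb
    | inv a ha iha => exact N.inv_mem iha
  exact this g hg

/-- `G` is simple. -/
theorem simple : IsSimpleGroup (L s 7) := by
  apply isSimpleGroup_of_primitive' (L s 7) 11 1 (by norm_num)
  · rw [Nat.card_eq_fintype_card, Fintype.card_fin]
    show 11 ^ 1 ∣ 1782
    norm_num
  · rw [card_G]; norm_num
  · exact ncl
  · rw [← Finite.one_lt_card_iff_nontrivial, card_G]
    norm_num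

end Cfsg.Agent.Lib.Helper19.Suz
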