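import Cfsg.Agent.Lib.Helper19.SuzOutC5

/-!
# Kernel checks for the outer automorphism group of the sporadic Suzuki group `Suz` (defining words, part 2)
-/

set_option autoImplicit false

namespace Cfsg.Agent.Lib.Helper19.SuzOut

open Cfsg.Agent.Lib.Helper19
open Cfsg.Agent.Lib.Helper19.FP (tg16)
open Cfsg.Agent.Lib.Helper19.FPI (PDataI)
open Cfsg.Agent.Lib.Helper19.RC (allBelow)
open Cfsg.Agent.Lib.Helper19.Sift (Lvl tw lvlOK lvlsOK siftChkY hierOK)

theorem dw37 : dwOK 37 = true := by decide +kernel

theorem dw39 : dwOK 39 = true := by decide +kernel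

theorem dw41 : dwOK 41 = true := by decide +kernel

theorem dw43 : dwOK 43 = true := by decide +kernel

theorem dw45 : dwOK 45 = true := by decide +kernel

theorem dw47 : dwOK 47 = true := by decide +kernel

theorem dw49 : dwOK 49 = true := by decide +kernel

theorem dw51 : dwOK 51 = true := by decide +kernel

theorem dw53 : dwOK 53 = true := by decide +kernel

theorem dw55 : dwOK 55 = true := by decide +kernel

theorem dw57 : dwOK 57 = true := by decide +kernel

theorem dw59 : dwOK 59 = true := by decide +kernel

theorem dw61 : dwOK 61 = true := by decide +kernel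

theorem dw63 : dwOK 63 = true := by decide +kernel


end Cfsg.Agent.Lib.Helper19.SuzOut
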