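import Cfsg.Agent.S1694
import Cfsg.Agent.Lib.Helper19.CoxHomG
import Cfsg.Agent.Lib.Helper19.SuzOutC8b
import Cfsg.Agent.Lib.Helper19.SuzOutC6
import Cfsg.Agent.Lib.Helper19.SuzOutC4

/-!
# The outer automorphism group of the sporadic Suzuki group `Suz`: transfer between the presented group and the
permutation group on 1782 points (cosets of `G₂(4)`)

The generators are sent to the permutations of the letters 0–6 (`φ`); `φ` is injective since
the presented group is simple; all letters lie in the image `G` of `φ` (defining words); `G` is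
generated by the letters `x`, `n`, `r`; factorisation along the two stabiliser chains; elements
`E i` of the presented group for the letters.
-/

set_option autoImplicit false

namespace Cfsg.Agent.Lib.Helper19.SuzOut

open Equiv
open Cfsg.Spor
open Cfsg.Agent.Lib.Helper56.TC (ew ew_cons ew_nil ew_append pgen coxW wordOf)
open Cfsg.Agent.Lib.Helper19.FPI (PDataI)
open Cfsg.Agent.Lib.Helper19.FP (tg16)
open Cfsg.Agent.Lib.Helper19.RC (allBelow allBelow_iff)
open Cfsg.Agent.Lib.Helper19.Sift

/-- the presented group -/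
abbrev SuzP : Type := Cfsg.Spor.Suz

/-- the generators in the order of the letters -/
def gens : List Suz.Gen := [.a, .b, .c, .d, .e, .f, .g]

theorem hall : ∀ x : Suz.Gen, x ∈ gens := by
  intro x
  cases x <;> decide

theorem simpleP : IsSimpleGroup SuzP := Cfsg.Agent.S1694.result.1

theorem cardP : Nat.card SuzP = 448345497600 := Cfsg.Agent.S1694.result.2

instance : Finite SuzP := Nat.finite_of_card_ne_zero (by rw [cardP]; norm_num)

/-- all relators as words -/
def relsQ : List (List ℕ) := relsC ++ relsE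

theorem hrelsQ : relsQ = coxW Suz.edges gens ++ Suz.extra.map (wordOf gens) := by
  decide +kernel

theorem rel_all : ∀ w ∈ relsQ, ew (Q.perm Q_ok) w = 1 := by
  intro w hw
  show (w.map (Q.perm Q_ok)).prod = 1
  rcases List.mem_append.mp hw with h | h
  · exact Q.rel_eq_one Q_ok _ relC w h
  · exact Q.rel_eq_one Q_ok _ relE w h

theorem inv_lt (l : ℕ) (hl : l < 7) : (Q.perm Q_ok l)⁻¹ = Q.perm Q_ok l := by
  have h := invLt
  simp only [allBelow_iff, Nat.beq_eq] at h
  have h1 : Q.inv l = l := h l hl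
  have h2 := Q.perm_inv Q_ok l
  unfold PDataI.inv' at h2
  rw [if_pos (show l < Q.n from lt_trans hl (by decide)), h1] at h2
  exact h2.symm

theorem hom_exists : ∃ φ : SuzP →* Perm (Fin Q.d),
    ∀ l < 7, φ (pgen Suz.edges Suz.extra gens l) = Q.perm Q_ok l :=
  Cfsg.Agent.Lib.Helper19.CoxHomG.cox_hom_gen Suz.edges Suz.extra gens (Q.perm Q_ok)
    (by decide) hall (fun l hl => inv_lt l hl) (by rw [← hrelsQ]; exact rel_all)

/-- the homomorphism to the permutations of the points -/
noncomputable def φ : SuzP →* Perm (Fin Q.d) := Classical.choose hom_exists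

theorem φ_gen (l : ℕ) (hl : l < 7) :
    φ (pgen Suz.edges Suz.extra gens l) = Q.perm Q_ok l :=
  Classical.choose_spec hom_exists l hl

theorem φ_inj : Function.Injective φ := by
  have := simpleP
  rw [← MonoidHom.ker_eq_bot_iff]
  rcases (MonoidHom.normal_ker φ).eq_bot_or_eq_top with h | h
  · exact h
  · exfalso
    have h1 : pgen Suz.edges Suz.extra gens 0 ∈ φ.ker := by
      rw [h]; exact Subgroup.mem_top _
    rw [MonoidHom.mem_ker, φ_gen 0 (by decide)] at h1
    have h2 : (Q.perm Q_ok 0 ⟨2, by decide⟩).val = 2 := by rw [h1]; rfl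
    have h3 : (Q.perm Q_ok 0 ⟨2, by decide⟩).val = Q.app [0] 2 := rfl
    rw [h3] at h2
    have h4 := bmove
    rw [h2] at h4
    simp at h4

/-- the permutation group on the points -/
noncomputable abbrev G : Subgroup (Perm (Fin Q.d)) := φ.range

theorem φ_mem (g : SuzP) : φ g ∈ G := ⟨g, rfl⟩

theorem φ_surj (p : Perm (Fin Q.d)) (hp : p ∈ G) : ∃ g : SuzP, φ g = p :=
  MonoidHom.mem_range.mp hp

theorem card_G : Nat.card G = 448345497600 := by
  rw [← cardP]
  exact (Nat.card_congr (MonoidHom.ofInjective φ_inj).toEquiv).symm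

theorem dwAll : ∀ i < 65, Q.inv i ≤ i ∨ dwOK i = true := by
  intro i hi
  interval_cases i
  · exact Or.inl (by decide)
  · exact Or.inl (by decide)
  · exact Or.inl (by decide)
  · exact Or.inl (by decide)
  · exact Or.inl (by decide)
  · exact Or.inl (by decide)
  · exact Or.inl (by decide)
  · exact Or.inr dw7
  · exact Or.inl (by decide)
  · exact Or.inr dw9
  · exact Or.inl (by decide)
  · exact Or.inr dw11
  · exact Or.inl (by decide)
  · exact Or.inr dw13
  · exact Or.inl (by decide)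
  · exact Or.inr dw15
  · exact Or.inl (by decide)
  · exact Or.inr dw17
  · exact Or.inl (by decide)
  · exact Or.inr dw19
  · exact Or.inl (by decide)
  · exact Or.inr dw21
  · exact Or.inl (by decide)
  · exact Or.inr dw23
  · exact Or.inl (by decide)
  · exact Or.inr dw25
  · exact Or.inl (by decide)
  · exact Or.inr dw27
  · exact Or.inl (by decide)
  · exact Or.inr dw29
  · exact Or.inl (by decide)
  · exact Or.inr dw31
  · exact Or.inl (by decide)
  · exact Or.inr dw33
  · exact Or.inl (by decide)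
  · exact Or.inr dw35
  · exact Or.inl (by decide)
  · exact Or.inr dw37
  · exact Or.inl (by decide)
  · exact Or.inr dw39
  · exact Or.inl (by decide)
  · exact Or.inr dw41
  · exact Or.inl (by decide)
  · exact Or.inr dw43
  · exact Or.inl (by decide)
  · exact Or.inr dw45
  · exact Or.inl (by decide)
  · exact Or.inr dw47
  · exact Or.inl (by decide)
  · exact Or.inr dw49
  · exact Or.inl (by decide)
  · exact Or.inr dw51
  · exact Or.inl (by decide)
  · exact Or.inr dw53
  · exact Or.inl (by decide)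
  · exact Or.inr dw55
  · exact Or.inl (by decide)
  · exact Or.inr dw57
  · exact Or.inl (by decide)
  · exact Or.inr dw59
  · exact Or.inl (by decide)
  · exact Or.inr dw61
  · exact Or.inl (by decide)
  · exact Or.inr dw63
  · exact Or.inl (by decide)

theorem hdef : ∀ i < Q.n, i < Q.inv i → pr Q Q_ok (dw i) = Q.perm Q_ok i := by
  intro i hi hlt
  have hd : dwOK i = true := by
    rcases dwAll i hi with h | h
    · exact absurd hlt (not_lt.mpr h)
    · exact h
  simp only [dwOK, Bool.and_eq_true, allBelow_iff, Nat.beq_eq] at hd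
  have h1 : pr Q Q_ok (Q.inv i :: dw i) = 1 := Q.rel_of_app Q_ok _ hd.1 hd.2
  rw [pr_cons] at h1
  have h2 := Q.perm_inv Q_ok i
  unfold PDataI.inv' at h2
  rw [if_pos hi] at h2
  rw [h2] at h1
  exact (inv_mul_eq_one.mp h1).symm

theorem memG : ∀ i < Q.n, Q.perm Q_ok i ∈ G :=
  fun i hi => mem_hier Q Q_ok G (fun _ => true) (fun i => Nat.blt i 7) dw hierG
    (fun i _ hb => by
      have hb' : i < 7 := by simpa only [Nat.blt_eq] using hb
      rw [← φ_gen i hb']
      exact φ_mem _) hdef i hi rfl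

theorem pr_mem (w : List ℕ) (hw : Q.wok w = true) : pr Q Q_ok w ∈ G :=
  pr_mem_of Q Q_ok G w (fun a ha => memG a ((Q.wok_iff w).mp hw a ha))

theorem lA : lvlsOK Q LsA (List.iterate (Q.app [7]) 1 5) [] = true := by
  rw [iterA]
  exact lvls_cons Q LA0 _ 1 _ [] (by decide) lA0
    (lvls_cons Q LA1 _ 34 _ [1] (by decide) lA1
    (lvls_cons Q LA2 _ 251 _ [34, 1] (by decide) lA2
    (lvls_cons Q LA3 _ 1739 _ [251, 34, 1] (by decide) lA3
    (lvls_cons Q LA4 _ 617 _ [1739, 251, 34, 1] (by decide) lA4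
    (lvls_nil Q _)))))

theorem lB : lvlsOK Q LsB (List.iterate (Q.app [37]) 1 4) [] = true := by
  rw [iterB]
  exact lvls_cons Q LB0 _ 1 _ [] (by decide) lB0
    (lvls_cons Q LB1 _ 13 _ [1] (by decide) lB1
    (lvls_cons Q LB2 _ 1372 _ [13, 1] (by decide) lB2
    (lvls_cons Q LB3 _ 1066 _ [1372, 13, 1] (by decide) lB3
    (lvls_nil Q _))))

theorem lvl_mem (Ls : List Lvl) (bs : List ℕ) (hl : lvlsOK Q Ls bs [] = true) :
    ∀ L ∈ Ls, ∀ c < L.m, pr Q Q_ok (L.w c) ∈ G :=
  fun L hL c hc => pr_mem _ (lvls_spec Q Ls bs [] hl L hL c hc).1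

/-- factorisation along the first chain -/
theorem factA : ∀ g ∈ G, ∃ cs, validL LsA cs ∧ g = pr Q Q_ok (wordL LsA cs) :=
  (factL Q Q_ok LsA _ [] lA G (lvl_mem LsA _ lA) (le_of_eq (by rw [card_G, prodA]))).2

/-- factorisation along the second chain -/
theorem factB : ∀ g ∈ G, ∃ cs, validL LsB cs ∧ g = pr Q Q_ok (wordL LsB cs) :=
  (factL Q Q_ok LsB _ [] lB G (lvl_mem LsB _ lB) (le_of_eq (by rw [card_G, prodB]))).2

/-- the subgroup generated by `x`, `n`, `r` -/
noncomputable abbrev Hgen : Subgroup (Perm (Fin Q.d)) :=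
  Subgroup.closure {Q.perm Q_ok 7, Q.perm Q_ok 37, Q.perm Q_ok 39}

theorem memH : ∀ i < Q.n, okL i = true → Q.perm Q_ok i ∈ Hgen :=
  mem_hier Q Q_ok Hgen okL baseL dw hierH
    (fun i _ hb => by
      simp only [baseL, Bool.or_eq_true, Nat.beq_eq] at hb
      apply Subgroup.subset_closure
      rcases hb with (rfl | rfl) | rfl <;> simp)
    hdef

theorem Hgen_le : Hgen ≤ G := by
  rw [Subgroup.closure_le]
  intro y hy
  simp only [Set.mem_insert_iff, Set.mem_singleton_iff] at hy
  rcases hy with rfl | rfl | rfl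
  · exact memG 7 (by decide)
  · exact memG 37 (by decide)
  · exact memG 39 (by decide)

theorem lettersB_spec : ∀ L ∈ LsB, ∀ c < L.m, ∀ a ∈ L.w c, okL a = true := by
  have h := lettersB
  simp only [List.all_eq_true, allBelow_iff] at h
  exact h

/-- the permutation group is generated by `x`, `n`, `r` -/
theorem Hgen_eq : Hgen = G := by
  have hw : ∀ L ∈ LsB, ∀ c < L.m, pr Q Q_ok (L.w c) ∈ Hgen := by
    intro L hL c hc
    have hwok := (lvls_spec Q LsB _ [] lB L hL c hc).1
    exact pr_mem_of Q Q_ok Hgen _ (fun a ha =>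
      memH a ((Q.wok_iff _).mp hwok a ha) (lettersB_spec L hL c hc a ha))
  have hle : Nat.card Hgen ≤ (LsB.map (fun L => L.m)).prod := by
    rw [prodB, ← card_G]
    exact Subgroup.card_le_of_le Hgen_le
  have hlow := (factL Q Q_ok LsB _ [] lB Hgen hw hle).1
  exact Subgroup.eq_of_le_of_card_ge Hgen_le (by rw [card_G, ← prodB]; exact hlow)

theorem E_exists (i : ℕ) (hi : i < Q.n) : ∃ g : SuzP, φ g = Q.perm Q_ok i :=
  φ_surj _ (memG i hi)

/-- the elements of the presented group for the letters -/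
noncomputable def E (i : ℕ) : SuzP :=
  if h : i < Q.n then Classical.choose (E_exists i h) else 1

theorem φ_E (i : ℕ) (hi : i < Q.n) : φ (E i) = Q.perm Q_ok i := by
  unfold E
  rw [dif_pos hi]
  exact Classical.choose_spec (E_exists i hi)

theorem φ_word (w : List ℕ) (hw : Q.wok w = true) : φ (ew E w) = pr Q Q_ok w := by
  induction w with
  | nil => rw [ew_nil, map_one]; rfl
  | cons a t ih =>
    rw [PDataI.wok_iff] at hw
    have hwt : Q.wok t = true := (Q.wok_iff t).mpr fun i hi => hw i (List.mem_cons_of_mem _ hi)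
    rw [ew_cons, map_mul, ih hwt, pr_cons, φ_E a (hw a List.mem_cons_self)]

theorem E_inv (i j : ℕ) (hi : i < Q.n) (hj : j < Q.n) (h : Q.inv i = j) : E j = (E i)⁻¹ := by
  apply φ_inj
  rw [map_inv, φ_E i hi, φ_E j hj, ← h]
  have h2 := Q.perm_inv Q_ok i
  unfold PDataI.inv' at h2
  rw [if_pos hi] at h2
  exact h2

theorem EXi : E 8 = (E 7)⁻¹ := E_inv 7 8 (by decide) (by decide) rfl

theorem ENi : E 38 = (E 37)⁻¹ := E_inv 37 38 (by decide) (by decide) rfl

theorem pr_one (i : ℕ) : pr Q Q_ok [i] = Q.perm Q_ok i := by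
  rw [pr_cons, pr_nil, mul_one]

theorem pr_eq (u v : List ℕ) (h : eqOK u v = true) : pr Q Q_ok u = pr Q Q_ok v := by
  simp only [eqOK, Bool.and_eq_true, allBelow_iff, Nat.beq_eq] at h
  obtain ⟨⟨hu, hv⟩, he⟩ := h
  apply Equiv.ext
  intro p
  apply Fin.ext
  rw [pr_val Q Q_ok u hu, pr_val Q Q_ok v hv]
  exact he p.val p.2

theorem E_eq (u v : List ℕ) (hu : Q.wok u = true) (hv : Q.wok v = true)
    (h : pr Q Q_ok u = pr Q Q_ok v) : ew E u = ew E v := by
  apply φ_inj
  rw [φ_word u hu, φ_word v hv, h]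

/-- `n x = x⁴ n` -/
theorem hn' : E 37 * E 7 = E 7 ^ 4 * E 37 := by
  have h := E_eq [37, 7] [7, 7, 7, 7, 37] (by decide) (by decide) (pr_eq _ _ eqNX)
  simp only [ew_cons, ew_nil, mul_one] at h
  rw [h, pow_succ, pow_succ, pow_succ, pow_one]
  simp only [mul_assoc]

/-- `n x n⁻¹ = x⁴` -/
theorem hn : E 37 * E 7 * (E 37)⁻¹ = E 7 ^ 4 := by
  rw [hn', mul_inv_cancel_right]

/-- `r n = n r` -/
theorem hr : E 39 * E 37 = E 37 * E 39 := by
  have h := E_eq [39, 37] [37, 39] (by decide) (by decide) (pr_eq _ _ eqRN)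
  simpa only [ew_cons, ew_nil, mul_one] using h

theorem x_pow : E 7 ^ 13 = 1 := by
  apply φ_inj
  rw [map_pow, φ_E 7 (by decide), map_one]
  have h := Q.pow_eq_one Q_ok [7] 13 powX
  have h' : Q.perm Q_ok 7 ^ 13 = 1 := by simpa using h
  exact h'

theorem x_ne : E 7 ≠ 1 := by
  intro h
  have h1 : Q.perm Q_ok 7 = 1 := by rw [← φ_E 7 (by decide), h, map_one]
  have h2 : (Q.perm Q_ok 7 ⟨1, by decide⟩).val = 1 := by rw [h1]; rfl
  have h3 : (Q.perm Q_ok 7 ⟨1, by decide⟩).val = Q.app [7] 1 := rfl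
  rw [h3] at h2
  have h4 := xmove
  rw [h2] at h4
  simp at h4

theorem x_order : orderOf (E 7) = 13 := by
  have : Fact (Nat.Prime 13) := ⟨by norm_num⟩
  exact orderOf_eq_prime x_pow x_ne

theorem fp_all : ∀ j < 2, Q.powOK (fpU j ++ [39]) (fpE j) = true := by
  intro j hj
  interval_cases j
  · exact fp0
  · exact fp1

theorem fp_let : ∀ j < 2, ∀ a ∈ fpU j, okXN a = true := by
  have h := fpLet
  simp only [allBelow_iff, List.all_eq_true] at h
  exact h

theorem okXN_wok (w : List ℕ) (h : ∀ a ∈ w, okXN a = true) : Q.wok w = true := by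
  rw [PDataI.wok_iff]
  intro i hi
  have h1 := h i hi
  simp only [okXN, Bool.or_eq_true, Nat.beq_eq] at h1
  show i < 65
  omega

/-- the fingerprint relations `(u r)^e = 1` in the presented group -/
theorem fp_pres (j : ℕ) (hj : j < 2) : (ew E (fpU j) * E 39) ^ fpE j = 1 := by
  apply φ_inj
  have hw := okXN_wok _ (fp_let j hj)
  rw [map_pow, map_mul, φ_word _ hw, φ_E 39 (by decide), map_one]
  have h := Q.pow_eq_one Q_ok (fpU j ++ [39]) (fpE j) (fp_all j hj)
  have e : ((fpU j ++ [39]).map (Q.perm Q_ok)).prod =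
      pr Q Q_ok (fpU j) * Q.perm Q_ok 39 := by
    show pr Q Q_ok (fpU j ++ [39]) = _
    rw [pr_append, pr_cons, pr_nil, mul_one]
  rw [e] at h
  exact h

/-- the presented group is generated by `x`, `n`, `r` -/
theorem gen_top : Subgroup.closure ({E 7, E 37, E 39} : Set SuzP) = ⊤ := by
  rw [eq_top_iff]
  intro g _
  have h1 : φ g ∈ Hgen := by rw [Hgen_eq]; exact φ_mem g
  have h2 : Hgen = (Subgroup.closure ({E 7, E 37, E 39} : Set SuzP)).map φ := by
    rw [MonoidHom.map_closure, Set.image_insert_eq, Set.image_insert_eq, Set.image_singleton,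
      φ_E 7 (by decide), φ_E 37 (by decide), φ_E 39 (by decide)]
  rw [h2] at h1
  obtain ⟨g', hg', he⟩ := Subgroup.mem_map.mp h1
  rw [← φ_inj he]
  exact hg'

end Cfsg.Agent.Lib.Helper19.SuzOut
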