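import Cfsg.Agent.Lib.Helper19.SuzOutA
import Cfsg.Agent.Lib.Helper19.OutCrit2

/-!
# The outer automorphism group of the sporadic Suzuki group `Suz` has order 2

In the presented group, `x = E 7` has order 13, `n = E 37` satisfies `n x n⁻¹ = x⁴` and
`r = E 39` commutes with `n`; these three elements generate.  The solutions of `m x = x⁴ m` are
the 13 conjugates of `n` under powers of `x`; the centraliser of `n` consists of 72 explicit
elements, of which only `r` satisfies the fingerprint relations `(u r)^e = 1` (`u` a word in `x`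
and `n`); no `g` satisfies `g x = x² g`; and conjugation by a permutation `τ` of the points
induces an automorphism sending `x` to `x²` and fixing `n`.
-/

set_option autoImplicit false

namespace Cfsg.Agent.Lib.Helper19.SuzOut

open Equiv
open Cfsg.Spor
open Cfsg.Agent.Lib.Helper56.TC (ew ew_cons ew_nil ew_append)
open Cfsg.Agent.Lib.Helper19.FPI (PDataI)
open Cfsg.Agent.Lib.Helper19.FP (tg16)
open Cfsg.Agent.Lib.Helper19.RC (allBelow allBelow_iff)
open Cfsg.Agent.Lib.Helper19.Sift

theorem semi_pow {M : Type*} [Monoid M] {g a b : M} (h : g * a = b * g) (k : ℕ) :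
    g * a ^ k = b ^ k * g :=
  SemiconjBy.pow_right (show SemiconjBy g a b from h) k

theorem ew_replicate {M : Type*} [Monoid M] (g : ℕ → M) (k i : ℕ) :
    ew g (List.replicate k i) = g i ^ k := by
  unfold ew
  rw [List.map_replicate, List.prod_replicate]

theorem wokA (k : ℕ) (hk : k < 13) : Q.wok (accA.getD k []) = true := by
  have h := accWokA
  rw [List.all_eq_true] at h
  have hk' : k < accA.length := by rw [accLenA]; exact hk
  rw [List.getD_eq_getElem _ _ hk']
  exact h _ (List.getElem_mem hk')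

theorem wokB (k : ℕ) (hk : k < 72) : Q.wok (accB.getD k []) = true := by
  have h := accWokB
  rw [List.all_eq_true] at h
  have hk' : k < accB.length := by rw [accLenB]; exact hk
  rw [List.getD_eq_getElem _ _ hk']
  exact h _ (List.getElem_mem hk')

theorem wok_conj (k : ℕ) :
    Q.wok (List.replicate k 7 ++ (37 :: List.replicate k 8)) = true := by
  rw [PDataI.wok_iff]
  intro i hi
  simp only [List.mem_append, List.mem_replicate, List.mem_cons] at hi
  show i < 65
  rcases hi with ⟨-, rfl⟩ | rfl | ⟨-, rfl⟩ <;> norm_num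

/-- the solutions of `m x m⁻¹ = x⁴` are the conjugates of `n` under the powers of `x` -/
theorem hnorm (m : SuzP) (hm : m * E 7 * m⁻¹ = E 7 ^ 4) :
    ∃ i : ℕ, m = E 7 ^ i * E 37 * (E 7 ^ i)⁻¹ := by
  have hm' : m * E 7 = E 7 ^ 4 * m := by rw [← hm]; group
  have hg : φ m * Q.perm Q_ok 7 = Q.perm Q_ok 7 ^ 4 * φ m := by
    have h := congrArg φ hm'
    rwa [map_mul, map_mul, map_pow, φ_E 7 (by decide)] at h
  have hY : φ m * pr Q Q_ok [7] = pr Q Q_ok [7, 7, 7, 7] * φ m := by
    rw [show pr Q Q_ok [7] = Q.perm Q_ok 7 ^ 1 from pr_replicate Q Q_ok 1 7,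
      show pr Q Q_ok [7, 7, 7, 7] = Q.perm Q_ok 7 ^ 4 from pr_replicate Q Q_ok 4 7, pow_one]
    exact hg
  obtain ⟨k, hk, hgk⟩ := sift_soundY Q Q_ok G LsA 1 5 (by decide) [7] [7, 7, 7, 7]
    (by decide) (by decide) lA factA accA (fun _ => 0) sA4 (φ m) (φ_mem m) hY
  have hk13 : k < 13 := by rw [accLenA] at hk; exact hk
  refine ⟨k, ?_⟩
  have hn := normOK
  simp only [allBelow_iff, List.all_eq_true, Nat.beq_eq] at hn
  have e := base_eqW Q Q_ok G LsA _ lA factA _ _ (wokA k hk13) (wok_conj k)
    (pr_mem _ (wokA k hk13)) (pr_mem _ (wok_conj k)) (hn k hk13)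
  apply φ_inj
  rw [hgk, e, ← φ_word _ (wok_conj k), ew_append, ew_cons, ew_replicate, ew_replicate, EXi,
    inv_pow, mul_assoc]

theorem fix_word (β : MulAut SuzP) (hX : β (E 7) = E 7) (hN : β (E 37) = E 37)
    (w : List ℕ) (hw : ∀ a ∈ w, okXN a = true) : β (ew E w) = ew E w := by
  induction w with
  | nil => rw [ew_nil, map_one]
  | cons a t ih =>
    rw [ew_cons, map_mul, ih (fun b hb => hw b (List.mem_cons_of_mem _ hb))]
    have ha := hw a List.mem_cons_self
    simp only [okXN, Bool.or_eq_true, Nat.beq_eq] at ha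
    have hEa : β (E a) = E a := by
      rcases ha with ((rfl | rfl) | rfl) | rfl
      · exact hX
      · rw [EXi, map_inv, hX]
      · exact hN
      · rw [ENi, map_inv, hN]
    rw [hEa]

/-- an automorphism fixing `x`, `n` and `r` is trivial -/
theorem hrig_gen (β : MulAut SuzP) (hX : β (E 7) = E 7) (hN : β (E 37) = E 37)
    (hR : β (E 39) = E 39) : β = 1 := by
  apply MulEquiv.ext
  intro g
  have hg : g ∈ Subgroup.closure ({E 7, E 37, E 39} : Set SuzP) := by
    rw [gen_top]
    exact Subgroup.mem_top _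
  have hEq : Set.EqOn (β.toMonoidHom) (MonoidHom.id SuzP)
      ({E 7, E 37, E 39} : Set SuzP) := by
    intro y hy
    simp only [Set.mem_insert_iff, Set.mem_singleton_iff] at hy
    rcases hy with rfl | rfl | rfl
    · exact hX
    · exact hN
    · exact hR
  exact MonoidHom.eqOn_closure hEq hg

/-- an automorphism fixing `x` and `n` is trivial -/
theorem hrig (β : MulAut SuzP) (hX : β (E 7) = E 7) (hN : β (E 37) = E 37) :
    β = 1 := by
  have hρ : β (E 39) * E 37 = E 37 * β (E 39) := by
    have h := congrArg β hr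
    rwa [map_mul, map_mul, hN] at h
  have hY : φ (β (E 39)) * pr Q Q_ok [37] = pr Q Q_ok [37] * φ (β (E 39)) := by
    have h := congrArg φ hρ
    rwa [map_mul, map_mul, φ_E 37 (by decide), ← pr_one 37] at h
  obtain ⟨k, hk, hgk⟩ := sift_soundY Q Q_ok G LsB 1 4 (by decide) [37] [37]
    (by decide) (by decide) lB factB accB (fun v => tg16 tWB v) sB (φ (β (E 39))) (φ_mem _) hY
  have hkB : k < 72 := by rw [accLenB] at hk; exact hk
  have hρr : β (E 39) = E 39 := by
    by_cases hk0 : k = 0
    · subst hk0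
      have hb := rB0
      simp only [List.all_eq_true, Nat.beq_eq] at hb
      have e := base_eqW Q Q_ok G LsB _ lB factB _ _ (wokB 0 hkB) (by decide)
        (pr_mem _ (wokB 0 hkB)) (pr_mem [39] (by decide)) hb
      apply φ_inj
      rw [hgk, e, pr_one, φ_E 39 (by decide)]
    · exfalso
      have hb := badOK
      simp only [allBelow_iff, Bool.or_eq_true, Nat.beq_eq, Bool.and_eq_true, Nat.blt_eq,
        Bool.not_eq_true'] at hb
      rcases hb k hkB with h0 | ⟨⟨hj, hv⟩, hne⟩
      · exact hk0 h0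
      · have hlet := fp_let _ hj
        have hwU := okXN_wok _ hlet
        have h1 : (ew E (fpU (tg16 tFJ k)) * β (E 39)) ^ fpE (tg16 tFJ k) = 1 := by
          have h := congrArg β (fp_pres _ hj)
          rwa [map_pow, map_mul, fix_word β hX hN _ hlet, map_one] at h
        have hwok : Q.wok (fpU (tg16 tFJ k) ++ accB.getD k []) = true :=
          wok_append Q _ _ hwU (wokB k hkB)
        have h2 : pr Q Q_ok (fpU (tg16 tFJ k) ++ accB.getD k []) ^ fpE (tg16 tFJ k) = 1 := by
          rw [pr_append, ← hgk, ← φ_word _ hwU, ← map_mul, ← map_pow, h1, map_one]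
        have hval : ((pr Q Q_ok (fpU (tg16 tFJ k) ++ accB.getD k []) ^ fpE (tg16 tFJ k))
            ⟨tg16 tFW k, hv⟩).val = tg16 tFW k := by
          rw [h2]
          rfl
        rw [pr_pow_val Q Q_ok _ hwok] at hval
        exact Nat.ne_of_beq_eq_false hne hval
  exact hrig_gen β hX hN hρr

/-- the permutation `τ` of the points -/
def T : Perm (Fin Q.d) := Qt.perm Qt_ok 0

theorem T_val (v : Fin Q.d) : (T v).val = tg16 tT v.val := by
  show Qt.act 0 v.val = tg16 tT v.val
  unfold PDataI.act
  rw [if_pos (by decide : 0 < Qt.n), if_pos (show v.val < Qt.d from v.2)]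
  rfl

theorem perm_val_app (i : ℕ) (hi : i < 65) (v : Fin Q.d) :
    (Q.perm Q_ok i v).val = Q.app [i] v.val := by
  have hw : Q.wok [i] = true := by
    rw [PDataI.wok_iff]
    intro j hj
    rw [List.mem_singleton] at hj
    rw [hj]
    exact hi
  rw [← pr_one i, pr_val Q Q_ok _ hw]

theorem T_X : T * Q.perm Q_ok 7 = Q.perm Q_ok 7 ^ 2 * T := by
  apply Equiv.ext
  intro v
  apply Fin.ext
  have h := tauX
  simp only [allBelow_iff, Nat.beq_eq] at h
  have hv := h v.val v.2
  rw [Perm.mul_apply, Perm.mul_apply, T_val, perm_val_app 7 (by norm_num),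
    ← pr_replicate Q Q_ok 2 7, pr_val Q Q_ok _ (by decide), T_val]
  exact hv

theorem T_N : T * Q.perm Q_ok 37 = Q.perm Q_ok 37 * T := by
  apply Equiv.ext
  intro v
  apply Fin.ext
  have h := tauN
  simp only [allBelow_iff, Nat.beq_eq] at h
  have hv := h v.val v.2
  rw [Perm.mul_apply, Perm.mul_apply, T_val, perm_val_app 37 (by norm_num),
    perm_val_app 37 (by norm_num), T_val]
  exact hv

theorem T_R : T * Q.perm Q_ok 39 = pr Q Q_ok (accB.getD 69 []) * T := by
  apply Equiv.ext
  intro v
  apply Fin.ext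
  have h := tauR
  simp only [allBelow_iff, Nat.beq_eq] at h
  have hv := h v.val v.2
  rw [Perm.mul_apply, Perm.mul_apply, T_val, perm_val_app 39 (by norm_num),
    pr_val Q Q_ok _ (wokB 69 (by norm_num)), T_val]
  exact hv

theorem conj_mem (g : Perm (Fin Q.d)) (hg : g ∈ G) : T * g * T⁻¹ ∈ G := by
  have hle : Hgen ≤ G.comap (MulAut.conj T).toMonoidHom := by
    rw [Subgroup.closure_le]
    intro y hy
    simp only [Set.mem_insert_iff, Set.mem_singleton_iff] at hy
    show T * y * T⁻¹ ∈ G
    rcases hy with rfl | rfl | rfl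
    · rw [T_X, mul_inv_cancel_right]
      exact pow_mem (memG 7 (by decide)) 2
    · rw [T_N, mul_inv_cancel_right]
      exact memG 37 (by decide)
    · rw [T_R, mul_inv_cancel_right]
      exact pr_mem _ (wokB 69 (by norm_num))
  have hg' : g ∈ Hgen := by rw [Hgen_eq]; exact hg
  exact hle hg'

theorem conj_range (g : SuzP) : ∃ h : SuzP, φ h = T * φ g * T⁻¹ :=
  φ_surj _ (conj_mem _ (φ_mem g))

/-- the outer automorphism, as a function -/
noncomputable def σf (g : SuzP) : SuzP := Classical.choose (conj_range g)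

theorem σf_spec (g : SuzP) : φ (σf g) = T * φ g * T⁻¹ := Classical.choose_spec (conj_range g)

/-- the outer automorphism, as a homomorphism -/
noncomputable def σh : SuzP →* SuzP where
  toFun := σf
  map_one' := by
    apply φ_inj
    rw [σf_spec, map_one, mul_one, mul_inv_cancel]
  map_mul' a b := by
    apply φ_inj
    rw [σf_spec, map_mul, map_mul, σf_spec, σf_spec]
    group

theorem σh_inj : Function.Injective σh := by
  intro a b hab
  apply φ_inj
  have h : φ (σf a) = φ (σf b) := congrArg φ hab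
  rw [σf_spec, σf_spec] at h
  exact mul_left_cancel (mul_right_cancel h)

/-- the outer automorphism -/
noncomputable def σ : MulAut SuzP :=
  MulEquiv.ofBijective σh (Finite.injective_iff_bijective.mp σh_inj)

theorem σ_x : σ (E 7) = E 7 ^ 2 := by
  apply φ_inj
  show φ (σf (E 7)) = _
  rw [σf_spec, map_pow, φ_E 7 (by decide), T_X, mul_inv_cancel_right]

theorem σ_n : σ (E 37) = E 37 := by
  apply φ_inj
  show φ (σf (E 37)) = _
  rw [σf_spec, φ_E 37 (by decide), T_N, mul_inv_cancel_right]

/-- `x²` is not conjugate to `x` -/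
theorem hnc (g : SuzP) : g * E 7 * g⁻¹ ≠ E 7 ^ 2 := by
  intro hm
  have hm' : g * E 7 = E 7 ^ 2 * g := by rw [← hm]; group
  have hg : φ g * Q.perm Q_ok 7 = Q.perm Q_ok 7 ^ 2 * φ g := by
    have h := congrArg φ hm'
    rwa [map_mul, map_mul, map_pow, φ_E 7 (by decide)] at h
  have hY : φ g * pr Q Q_ok [7] = pr Q Q_ok [7, 7] * φ g := by
    rw [show pr Q Q_ok [7] = Q.perm Q_ok 7 ^ 1 from pr_replicate Q Q_ok 1 7,
      show pr Q Q_ok [7, 7] = Q.perm Q_ok 7 ^ 2 from pr_replicate Q Q_ok 2 7, pow_one]
    exact hg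
  obtain ⟨k, hk, -⟩ := sift_soundY Q Q_ok G LsA 1 5 (by decide) [7] [7, 7]
    (by decide) (by decide) lA factA [] (fun _ => 0) sA2 (φ g) (φ_mem g) hY
  exact Nat.not_lt_zero k hk

/-- The outer automorphism group of the presented group has order 2. -/
theorem out_two : Nat.card (Cfsg.Out SuzP) = 2 := by
  have : Fact (Nat.Prime 13) := ⟨by norm_num⟩
  exact Cfsg.Agent.Lib.Helper19.OutCrit.card_out_two_gen 13 4 2 (E 7) (E 37) σ
    Cfsg.Agent.Lib.Helper19.OutCrit.hexp13 (by rw [cardP]; norm_num) x_order hn hnorm hrig σ_x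
    σ_n hnc

end Cfsg.Agent.Lib.Helper19.SuzOut
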