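import Cfsg.Agent.Lib.Helper19.SuzOutC10

/-!
# Kernel checks for the outer automorphism group of the sporadic Suzuki group `Suz` (sifting for the centraliser)
-/

set_option autoImplicit false

namespace Cfsg.Agent.Lib.Helper19.SuzOut

open Cfsg.Agent.Lib.Helper19
open Cfsg.Agent.Lib.Helper19.FP (tg16)
open Cfsg.Agent.Lib.Helper19.FPI (PDataI)
open Cfsg.Agent.Lib.Helper19.RC (allBelow)
open Cfsg.Agent.Lib.Helper19.Sift (Lvl tw lvlOK lvlsOK siftChkY hierOK)

theorem sB : allBelow (fun v => siftChkY Q LsB [37] [37] 4 accB (fun v => tg16 tWB v) v) 1782 = true := by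
  decide +kernel

end Cfsg.Agent.Lib.Helper19.SuzOut
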