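import Cfsg.Agent.Lib.Helper19.SuzOutC1

/-!
# Kernel checks for the outer automorphism group of the sporadic Suzuki group `Suz` (small checks)
-/

set_option autoImplicit false

namespace Cfsg.Agent.Lib.Helper19.SuzOut

open Cfsg.Agent.Lib.Helper19
open Cfsg.Agent.Lib.Helper19.FP (tg16)
open Cfsg.Agent.Lib.Helper19.FPI (PDataI)
open Cfsg.Agent.Lib.Helper19.RC (allBelow)
open Cfsg.Agent.Lib.Helper19.Sift (Lvl tw lvlOK lvlsOK siftChkY hierOK)

theorem eqNX : eqOK [37, 7] [7, 7, 7, 7, 37] = true := by decide +kernel

theorem eqRN : eqOK [39, 37] [37, 39] = true := by decide +kernel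

theorem powX : Q.powOK [7] 13 = true := by decide +kernel

theorem xmove : Nat.beq (Q.app [7] 1) 1 = false := by decide +kernel

theorem bmove : Nat.beq (Q.app [0] 2) 2 = false := by decide +kernel

theorem tauX : allBelow (fun v => Nat.beq (tg16 tT (Q.app [7] v)) (Q.app [7, 7] (tg16 tT v)))
    1782 = true := by decide +kernel

theorem tauN : allBelow (fun v => Nat.beq (tg16 tT (Q.app [37] v)) (Q.app [37] (tg16 tT v)))
    1782 = true := by decide +kernel

theorem tauR : allBelow (fun v => Nat.beq (tg16 tT (Q.app [39] v))
    (Q.app (accB.getD 69 []) (tg16 tT v))) 1782 = true := by decide +kernel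

theorem hierG : hierOK Q (fun _ => true) (fun i => Nat.blt i 7) dw = true := by decide +kernel

theorem hierH : hierOK Q okL baseL dw = true := by decide +kernel

theorem lettersB : LsB.all (fun L => allBelow (fun c => (L.w c).all okL) L.m) = true := by
  decide +kernel

theorem accWokA : accA.all (fun w => Q.wok w) = true := by decide +kernel

theorem accWokB : accB.all (fun w => Q.wok w) = true := by decide +kernel

theorem accLenA : accA.length = 13 := by decide +kernel

theorem accLenB : accB.length = 72 := by decide +kernel

theorem prodA : (LsA.map (fun L => L.m)).prod = 448345497600 := by decide +kernel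

theorem prodB : (LsB.map (fun L => L.m)).prod = 448345497600 := by decide +kernel

theorem iterA : List.iterate (Q.app [7]) 1 5 = [1, 34, 251, 1739, 617] := by decide +kernel

theorem iterB : List.iterate (Q.app [37]) 1 4 = [1, 13, 1372, 1066] := by decide +kernel

theorem normOK : allBelow (fun k => (List.iterate (Q.app [7]) 1 5).all (fun b =>
    Nat.beq (Q.app (accA.getD k []) b)
      (Q.app (List.replicate k 7 ++ (37 :: List.replicate k 8)) b))) 13 = true := by
  decide +kernel

theorem rB0 : (List.iterate (Q.app [37]) 1 4).all (fun b =>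
    Nat.beq (Q.app (accB.getD 0 []) b) (Q.app [39] b)) = true := by decide +kernel

theorem badOK : allBelow (fun k => Nat.beq k 0 || (Nat.blt (tg16 tFJ k) 2 &&
    Nat.blt (tg16 tFW k) 1782 &&
    !(Nat.beq ((Q.app (fpU (tg16 tFJ k) ++ accB.getD k []))^[fpE (tg16 tFJ k)] (tg16 tFW k))
      (tg16 tFW k)))) 72 = true := by decide +kernel

theorem fpLet : allBelow (fun j => (fpU j).all okXN) 2 = true := by decide +kernel

theorem invLt : allBelow (fun l => Nat.beq (Q.inv l) l) 7 = true := by decide +kernel

end Cfsg.Agent.Lib.Helper19.SuzOut
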