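import Cfsg.Prelude.Def_Spor_Suz
import Cfsg.Agent.Lib.Helper19.SuzMain
import Cfsg.Agent.Lib.Helper19.SuzP1
import Cfsg.Agent.Lib.Helper19.SuzP2
import Cfsg.Agent.Lib.Helper19.SuzP3
import Cfsg.Agent.Lib.Helper19.SuzP4
import Cfsg.Agent.Lib.Helper19.SuzP5
import Cfsg.Agent.Lib.Helper19.SuzP6
import Cfsg.Agent.S1680

/-!
# The presented Suzuki group is the Suzuki group on 1782 points

The presented group `P` maps onto `G = ⟨s 0, …, s 6⟩ ≤ Sym(1782)` (`Suz.card_G`, `Suz.simple`).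
Conversely `|P| ≤ 1782 · |⟨a, …, f⟩|` by the index statement `S1680`, and
`|⟨a, …, f⟩| ≤ 2 · 8 · 1 · 135 · 280 · 416` by Todd–Coxeter certificates for the chain
`⟨c⟩ ≤ ⟨c, d⟩ ≤ ⟨c, d, a⟩ ≤ ⟨c, d, a, b⟩ ≤ ⟨c, d, a, b, e⟩ ≤ ⟨c, d, a, b, e, f⟩`, which use only
the relators of the presentation.
-/

set_option autoImplicit false

namespace Cfsg.Agent.Lib.Helper19.SuzPres

open Cfsg.Spor
open Cfsg.Agent.Lib.Helper56.TC (ew)
open Cfsg.Agent.Lib.Helper19.Cox (L L_mono mem_L L_zero)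

/-- the relators of the presentation -/
abbrev R : Set (FreeGroup Suz.Gen) := coxRelators Suz.edges ∪ {r | r ∈ Suz.extra}

theorem node (x : Suz.Gen) : x ∈ coxNodes Suz.edges := by cases x <;> decide

/-- abbreviation for the generators of the presented group -/
noncomputable abbrev o (x : Suz.Gen) : PresentedGroup R := PresentedGroup.of x

theorem pairP (x y : Suz.Gen) (m : ℕ) (hm : coxLabel Suz.edges x y = m) : (o x * o y) ^ m = 1 := by
  have hmem : (FreeGroup.of x * FreeGroup.of y) ^ m ∈ R :=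
    Or.inl ⟨x, node x, y, node y, by rw [hm]⟩
  have h := PresentedGroup.one_of_mem hmem
  rw [map_pow, map_mul] at h
  exact h

theorem extraP (r : FreeGroup Suz.Gen) (hr : r ∈ Suz.extra) : PresentedGroup.mk R r = 1 :=
  PresentedGroup.one_of_mem (Or.inr hr)

/-- the generators in the order c, d, a, b, e, f, g -/
def gu : ℕ → Suz.Gen
  | 0 => .c
  | 1 => .d
  | 2 => .a
  | 3 => .b
  | 4 => .e
  | 5 => .f
  | _ => .g

/-- the generators of the presented group, in the order c, d, a, b, e, f, g -/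
noncomputable def u (i : ℕ) : PresentedGroup R := PresentedGroup.of (gu i)

theorem hu (i : ℕ) : u i * u i = 1 := by
  have h := pairP (gu i) (gu i) 1 (by unfold coxLabel; rw [if_pos rfl])
  rwa [pow_one] at h

/-! ### The relators, as words in the reordered generators -/

theorem relU_0 : ew u [2, 3, 2, 3, 2, 3, 2, 3, 2, 3] = 1 := by
  have h := pairP .a .b 5 (by decide)
  simpa [ew, u, gu, pow_succ, mul_assoc] using h

theorem relU_1 : ew u [2, 0, 2, 0] = 1 := by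
  have h := pairP .a .c 2 (by decide)
  simpa [ew, u, gu, pow_succ, mul_assoc] using h

theorem relU_2 : ew u [2, 1, 2, 1] = 1 := by
  have h := pairP .a .d 2 (by decide)
  simpa [ew, u, gu, pow_succ, mul_assoc] using h

theorem relU_3 : ew u [2, 4, 2, 4] = 1 := by
  have h := pairP .a .e 2 (by decide)
  simpa [ew, u, gu, pow_succ, mul_assoc] using h

theorem relU_4 : ew u [2, 5, 2, 5] = 1 := by
  have h := pairP .a .f 2 (by decide)
  simpa [ew, u, gu, pow_succ, mul_assoc] using h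

theorem relU_5 : ew u [2, 6, 2, 6] = 1 := by
  have h := pairP .a .g 2 (by decide)
  simpa [ew, u, gu, pow_succ, mul_assoc] using h

theorem relU_6 : ew u [3, 0, 3, 0, 3, 0] = 1 := by
  have h := pairP .b .c 3 (by decide)
  simpa [ew, u, gu, pow_succ, mul_assoc] using h

theorem relU_7 : ew u [3, 1, 3, 1] = 1 := by
  have h := pairP .b .d 2 (by decide)
  simpa [ew, u, gu, pow_succ, mul_assoc] using h

theorem relU_8 : ew u [3, 4, 3, 4] = 1 := by
  have h := pairP .b .e 2 (by decide)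
  simpa [ew, u, gu, pow_succ, mul_assoc] using h

theorem relU_9 : ew u [3, 5, 3, 5, 3, 5] = 1 := by
  have h := pairP .b .f 3 (by decide)
  simpa [ew, u, gu, pow_succ, mul_assoc] using h

theorem relU_10 : ew u [3, 6, 3, 6, 3, 6] = 1 := by
  have h := pairP .b .g 3 (by decide)
  simpa [ew, u, gu, pow_succ, mul_assoc] using h

theorem relU_11 : ew u [0, 1, 0, 1, 0, 1, 0, 1, 0, 1, 0, 1, 0, 1, 0, 1] = 1 := by
  have h := pairP .c .d 8 (by decide)
  simpa [ew, u, gu, pow_succ, mul_assoc] using h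

theorem relU_12 : ew u [0, 4, 0, 4] = 1 := by
  have h := pairP .c .e 2 (by decide)
  simpa [ew, u, gu, pow_succ, mul_assoc] using h

theorem relU_13 : ew u [0, 5, 0, 5] = 1 := by
  have h := pairP .c .f 2 (by decide)
  simpa [ew, u, gu, pow_succ, mul_assoc] using h

theorem relU_14 : ew u [0, 6, 0, 6] = 1 := by
  have h := pairP .c .g 2 (by decide)
  simpa [ew, u, gu, pow_succ, mul_assoc] using h

theorem relU_15 : ew u [1, 4, 1, 4, 1, 4] = 1 := by
  have h := pairP .d .e 3 (by decide)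
  simpa [ew, u, gu, pow_succ, mul_assoc] using h

theorem relU_16 : ew u [1, 5, 1, 5] = 1 := by
  have h := pairP .d .f 2 (by decide)
  simpa [ew, u, gu, pow_succ, mul_assoc] using h

theorem relU_17 : ew u [1, 6, 1, 6] = 1 := by
  have h := pairP .d .g 2 (by decide)
  simpa [ew, u, gu, pow_succ, mul_assoc] using h

theorem relU_18 : ew u [4, 5, 4, 5] = 1 := by
  have h := pairP .e .f 2 (by decide)
  simpa [ew, u, gu, pow_succ, mul_assoc] using h

theorem relU_19 : ew u [4, 6, 4, 6] = 1 := by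
  have h := pairP .e .g 2 (by decide)
  simpa [ew, u, gu, pow_succ, mul_assoc] using h

theorem relU_20 : ew u [5, 6, 5, 6, 5, 6, 5, 6] = 1 := by
  have h := pairP .f .g 4 (by decide)
  simpa [ew, u, gu, pow_succ, mul_assoc] using h

theorem relU_21 : ew u [2, 0, 1, 0, 1, 0, 1, 0, 1] = 1 := by
  have h := extraP (Suz.a * ((Suz.c * Suz.d) ^ 4)⁻¹) (by simp [Suz.extra])
  have h8 := pairP .c .d 8 (by decide)
  rw [map_mul, map_inv, map_pow, map_mul, mul_inv_eq_one] at h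
  have h' : o .a = (o .c * o .d) ^ 4 := h
  have e : ew u [2, 0, 1, 0, 1, 0, 1, 0, 1] = o .a * (o .c * o .d) ^ 4 := by
    simp [ew, u, gu, pow_succ, mul_assoc]
  rw [e, h', ← pow_add]
  exact h8

theorem relU_22 : ew u [2, 5, 6, 5, 6] = 1 := by
  have h := extraP (Suz.a * ((Suz.f * Suz.g) ^ 2)⁻¹) (by simp [Suz.extra])
  have h4 := pairP .f .g 4 (by decide)
  rw [map_mul, map_inv, map_pow, map_mul, mul_inv_eq_one] at h
  have h' : o .a = (o .f * o .g) ^ 2 := h
  have e : ew u [2, 5, 6, 5, 6] = o .a * (o .f * o .g) ^ 2 := by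
    simp [ew, u, gu, pow_succ, mul_assoc]
  rw [e, h', ← pow_add]
  exact h4

theorem relU_23 : ew u [2, 3, 0, 5, 2, 3, 0, 5, 2, 3, 0, 5, 2, 3, 0, 5, 2, 3, 0, 5] = 1 := by
  have h := extraP ((Suz.a * Suz.b * Suz.c * Suz.f) ^ 5) (by simp [Suz.extra])
  simp only [map_pow, map_mul] at h
  have h' : ((o .a * o .b * o .c * o .f) ^ 5 : PresentedGroup R) = 1 := h
  simpa [ew, u, gu, pow_succ, mul_assoc] using h'

theorem relU_24 : ew u [3, 5, 6, 3, 5, 6, 3, 5, 6, 3, 5, 6, 3, 5, 6] = 1 := by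
  have h := extraP ((Suz.b * Suz.f * Suz.g) ^ 5) (by simp [Suz.extra])
  simp only [map_pow, map_mul] at h
  have h' : ((o .b * o .f * o .g) ^ 5 : PresentedGroup R) = 1 := h
  simpa [ew, u, gu, pow_succ, mul_assoc] using h'

theorem relU_25 : ew u [3, 0, 1, 0, 1, 3, 0, 1, 0, 1, 3, 0, 1, 0, 1, 3, 0, 1, 0, 1, 3, 0, 1, 0, 1, 4, 3, 0, 1, 0, 1, 3, 0, 1, 0, 1, 3, 0, 1, 0, 1, 3, 0, 1, 0, 1, 3, 0, 1, 0, 1, 4, 3, 0, 1, 0, 1, 3, 0, 1, 0, 1, 3, 0, 1, 0, 1, 3, 0, 1, 0, 1, 3, 0, 1, 0, 1, 4] = 1 := by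
  have h := extraP (((Suz.b * Suz.c * Suz.d * Suz.c * Suz.d) ^ 5 * Suz.e) ^ 3) (by simp [Suz.extra])
  simp only [map_pow, map_mul] at h
  have h' : (((o .b * o .c * o .d * o .c * o .d) ^ 5 * o .e) ^ 3 : PresentedGroup R) = 1 := h
  simpa [ew, u, gu, pow_succ, mul_assoc] using h'

/-- the relators of the presentation as words in the reordered generators -/
def RU : List (List ℕ) :=
  [[2, 3, 2, 3, 2, 3, 2, 3, 2, 3],
   [2, 0, 2, 0],
   [2, 1, 2, 1],
   [2, 4, 2, 4],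
   [2, 5, 2, 5],
   [2, 6, 2, 6],
   [3, 0, 3, 0, 3, 0],
   [3, 1, 3, 1],
   [3, 4, 3, 4],
   [3, 5, 3, 5, 3, 5],
   [3, 6, 3, 6, 3, 6],
   [0, 1, 0, 1, 0, 1, 0, 1, 0, 1, 0, 1, 0, 1, 0, 1],
   [0, 4, 0, 4],
   [0, 5, 0, 5],
   [0, 6, 0, 6],
   [1, 4, 1, 4, 1, 4],
   [1, 5, 1, 5],
   [1, 6, 1, 6],
   [4, 5, 4, 5],
   [4, 6, 4, 6],
   [5, 6, 5, 6, 5, 6, 5, 6],
   [2, 0, 1, 0, 1, 0, 1, 0, 1],
   [2, 5, 6, 5, 6],
   [2, 3, 0, 5, 2, 3, 0, 5, 2, 3, 0, 5, 2, 3, 0, 5, 2, 3, 0, 5],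
   [3, 5, 6, 3, 5, 6, 3, 5, 6, 3, 5, 6, 3, 5, 6],
   [3, 0, 1, 0, 1, 3, 0, 1, 0, 1, 3, 0, 1, 0, 1, 3, 0, 1, 0, 1, 3, 0, 1, 0, 1, 4, 3, 0, 1, 0, 1, 3, 0, 1, 0, 1, 3, 0, 1, 0, 1, 3, 0, 1, 0, 1, 3, 0, 1, 0, 1, 4, 3, 0, 1, 0, 1, 3, 0, 1, 0, 1, 3, 0, 1, 0, 1, 3, 0, 1, 0, 1, 3, 0, 1, 0, 1, 4]]

theorem relU : ∀ w ∈ RU, ew u w = 1 := by
  intro w hw
  simp only [RU, List.mem_cons, List.not_mem_nil, or_false] at hw
  rcases hw with rfl | rfl | rfl | rfl | rfl | rfl | rfl | rfl | rfl | rfl | rfl | rfl | rfl | rfl | rfl | rfl | rfl | rfl | rfl | rfl | rfl | rfl | rfl | rfl | rfl | rfl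
  · exact relU_0
  · exact relU_1
  · exact relU_2
  · exact relU_3
  · exact relU_4
  · exact relU_5
  · exact relU_6
  · exact relU_7
  · exact relU_8
  · exact relU_9
  · exact relU_10
  · exact relU_11
  · exact relU_12
  · exact relU_13
  · exact relU_14
  · exact relU_15
  · exact relU_16
  · exact relU_17
  · exact relU_18
  · exact relU_19
  · exact relU_20
  · exact relU_21
  · exact relU_22
  · exact relU_23
  · exact relU_24
  · exact relU_25
/-! ### The relators in the permutation group -/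

open Cfsg.Agent.Lib.Helper19.Suz (s hs hrel rels)

theorem pairG_0_1 : (s 0 * s 1) ^ 5 = 1 := by
  have h : (([0, 1, 0, 1, 0, 1, 0, 1, 0, 1] : List ℕ).map s).prod = 1 := hrel 0
  simpa [pow_succ, mul_assoc] using h

theorem pairG_0_2 : (s 0 * s 2) ^ 2 = 1 := by
  have h : (([0, 2, 0, 2] : List ℕ).map s).prod = 1 := hrel 1
  simpa [pow_succ, mul_assoc] using h

theorem pairG_0_3 : (s 0 * s 3) ^ 2 = 1 := by
  have h : (([0, 3, 0, 3] : List ℕ).map s).prod = 1 := hrel 2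
  simpa [pow_succ, mul_assoc] using h

theorem pairG_0_4 : (s 0 * s 4) ^ 2 = 1 := by
  have h : (([0, 4, 0, 4] : List ℕ).map s).prod = 1 := hrel 3
  simpa [pow_succ, mul_assoc] using h

theorem pairG_0_5 : (s 0 * s 5) ^ 2 = 1 := by
  have h : (([0, 5, 0, 5] : List ℕ).map s).prod = 1 := hrel 4
  simpa [pow_succ, mul_assoc] using h

theorem pairG_0_6 : (s 0 * s 6) ^ 2 = 1 := by
  have h : (([0, 6, 0, 6] : List ℕ).map s).prod = 1 := hrel 5
  simpa [pow_succ, mul_assoc] using h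

theorem pairG_1_2 : (s 1 * s 2) ^ 3 = 1 := by
  have h : (([1, 2, 1, 2, 1, 2] : List ℕ).map s).prod = 1 := hrel 6
  simpa [pow_succ, mul_assoc] using h

theorem pairG_1_3 : (s 1 * s 3) ^ 2 = 1 := by
  have h : (([1, 3, 1, 3] : List ℕ).map s).prod = 1 := hrel 7
  simpa [pow_succ, mul_assoc] using h

theorem pairG_1_4 : (s 1 * s 4) ^ 2 = 1 := by
  have h : (([1, 4, 1, 4] : List ℕ).map s).prod = 1 := hrel 8
  simpa [pow_succ, mul_assoc] using h

theorem pairG_1_5 : (s 1 * s 5) ^ 3 = 1 := by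
  have h : (([1, 5, 1, 5, 1, 5] : List ℕ).map s).prod = 1 := hrel 9
  simpa [pow_succ, mul_assoc] using h

theorem pairG_1_6 : (s 1 * s 6) ^ 3 = 1 := by
  have h : (([1, 6, 1, 6, 1, 6] : List ℕ).map s).prod = 1 := hrel 10
  simpa [pow_succ, mul_assoc] using h

theorem pairG_2_3 : (s 2 * s 3) ^ 8 = 1 := by
  have h : (([2, 3, 2, 3, 2, 3, 2, 3, 2, 3, 2, 3, 2, 3, 2, 3] : List ℕ).map s).prod = 1 := hrel 11
  simpa [pow_succ, mul_assoc] using h

theorem pairG_2_4 : (s 2 * s 4) ^ 2 = 1 := by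
  have h : (([2, 4, 2, 4] : List ℕ).map s).prod = 1 := hrel 12
  simpa [pow_succ, mul_assoc] using h

theorem pairG_2_5 : (s 2 * s 5) ^ 2 = 1 := by
  have h : (([2, 5, 2, 5] : List ℕ).map s).prod = 1 := hrel 13
  simpa [pow_succ, mul_assoc] using h

theorem pairG_2_6 : (s 2 * s 6) ^ 2 = 1 := by
  have h : (([2, 6, 2, 6] : List ℕ).map s).prod = 1 := hrel 14
  simpa [pow_succ, mul_assoc] using h

theorem pairG_3_4 : (s 3 * s 4) ^ 3 = 1 := by
  have h : (([3, 4, 3, 4, 3, 4] : List ℕ).map s).prod = 1 := hrel 15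
  simpa [pow_succ, mul_assoc] using h

theorem pairG_3_5 : (s 3 * s 5) ^ 2 = 1 := by
  have h : (([3, 5, 3, 5] : List ℕ).map s).prod = 1 := hrel 16
  simpa [pow_succ, mul_assoc] using h

theorem pairG_3_6 : (s 3 * s 6) ^ 2 = 1 := by
  have h : (([3, 6, 3, 6] : List ℕ).map s).prod = 1 := hrel 17
  simpa [pow_succ, mul_assoc] using h

theorem pairG_4_5 : (s 4 * s 5) ^ 2 = 1 := by
  have h : (([4, 5, 4, 5] : List ℕ).map s).prod = 1 := hrel 18
  simpa [pow_succ, mul_assoc] using h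

theorem pairG_4_6 : (s 4 * s 6) ^ 2 = 1 := by
  have h : (([4, 6, 4, 6] : List ℕ).map s).prod = 1 := hrel 19
  simpa [pow_succ, mul_assoc] using h

theorem pairG_5_6 : (s 5 * s 6) ^ 4 = 1 := by
  have h : (([5, 6, 5, 6, 5, 6, 5, 6] : List ℕ).map s).prod = 1 := hrel 20
  simpa [pow_succ, mul_assoc] using h

/-- the index of a generator -/
def idx : Suz.Gen → ℕ
  | .a => 0
  | .b => 1
  | .c => 2
  | .d => 3
  | .e => 4
  | .f => 5
  | .g => 6

theorem pow_comm_one {G : Type*} [Group G] (a b : G) (m : ℕ) (h : (b * a) ^ m = 1) :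
    (a * b) ^ m = 1 := by
  have h1 : a * b = a * (b * a) * a⁻¹ := by group
  rw [h1, conj_pow, h]
  group

theorem pairG : ∀ x y : Suz.Gen, (s (idx x) * s (idx y)) ^ coxLabel Suz.edges x y = 1
  | .a, .a => by
    rw [show coxLabel Suz.edges Suz.Gen.a Suz.Gen.a = 1 from by decide, pow_one]
    exact hs 0
  | .a, .b => by
    rw [show coxLabel Suz.edges Suz.Gen.a Suz.Gen.b = 5 from by decide]
    exact pairG_0_1
  | .a, .c => by
    rw [show coxLabel Suz.edges Suz.Gen.a Suz.Gen.c = 2 from by decide]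
    exact pairG_0_2
  | .a, .d => by
    rw [show coxLabel Suz.edges Suz.Gen.a Suz.Gen.d = 2 from by decide]
    exact pairG_0_3
  | .a, .e => by
    rw [show coxLabel Suz.edges Suz.Gen.a Suz.Gen.e = 2 from by decide]
    exact pairG_0_4
  | .a, .f => by
    rw [show coxLabel Suz.edges Suz.Gen.a Suz.Gen.f = 2 from by decide]
    exact pairG_0_5
  | .a, .g => by
    rw [show coxLabel Suz.edges Suz.Gen.a Suz.Gen.g = 2 from by decide]
    exact pairG_0_6
  | .b, .a => by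
    rw [show coxLabel Suz.edges Suz.Gen.b Suz.Gen.a = 5 from by decide]
    exact pow_comm_one _ _ _ pairG_0_1
  | .b, .b => by
    rw [show coxLabel Suz.edges Suz.Gen.b Suz.Gen.b = 1 from by decide, pow_one]
    exact hs 1
  | .b, .c => by
    rw [show coxLabel Suz.edges Suz.Gen.b Suz.Gen.c = 3 from by decide]
    exact pairG_1_2
  | .b, .d => by
    rw [show coxLabel Suz.edges Suz.Gen.b Suz.Gen.d = 2 from by decide]
    exact pairG_1_3
  | .b, .e => by
    rw [show coxLabel Suz.edges Suz.Gen.b Suz.Gen.e = 2 from by decide]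
    exact pairG_1_4
  | .b, .f => by
    rw [show coxLabel Suz.edges Suz.Gen.b Suz.Gen.f = 3 from by decide]
    exact pairG_1_5
  | .b, .g => by
    rw [show coxLabel Suz.edges Suz.Gen.b Suz.Gen.g = 3 from by decide]
    exact pairG_1_6
  | .c, .a => by
    rw [show coxLabel Suz.edges Suz.Gen.c Suz.Gen.a = 2 from by decide]
    exact pow_comm_one _ _ _ pairG_0_2
  | .c, .b => by
    rw [show coxLabel Suz.edges Suz.Gen.c Suz.Gen.b = 3 from by decide]
    exact pow_comm_one _ _ _ pairG_1_2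
  | .c, .c => by
    rw [show coxLabel Suz.edges Suz.Gen.c Suz.Gen.c = 1 from by decide, pow_one]
    exact hs 2
  | .c, .d => by
    rw [show coxLabel Suz.edges Suz.Gen.c Suz.Gen.d = 8 from by decide]
    exact pairG_2_3
  | .c, .e => by
    rw [show coxLabel Suz.edges Suz.Gen.c Suz.Gen.e = 2 from by decide]
    exact pairG_2_4
  | .c, .f => by
    rw [show coxLabel Suz.edges Suz.Gen.c Suz.Gen.f = 2 from by decide]
    exact pairG_2_5
  | .c, .g => by
    rw [show coxLabel Suz.edges Suz.Gen.c Suz.Gen.g = 2 from by decide]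
    exact pairG_2_6
  | .d, .a => by
    rw [show coxLabel Suz.edges Suz.Gen.d Suz.Gen.a = 2 from by decide]
    exact pow_comm_one _ _ _ pairG_0_3
  | .d, .b => by
    rw [show coxLabel Suz.edges Suz.Gen.d Suz.Gen.b = 2 from by decide]
    exact pow_comm_one _ _ _ pairG_1_3
  | .d, .c => by
    rw [show coxLabel Suz.edges Suz.Gen.d Suz.Gen.c = 8 from by decide]
    exact pow_comm_one _ _ _ pairG_2_3
  | .d, .d => by
    rw [show coxLabel Suz.edges Suz.Gen.d Suz.Gen.d = 1 from by decide, pow_one]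
    exact hs 3
  | .d, .e => by
    rw [show coxLabel Suz.edges Suz.Gen.d Suz.Gen.e = 3 from by decide]
    exact pairG_3_4
  | .d, .f => by
    rw [show coxLabel Suz.edges Suz.Gen.d Suz.Gen.f = 2 from by decide]
    exact pairG_3_5
  | .d, .g => by
    rw [show coxLabel Suz.edges Suz.Gen.d Suz.Gen.g = 2 from by decide]
    exact pairG_3_6
  | .e, .a => by
    rw [show coxLabel Suz.edges Suz.Gen.e Suz.Gen.a = 2 from by decide]
    exact pow_comm_one _ _ _ pairG_0_4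
  | .e, .b => by
    rw [show coxLabel Suz.edges Suz.Gen.e Suz.Gen.b = 2 from by decide]
    exact pow_comm_one _ _ _ pairG_1_4
  | .e, .c => by
    rw [show coxLabel Suz.edges Suz.Gen.e Suz.Gen.c = 2 from by decide]
    exact pow_comm_one _ _ _ pairG_2_4
  | .e, .d => by
    rw [show coxLabel Suz.edges Suz.Gen.e Suz.Gen.d = 3 from by decide]
    exact pow_comm_one _ _ _ pairG_3_4
  | .e, .e => by
    rw [show coxLabel Suz.edges Suz.Gen.e Suz.Gen.e = 1 from by decide, pow_one]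
    exact hs 4
  | .e, .f => by
    rw [show coxLabel Suz.edges Suz.Gen.e Suz.Gen.f = 2 from by decide]
    exact pairG_4_5
  | .e, .g => by
    rw [show coxLabel Suz.edges Suz.Gen.e Suz.Gen.g = 2 from by decide]
    exact pairG_4_6
  | .f, .a => by
    rw [show coxLabel Suz.edges Suz.Gen.f Suz.Gen.a = 2 from by decide]
    exact pow_comm_one _ _ _ pairG_0_5
  | .f, .b => by
    rw [show coxLabel Suz.edges Suz.Gen.f Suz.Gen.b = 3 from by decide]
    exact pow_comm_one _ _ _ pairG_1_5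
  | .f, .c => by
    rw [show coxLabel Suz.edges Suz.Gen.f Suz.Gen.c = 2 from by decide]
    exact pow_comm_one _ _ _ pairG_2_5
  | .f, .d => by
    rw [show coxLabel Suz.edges Suz.Gen.f Suz.Gen.d = 2 from by decide]
    exact pow_comm_one _ _ _ pairG_3_5
  | .f, .e => by
    rw [show coxLabel Suz.edges Suz.Gen.f Suz.Gen.e = 2 from by decide]
    exact pow_comm_one _ _ _ pairG_4_5
  | .f, .f => by
    rw [show coxLabel Suz.edges Suz.Gen.f Suz.Gen.f = 1 from by decide, pow_one]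
    exact hs 5
  | .f, .g => by
    rw [show coxLabel Suz.edges Suz.Gen.f Suz.Gen.g = 4 from by decide]
    exact pairG_5_6
  | .g, .a => by
    rw [show coxLabel Suz.edges Suz.Gen.g Suz.Gen.a = 2 from by decide]
    exact pow_comm_one _ _ _ pairG_0_6
  | .g, .b => by
    rw [show coxLabel Suz.edges Suz.Gen.g Suz.Gen.b = 3 from by decide]
    exact pow_comm_one _ _ _ pairG_1_6
  | .g, .c => by
    rw [show coxLabel Suz.edges Suz.Gen.g Suz.Gen.c = 2 from by decide]
    exact pow_comm_one _ _ _ pairG_2_6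
  | .g, .d => by
    rw [show coxLabel Suz.edges Suz.Gen.g Suz.Gen.d = 2 from by decide]
    exact pow_comm_one _ _ _ pairG_3_6
  | .g, .e => by
    rw [show coxLabel Suz.edges Suz.Gen.g Suz.Gen.e = 2 from by decide]
    exact pow_comm_one _ _ _ pairG_4_6
  | .g, .f => by
    rw [show coxLabel Suz.edges Suz.Gen.g Suz.Gen.f = 4 from by decide]
    exact pow_comm_one _ _ _ pairG_5_6
  | .g, .g => by
    rw [show coxLabel Suz.edges Suz.Gen.g Suz.Gen.g = 1 from by decide, pow_one]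
    exact hs 6
/-! ### The homomorphism onto the permutation group -/

theorem relG : ∀ r ∈ R, FreeGroup.lift (fun x => s (idx x)) r = 1 := by
  rintro r (⟨x, _, y, _, rfl⟩ | hr)
  · rw [map_pow, map_mul, FreeGroup.lift_apply_of, FreeGroup.lift_apply_of]
    exact pairG x y
  · simp only [Set.mem_ofPred_eq, Suz.extra, List.mem_cons, List.not_mem_nil, or_false] at hr
    rcases hr with rfl | rfl | rfl | rfl | rfl
    · simp only [map_mul, map_inv, map_pow, FreeGroup.lift_apply_of]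
      show s 0 * ((s 2 * s 3) ^ 4)⁻¹ = 1
      have h : (([0, 2, 3, 2, 3, 2, 3, 2, 3] : List ℕ).map s).prod = 1 := hrel 21
      have h' : s 0 * (s 2 * s 3) ^ 4 = 1 := by simpa [pow_succ, mul_assoc] using h
      have h2 : (s 2 * s 3) ^ 4 = (s 0)⁻¹ := eq_inv_of_mul_eq_one_right h'
      rw [h2, inv_inv]
      exact hs 0
    · simp only [map_mul, map_inv, map_pow, FreeGroup.lift_apply_of]
      show s 0 * ((s 5 * s 6) ^ 2)⁻¹ = 1
      have h : (([0, 5, 6, 5, 6] : List ℕ).map s).prod = 1 := hrel 22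
      have h' : s 0 * (s 5 * s 6) ^ 2 = 1 := by simpa [pow_succ, mul_assoc] using h
      have h2 : (s 5 * s 6) ^ 2 = (s 0)⁻¹ := eq_inv_of_mul_eq_one_right h'
      rw [h2, inv_inv]
      exact hs 0
    · simp only [map_mul, map_pow, FreeGroup.lift_apply_of]
      show (s 0 * s 1 * s 2 * s 5) ^ 5 = 1
      have h : (([0, 1, 2, 5, 0, 1, 2, 5, 0, 1, 2, 5, 0, 1, 2, 5, 0, 1, 2, 5] : List ℕ).map s).prod = 1 :=
        hrel 23
      simpa [pow_succ, mul_assoc] using h
    · simp only [map_mul, map_pow, FreeGroup.lift_apply_of]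
      show (s 1 * s 5 * s 6) ^ 5 = 1
      have h : (([1, 5, 6, 1, 5, 6, 1, 5, 6, 1, 5, 6, 1, 5, 6] : List ℕ).map s).prod = 1 := hrel 24
      simpa [pow_succ, mul_assoc] using h
    · simp only [map_mul, map_pow, FreeGroup.lift_apply_of]
      show ((s 1 * s 2 * s 3 * s 2 * s 3) ^ 5 * s 4) ^ 3 = 1
      have h : (([1, 2, 3, 2, 3, 1, 2, 3, 2, 3, 1, 2, 3, 2, 3, 1, 2, 3, 2, 3, 1, 2, 3, 2, 3, 4, 1, 2, 3, 2, 3, 1, 2, 3, 2, 3, 1, 2, 3, 2, 3, 1, 2, 3, 2, 3, 1, 2, 3, 2, 3, 4, 1, 2, 3, 2, 3, 1, 2, 3, 2, 3, 1, 2, 3, 2, 3, 1, 2, 3, 2, 3, 1, 2, 3, 2, 3, 4] : List ℕ).map s).prod = 1 :=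
        hrel 25
      simpa [pow_succ, mul_assoc] using h

/-- the homomorphism from the presented group to `Sym(1782)` -/
noncomputable def φ : PresentedGroup R →* Equiv.Perm (Fin Cfsg.Agent.Lib.Helper19.Suz.P.d) :=
  PresentedGroup.toGroup relG

theorem φ_of (x : Suz.Gen) : φ (PresentedGroup.of x) = s (idx x) := PresentedGroup.toGroup.of relG

/-- the generators in the order a, …, g -/
def gn : ℕ → Suz.Gen
  | 0 => .a
  | 1 => .b
  | 2 => .c
  | 3 => .d
  | 4 => .e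
  | 5 => .f
  | _ => .g

theorem range_φ : φ.range = L s 7 := by
  rw [MonoidHom.range_eq_map, ← PresentedGroup.closure_range_of R, MonoidHom.map_closure]
  unfold L
  congr 1
  ext y
  constructor
  · rintro ⟨_, ⟨x, rfl⟩, rfl⟩
    refine ⟨idx x, ?_, (φ_of x).symm⟩
    cases x <;> simp [idx]
  · rintro ⟨i, hi, rfl⟩
    have hi' : i < 7 := hi
    refine ⟨PresentedGroup.of (gn i), ⟨gn i, rfl⟩, ?_⟩
    rw [φ_of]
    interval_cases i <;> rfl

/-! ### The upper bound -/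

open Cfsg.Agent.Lib.Helper19.TCU (tc_step_upper)

theorem sub1 : ∀ w ∈ SuzP1.T.rels1, w ∈ RU := by decide +kernel
theorem sub2 : ∀ w ∈ SuzP2.T.rels1, w ∈ RU := by decide +kernel
theorem sub3 : ∀ w ∈ SuzP3.T.rels1, w ∈ RU := by decide +kernel
theorem sub4 : ∀ w ∈ SuzP4.T.rels1, w ∈ RU := by decide +kernel
theorem sub5 : ∀ w ∈ SuzP5.T.rels1, w ∈ RU := by decide +kernel
theorem sub6 : ∀ w ∈ SuzP6.T.rels1, w ∈ RU := by decide +kernel

theorem upper6 : Finite (L u 6) ∧ Nat.card (L u 6) ≤ 251596800 := by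
  have : Finite (L u 0) := by rw [L_zero]; infer_instance
  have h0 : Nat.card (L u 0) = 1 := by rw [L_zero]; exact Subgroup.card_bot
  obtain ⟨f1, h1⟩ : Finite (L u 1) ∧ Nat.card (L u 1) ≤ SuzP1.T.N * Nat.card (L u 0) :=
    tc_step_upper u SuzP1.T 0 SuzP1.checked hu (fun w hw => relU w (sub1 w hw))
  have := f1
  obtain ⟨f2, h2⟩ : Finite (L u 2) ∧ Nat.card (L u 2) ≤ SuzP2.T.N * Nat.card (L u 1) :=
    tc_step_upper u SuzP2.T 1 SuzP2.checked hu (fun w hw => relU w (sub2 w hw))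
  have := f2
  obtain ⟨f3, h3⟩ : Finite (L u 3) ∧ Nat.card (L u 3) ≤ SuzP3.T.N * Nat.card (L u 2) :=
    tc_step_upper u SuzP3.T 2 SuzP3.checked hu (fun w hw => relU w (sub3 w hw))
  have := f3
  obtain ⟨f4, h4⟩ : Finite (L u 4) ∧ Nat.card (L u 4) ≤ SuzP4.T.N * Nat.card (L u 3) :=
    tc_step_upper u SuzP4.T 3 SuzP4.checked hu (fun w hw => relU w (sub4 w hw))
  have := f4
  obtain ⟨f5, h5⟩ : Finite (L u 5) ∧ Nat.card (L u 5) ≤ SuzP5.T.N * Nat.card (L u 4) :=
    tc_step_upper u SuzP5.T 4 SuzP5.checked hu (fun w hw => relU w (sub5 w hw))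
  have := f5
  obtain ⟨f6, h6⟩ : Finite (L u 6) ∧ Nat.card (L u 6) ≤ SuzP6.T.N * Nat.card (L u 5) :=
    tc_step_upper u SuzP6.T 5 SuzP6.checked hu (fun w hw => relU w (sub6 w hw))
  have e1 : SuzP1.T.N = 2 := rfl
  have e2 : SuzP2.T.N = 8 := rfl
  have e3 : SuzP3.T.N = 1 := rfl
  have e4 : SuzP4.T.N = 135 := rfl
  have e5 : SuzP5.T.N = 280 := rfl
  have e6 : SuzP6.T.N = 416 := rfl
  rw [e1, h0] at h1
  rw [e2] at h2
  rw [e3] at h3
  rw [e4] at h4
  rw [e5] at h5
  rw [e6] at h6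
  exact ⟨f6, by omega⟩

theorem H_eq : (Subgroup.closure ({Suz.a, Suz.b, Suz.c, Suz.d, Suz.e, Suz.f} :
    Set (FreeGroup Suz.Gen))).map (PresentedGroup.mk R) = L u 6 := by
  rw [MonoidHom.map_closure]
  unfold L
  congr 1
  ext x
  simp only [Set.mem_image, Set.mem_insert_iff, Set.mem_singleton_iff, Set.mem_Iio]
  constructor
  · rintro ⟨y, (rfl | rfl | rfl | rfl | rfl | rfl), rfl⟩
    · exact ⟨2, by norm_num, rfl⟩
    · exact ⟨3, by norm_num, rfl⟩
    · exact ⟨0, by norm_num, rfl⟩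
    · exact ⟨1, by norm_num, rfl⟩
    · exact ⟨4, by norm_num, rfl⟩
    · exact ⟨5, by norm_num, rfl⟩
  · rintro ⟨i, hi, rfl⟩
    interval_cases i
    · exact ⟨Suz.c, by simp, rfl⟩
    · exact ⟨Suz.d, by simp, rfl⟩
    · exact ⟨Suz.a, by simp, rfl⟩
    · exact ⟨Suz.b, by simp, rfl⟩
    · exact ⟨Suz.e, by simp, rfl⟩
    · exact ⟨Suz.f, by simp, rfl⟩

theorem card_le : Finite (PresentedGroup R) ∧ Nat.card (PresentedGroup R) ≤ 448345497600 := by
  obtain ⟨f6, h6⟩ := upper6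
  have hidx : (L u 6).index = 1782 := by
    rw [← H_eq]
    exact Cfsg.Agent.S1680.result.1
  have hc := Subgroup.card_mul_index (L u 6)
  rw [hidx] at hc
  have := f6
  have hpos : 0 < Nat.card (L u 6) := Nat.card_pos
  refine ⟨Nat.finite_of_card_ne_zero (by omega), by omega⟩

/-- The presented Suzuki group is simple of order `448345497600`. -/
theorem main : IsSimpleGroup (PresentedGroup R) ∧ Nat.card (PresentedGroup R) = 448345497600 := by
  obtain ⟨hfin, hle⟩ := card_le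
  have := hfin
  have hsurj : Function.Surjective φ.rangeRestrict := φ.rangeRestrict_surjective
  have hcr : Nat.card φ.range = 448345497600 := by
    rw [range_φ]
    exact Cfsg.Agent.Lib.Helper19.Suz.card_G
  have hbij : Function.Bijective φ.rangeRestrict :=
    hsurj.bijective_of_nat_card_le (by rw [hcr]; exact hle)
  let e : PresentedGroup R ≃* φ.range := MulEquiv.ofBijective φ.rangeRestrict hbij
  have hcard : Nat.card (PresentedGroup R) = 448345497600 := by
    rw [Nat.card_congr e.toEquiv, hcr]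
  let e' : PresentedGroup R ≃* L s 7 := e.trans (MulEquiv.subgroupCongr range_φ)
  have := Cfsg.Agent.Lib.Helper19.Suz.simple
  exact ⟨e'.isSimpleGroup, hcard⟩

end Cfsg.Agent.Lib.Helper19.SuzPres
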